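import Cfsg.Agent.Lib.HalfDeg.Reduction

/-!
# Reduction modulo `p` keeping the degree of the minimal polynomial

This is the reduction of `Cfsg.Lib.HalfDeg.exists_modp_rep` with one more conclusion.
-/

set_option autoImplicit false
set_option linter.unusedSectionVars false
set_option linter.style.haveILetI false

namespace Cfsg.Lib.Feit

open Matrix

variable {p : ℕ} [hp : Fact p.Prime] {G : Type*} [Group G] [Finite G]

/-- A faithful complex representation reduces to a representation in characteristic `p` whose
kernel consists of `p`-elements; products of `X - ζ` over roots of unity of order `p` reduce to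
powers of `X - 1`. -/
theorem exists_modp_rep {n : ℕ} (ρ : G →* Module.End ℂ (Fin n → ℂ)) (hρ : Function.Injective ρ) :
    ∃ (k : Type) (_ : Field k) (_ : CharP k p) (_ : IsAlgClosed k)
      (ρ' : G →* Module.End k (Fin n → k)),
      (∀ g : G, ρ' g = 1 → ∃ j : ℕ, g ^ p ^ j = 1) ∧
      ∀ (g : G) (S : Finset ℕ) (c : ℕ → ℂ), (∀ x ∈ S, c x ^ p = 1) →
        Polynomial.aeval (ρ g) (∏ x ∈ S, (Polynomial.X - Polynomial.C (c x))) = 0 →
        (ρ' g - 1) ^ S.card = 0 := by
  classical
  haveI : Fintype G := Fintype.ofFinite G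
  obtain ⟨V, hV⟩ := Cfsg.Lib.Block.exists_valuationSubring_natCast p
  set m := IsLocalRing.maximalIdeal V
  let k0 := IsLocalRing.ResidueField V
  haveI : CharP k0 p := by
    have hpm : (p : V) ∈ m := by
      rw [← ValuationSubring.coe_mem_nonunits_iff]
      simpa using hV
    refine (CharP.charP_iff_prime_eq_zero hp.out).mpr ?_
    rw [← map_natCast (IsLocalRing.residue V), IsLocalRing.residue_eq_zero_iff]
    exact hpm
  haveI : CharP (AlgebraicClosure k0) p := charP_of_injective_algebraMap (algebraMap k0 _).injective p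
  let s : Finset (Fin n → ℂ) := Finset.univ.image fun x : G × Fin n => ρ x.1 (Pi.single x.2 1)
  have hs : Submodule.span ℂ (s : Set (Fin n → ℂ)) = ⊤ := by
    rw [eq_top_iff, ← (Pi.basisFun ℂ (Fin n)).span_eq, Submodule.span_le]
    rintro _ ⟨i, rfl⟩
    refine Submodule.subset_span (Finset.mem_image.2 ⟨(1, i), Finset.mem_univ _, ?_⟩)
    simp
  obtain ⟨b', hb'L, hb'V⟩ := Cfsg.Lib.HalfDeg.exists_lattice_basis V s hs
  have hfr : Module.finrank ℂ (Fin n → ℂ) = n := by simp
  let b := b'.reindex (finCongr hfr)
  have hLinv : ∀ g, ∀ w ∈ Submodule.span V (s : Set (Fin n → ℂ)),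
      ρ g w ∈ Submodule.span V (s : Set (Fin n → ℂ)) := by
    intro g w hw
    induction hw using Submodule.span_induction with
    | mem x hx =>
      obtain ⟨⟨h, i⟩, -, rfl⟩ := Finset.mem_image.1 hx
      refine Submodule.subset_span (Finset.mem_image.2 ⟨(g * h, i), Finset.mem_univ _, ?_⟩)
      rw [map_mul]; rfl
    | zero => simp
    | add x y _ _ hx hy => rw [map_add]; exact add_mem hx hy
    | smul c x _ hx =>
      rw [show c • x = (c : ℂ) • x from rfl, map_smul]
      exact Submodule.smul_mem _ c hx
  have hentry : ∀ g i j, LinearMap.toMatrixAlgEquiv b (ρ g) i j ∈ V := by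
    intro g i j
    rw [LinearMap.toMatrixAlgEquiv_apply, Module.Basis.repr_reindex_apply, Module.Basis.reindex_apply]
    exact hb'V _ (hLinv g _ (hb'L _)) _
  let R : G →* Matrix (Fin n) (Fin n) V :=
    { toFun := fun g => Matrix.of fun i j => (⟨_, hentry g i j⟩ : V)
      map_one' := by
        ext i j
        show LinearMap.toMatrixAlgEquiv b (ρ 1) i j = (((1 : Matrix (Fin n) (Fin n) V) i j : V) : ℂ)
        rw [map_one, map_one, Matrix.one_apply, Matrix.one_apply]
        split <;> simp
      map_mul' := fun g h => by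
        ext i j
        show LinearMap.toMatrixAlgEquiv b (ρ (g * h)) i j = _
        rw [map_mul, map_mul]
        simp [Matrix.mul_apply] }
  have hRinj : Function.Injective R := by
    intro g h e
    refine hρ ((LinearMap.toMatrixAlgEquiv b).injective ?_)
    ext i j
    exact congrArg Subtype.val (congrFun (congrFun e i) j)
  let φ : V →+* AlgebraicClosure k0 := (algebraMap k0 (AlgebraicClosure k0)).comp (IsLocalRing.residue V)
  let R' : G →* Module.End (AlgebraicClosure k0) (Fin n → AlgebraicClosure k0) :=
    (Matrix.toLinAlgEquiv' : Matrix (Fin n) (Fin n) (AlgebraicClosure k0) ≃ₐ[_] _).toMonoidHom.comp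
      ((φ.mapMatrix : Matrix (Fin n) (Fin n) V →+* _).toMonoidHom.comp R)
  refine ⟨AlgebraicClosure k0, inferInstance, inferInstance, inferInstance, R', fun g hg => ?_,
    fun g S c hc hS => ?_⟩
  swap
  · have hcV : ∀ x ∈ S, c x ∈ V := fun x hx => by
      rw [← ValuationSubring.valuation_le_one_iff]
      refine le_of_eq ((pow_eq_one_iff.1 (?_ : V.valuation (c x) ^ p = 1)).resolve_right hp.out.ne_zero)
      rw [← map_pow, hc x hx, map_one]
    let c' : ℕ → V := fun x => if hx : x ∈ S then ⟨c x, hcV x hx⟩ else 1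
    set Q : Polynomial V := ∏ x ∈ S, (Polynomial.X - Polynomial.C (c' x)) with hQ
    let ι : V →+* ℂ := V.subtype
    have hQι : Q.map ι = ∏ x ∈ S, (Polynomial.X - Polynomial.C (c x)) := by
      rw [hQ, Polynomial.map_prod]
      refine Finset.prod_congr rfl fun x hx => ?_
      rw [Polynomial.map_sub, Polynomial.map_X, Polynomial.map_C]
      congr 2
      simp only [ι, c', dif_pos hx]
      rfl
    have hRι : ι.mapMatrix (R g) = LinearMap.toMatrixAlgEquiv b (ρ g) := rfl
    have hzero : Polynomial.eval₂ (Matrix.scalar (Fin n) : V →+* _) (R g) Q = 0 := by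
      refine (Function.Injective.eq_iff (f := ι.mapMatrix) (fun M N e => ?_)).1 ?_
      · ext i j
        exact congrFun (congrFun e i) j
      · rw [map_zero, Polynomial.hom_eval₂, hRι]
        have e : (ι.mapMatrix : Matrix (Fin n) (Fin n) V →+* _).comp (Matrix.scalar (Fin n)) =
            (algebraMap ℂ (Matrix (Fin n) (Fin n) ℂ)).comp ι := by
          refine RingHom.ext fun a => ?_
          ext i j
          simp only [RingHom.coe_comp, Function.comp_apply, RingHom.mapMatrix_apply, Matrix.map_apply,
            Matrix.scalar_apply, Matrix.algebraMap_matrix_apply, Matrix.diagonal_apply]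
          split <;> simp
        rw [e, ← Polynomial.eval₂_map, hQι, ← Polynomial.aeval_def,
          Polynomial.aeval_algHom_apply (LinearMap.toMatrixAlgEquiv b), hS, map_zero]
    have hφc : ∀ x, φ (c' x) = 1 := fun x => by
      have h1 : (φ (c' x) - 1) ^ p = 0 := by
        rw [sub_pow_char, one_pow, ← map_pow]
        have : c' x ^ p = 1 := by
          refine Subtype.ext ?_
          by_cases hx : x ∈ S
          · simp only [c', dif_pos hx]
            simpa using hc x hx
          · simp [c', dif_neg hx]
        rw [this, map_one, sub_self]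
      exact sub_eq_zero.1 ((pow_eq_zero_iff hp.out.ne_zero).1 h1)
    have hmap := congrArg φ.mapMatrix hzero
    rw [map_zero, Polynomial.hom_eval₂] at hmap
    have e : (φ.mapMatrix : Matrix (Fin n) (Fin n) V →+* _).comp (Matrix.scalar (Fin n)) =
        (algebraMap (AlgebraicClosure k0) _).comp φ := by
      refine RingHom.ext fun a => ?_
      ext i j
      simp only [RingHom.coe_comp, Function.comp_apply, RingHom.mapMatrix_apply, Matrix.map_apply,
        Matrix.scalar_apply, Matrix.algebraMap_matrix_apply, Matrix.diagonal_apply]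
      split <;> simp
    rw [e, ← Polynomial.eval₂_map, hQ, Polynomial.map_prod, Finset.prod_congr rfl fun x _ => by
      rw [Polynomial.map_sub, Polynomial.map_X, Polynomial.map_C, hφc x, Polynomial.C_1],
      Finset.prod_const, ← Polynomial.aeval_def, map_pow, map_sub, Polynomial.aeval_X, map_one] at hmap
    refine (Matrix.toLinAlgEquiv' : Matrix (Fin n) (Fin n) (AlgebraicClosure k0) ≃ₐ[_] _).symm.injective ?_
    rw [map_zero, map_pow, map_sub, map_one]
    rw [show Matrix.toLinAlgEquiv'.symm (R' g) = φ.mapMatrix (R g) from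
      Matrix.toLinAlgEquiv'.symm_apply_apply _]
    exact hmap
  by_contra hcon
  push Not at hcon
  obtain ⟨r, hr, hrp, hrd⟩ : ∃ r, r.Prime ∧ r ≠ p ∧ r ∣ orderOf g := by
    by_contra h
    push Not at h
    obtain ⟨j, hj⟩ : ∃ j, orderOf g = p ^ j := ⟨_, Nat.eq_prime_pow_of_unique_prime_dvd
      (orderOf_pos g).ne' fun {r} hr hd => by_contra fun hne => h r hr hne hd⟩
    exact hcon j (by rw [← hj, pow_orderOf_eq_one])
  set x := g ^ (orderOf g / r) with hx
  have hxo : orderOf x = r := orderOf_pow_orderOf_div (orderOf_pos g).ne' hrd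
  have hx' : R' x = 1 := by rw [hx, map_pow, hg, one_pow]
  have hφ : φ.mapMatrix (R x) = 1 := Matrix.toLinAlgEquiv'.injective (hx'.trans (map_one _).symm)
  set Z := R x - 1 with hZ
  have hZφ : φ.mapMatrix Z = 0 := by rw [hZ, map_sub, hφ, map_one, sub_self]
  have hgeom : (∑ i ∈ Finset.range r, (R x) ^ i) * Z = 0 := by
    rw [hZ, geom_sum_mul, ← map_pow, ← hxo, pow_orderOf_eq_one, map_one, sub_self]
  have hunit : IsUnit (∑ i ∈ Finset.range r, (R x) ^ i) := by
    rw [Matrix.isUnit_iff_isUnit_det]
    have hdet : φ (∑ i ∈ Finset.range r, (R x) ^ i).det ≠ 0 := by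
      rw [RingHom.map_det, map_sum]
      simp only [map_pow, hφ, one_pow, Finset.sum_const, Finset.card_range, nsmul_one]
      rw [← Matrix.diagonal_natCast, Matrix.det_diagonal, Finset.prod_const]
      refine pow_ne_zero _ fun e => hrp ?_
      exact ((Nat.prime_dvd_prime_iff_eq hp.out hr).1 ((CharP.cast_eq_zero_iff _ p r).1 e)).symm
    by_contra hu
    refine hdet ?_
    show algebraMap k0 _ (IsLocalRing.residue V _) = 0
    rw [(IsLocalRing.residue_eq_zero_iff _).2 ((IsLocalRing.mem_maximalIdeal _).2 hu), map_zero]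
  have hZ0 : Z = 0 := by
    obtain ⟨u, hu⟩ := hunit
    rw [← hu] at hgeom
    exact u.mul_right_eq_zero.1 hgeom
  have : x = 1 := hRinj (by rw [map_one]; exact sub_eq_zero.1 hZ0)
  rw [this, orderOf_one] at hxo
  exact hr.ne_one hxo.symm

end Cfsg.Lib.Feit
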