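import Cfsg.Agent.Lib.HalfDeg.Main
import Cfsg.Agent.Lib.Char.SmallDegree
import Cfsg.Agent.Lib.Feit.ModP

/-!
# A small module in characteristic `p` forces `PSL(2, p)`

Let a group with a Sylow subgroup of order `p` that is not normal have a faithful irreducible
character of degree less than `p - 1`. A module in characteristic `p` in which an element `u` of
order `p` satisfies `(u - 1) ^ b = 0` with `2 b < p` forces the central quotient `PSL(2, p)`.
-/

set_option autoImplicit false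
set_option linter.unusedSectionVars false
set_option linter.style.haveILetI false
set_option maxHeartbeats 1000000

namespace Cfsg.Lib.Feit

open Cfsg Cfsg.Lib.Char

universe u v

/-- With many conjugate powers and a small degree an eigenspace is a line. -/
theorem exists_eigen_line {G : Type u} [Group G] [Finite G] (p : ℕ) [hp : Fact p.Prime] {W : Type*}
    [AddCommGroup W] [Module ℂ W] [FiniteDimensional ℂ W] (ρ : Representation ℂ G W) {u : G}
    (hu : u ^ p = 1) (hu1 : ρ u ≠ 1) {m : ℕ} (f : Fin m → ℕ)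
    (hf : Function.Injective fun i => (f i : ZMod p))
    (hconj : ∀ i, ∃ g, g * u * g⁻¹ = u ^ f i) (hm : Module.finrank ℂ W < 2 * m) :
    ∃ (ω : ℂ) (v : W), v ≠ 0 ∧ ρ u v = ω • v ∧ ∀ x, ρ u x = ω • x → ∃ c : ℂ, x = c • v := by
  classical
  obtain ⟨b, μ, hb, hμ⟩ := exists_eigenbasis ρ u
  obtain ⟨i₀, hi₀⟩ : ∃ i, μ i ≠ 1 := by
    by_contra hc
    push Not at hc
    exact hu1 (b.ext fun i => by rw [hb, hc, one_smul]; rfl)
  have hω : μ i₀ ^ p = 1 := by
    obtain ⟨j, hj⟩ := orderOf_dvd_of_pow_eq_one hu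
    rw [hj, pow_mul, hμ, one_pow]
  refine ⟨μ i₀, b i₀, b.ne_zero i₀, hb i₀, fun x hx => ?_⟩
  by_contra hno
  push Not at hno
  have hv0 : b i₀ ≠ 0 := b.ne_zero i₀
  choose g hg using hconj
  let w : Fin m × Bool → W := fun q => ρ (g q.1)⁻¹ (if q.2 then x else b i₀)
  have hw : ∀ q, ρ u (w q) = μ i₀ ^ f q.1 • w q := fun q => by
    have h2 : u * (g q.1)⁻¹ = (g q.1)⁻¹ * u ^ f q.1 := by rw [← hg q.1]; group
    have hpow : ∀ (j : ℕ) (y : W), ρ u y = μ i₀ • y → ρ (u ^ j) y = μ i₀ ^ j • y := fun j y hy => by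
      induction j with
      | zero => simp
      | succ l ih => rw [pow_succ', map_mul, Module.End.mul_apply, ih, map_smul, hy, smul_smul,
          ← pow_succ]
    simp only [w]
    rw [← Module.End.mul_apply, ← map_mul, h2, map_mul, Module.End.mul_apply,
      hpow _ _ (by split_ifs; exacts [hx, hb i₀]), map_smul]
  have hinj : Function.Injective fun i => μ i₀ ^ f i := fun i j h => by
    refine hf ?_
    have h' := (isOfFinOrder_iff_pow_eq_one.2 ⟨p, hp.out.pos, hω⟩).pow_eq_pow_iff_modEq.1 h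
    rw [orderOf_eq_prime hω hi₀] at h'
    exact (ZMod.natCast_eq_natCast_iff _ _ p).2 h'
  have hli : LinearIndependent ℂ w := by
    rw [Fintype.linearIndependent_iff]
    intro c hc q
    set y : Fin m → W := fun i => c (i, true) • w (i, true) + c (i, false) • w (i, false) with hy
    have hy0 : ∀ i, y i = 0 := by
      intro i
      by_contra hne
      set S := Finset.univ.filter fun i => y i ≠ 0
      have hS := Module.End.eigenvectors_linearIndependent' (ρ u) (fun i : S => μ i₀ ^ f i)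
        (fun a b h => Subtype.ext (hinj h)) (fun i : S => y i) fun i =>
          Module.End.hasEigenvector_iff.2 ⟨Module.End.mem_eigenspace_iff.2 (by
            simp only [hy]
            rw [map_add, map_smul, map_smul, hw, hw, smul_add, smul_comm, smul_comm (c (_, false))]),
            (Finset.mem_filter.1 i.2).2⟩
      refine one_ne_zero (Fintype.linearIndependent_iff.1 hS (fun _ => (1 : ℂ)) ?_
        ⟨i, Finset.mem_filter.2 ⟨Finset.mem_univ _, hne⟩⟩)
      simp only [one_smul]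
      rw [Finset.sum_coe_sort S y, Finset.sum_filter_ne_zero, ← hc, Fintype.sum_prod_type]
      simp [hy]
    obtain ⟨i, e⟩ := q
    have h := congrArg (ρ (g i)) (hy0 i)
    simp only [hy, w, map_add, map_smul, map_zero, if_true, Bool.false_eq_true, if_false] at h
    rw [← Module.End.mul_apply, ← Module.End.mul_apply, ← map_mul, mul_inv_cancel, map_one,
      Module.End.one_apply, Module.End.one_apply] at h
    rcases eq_or_ne (c (i, true)) 0 with h0 | h0
    · rw [h0, zero_smul, zero_add, smul_eq_zero] at h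
      cases e
      · exact h.resolve_right hv0
      · exact h0
    · exact absurd (by
        rw [← eq_neg_iff_add_eq_zero, ← neg_smul] at h
        rw [mul_smul, ← h, smul_smul, inv_mul_cancel₀ h0, one_smul])
        (hno ((c (i, true))⁻¹ * -c (i, false)))
  have := hli.fintype_card_le_finrank
  rw [Fintype.card_prod, Fintype.card_fin, Fintype.card_bool] at this
  omega

/-- The homomorphism of the quotient by the kernel into a monoid is injective. -/
theorem lift_ker_injective {A : Type u} [Group A] {M : Type*} [Monoid M] (φ : A →* M) :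
    Function.Injective (QuotientGroup.lift φ.ker φ le_rfl) := by
  intro x y
  refine QuotientGroup.induction_on x fun a => QuotientGroup.induction_on y fun b h => ?_
  rw [QuotientGroup.lift_mk, QuotientGroup.lift_mk] at h
  rw [QuotientGroup.eq, MonoidHom.mem_ker, map_mul, ← h, ← map_mul, inv_mul_cancel, map_one]

variable {p : ℕ} [hp : Fact p.Prime] {G : Type u} [Group G] [Fintype G] {u : G}

theorem not_sq_dvd (hfac : (Nat.card G).factorization p = 1) : ¬ p ^ 2 ∣ Nat.card G := fun h => by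
  have := (hp.out.pow_dvd_iff_le_factorization Nat.card_pos.ne').1 h
  omega

/-- A normal subgroup avoiding `u` has order prime to `p` and is centralized by `u`. -/
theorem commute_normal (hfac : (Nat.card G).factorization p = 1) (hu : orderOf u = p) {χ : G → ℂ}
    (hχ : IsCharacter G χ) (hfaith : ∀ g : G, χ g = χ 1 → g = 1) {n : ℕ} (hn : χ 1 = (n : ℂ))
    (hnp : n + 1 < p) (K : Subgroup G) [K.Normal] (huK : u ∉ K) :
    ¬ p ∣ Nat.card K ∧ ∀ z ∈ K, Commute z u := by
  have hK : ¬ p ∣ Nat.card K := fun hd => by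
    obtain ⟨⟨x, hx⟩, hxo⟩ := exists_prime_orderOf_dvd_card' p hd
    rw [Subgroup.orderOf_mk] at hxo
    obtain ⟨h, i, rfl⟩ := Cfsg.Lib.HalfDeg.exists_conj_pow (not_sq_dvd hfac) hxo hu
    exact huK (Subgroup.Normal.conj_mem inferInstance _ (pow_mem hx i) h)
  exact ⟨hK, fun z hz => (small_degree_comm hχ hfaith hn hnp K hK 1 u
    (by rw [pow_one, ← hu, pow_orderOf_eq_one]) z hz).symm⟩

/-- If `g` conjugates `u` into its powers times a `p'`-subgroup centralizing `u`, it normalizes. -/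
theorem conj_mem_zpowers (hu : orderOf u = p) {K : Subgroup G} (hK : ¬ p ∣ Nat.card K)
    (hcomm : ∀ z ∈ K, Commute z u) {g : G} {j : ℤ} (h : (u ^ j)⁻¹ * (g * u * g⁻¹) ∈ K) :
    g * u * g⁻¹ = u ^ j := by
  set z := (u ^ j)⁻¹ * (g * u * g⁻¹) with hz
  have hcom : Commute (u ^ j) z := ((hcomm z h).zpow_right j).symm
  have hup : u ^ p = 1 := by rw [← hu, pow_orderOf_eq_one]
  have h2 : (u ^ j * z) ^ p = 1 := by
    rw [hz, mul_inv_cancel_left, conj_pow, hup, mul_one, mul_inv_cancel]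
  rw [hcom.mul_pow, ← zpow_natCast, ← zpow_mul, mul_comm, zpow_mul, zpow_natCast, hup, one_zpow,
    one_mul] at h2
  rcases (Nat.dvd_prime hp.out).1 (orderOf_dvd_of_pow_eq_one h2) with h3 | h3
  · rw [orderOf_eq_one_iff, hz, inv_mul_eq_one] at h3
    exact h3.symm
  · exact absurd (h3 ▸ Subgroup.orderOf_dvd_natCard K h) hK

/-- A small module gives a homomorphism to `PGL₂` that is nontrivial at `u`. -/
theorem exists_pgl_of_small (hp2 : p ≠ 2) (hfac : (Nat.card G).factorization p = 1)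
    (hu : orderOf u = p) (hnn : ¬ (Subgroup.zpowers u).Normal)
    {k : Type v} [Field k] [CharP k p] [IsAlgClosed k] {V : Type*} [AddCommGroup V] [Module k V]
    [FiniteDimensional k V] (ρ : G →* Module.End k V) (hρu : ρ u ≠ 1) {b : ℕ}
    (hb : (ρ u - 1) ^ b = 0) (hbp : 2 * b < p) (hK0 : ¬ p ∣ Nat.card ρ.ker)
    (hK0c : ∀ z ∈ ρ.ker, Commute z u) :
    ∃ ψ : G →* Matrix.ProjGenLinGroup (Fin 2) k, ψ u ≠ 1 := by
  classical
  have hup : u ^ p = 1 := by rw [← hu, pow_orderOf_eq_one]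
  have hsq := not_sq_dvd hfac
  -- pass to the image
  let ρ₁ : (G ⧸ ρ.ker) →* Module.End k V := QuotientGroup.lift ρ.ker ρ le_rfl
  have hu1 : ((u : G ⧸ ρ.ker)) ≠ 1 := fun h => hρu ((QuotientGroup.eq_one_iff u).1 h)
  have hnn1 : ¬ (Subgroup.zpowers (u : G ⧸ ρ.ker)).Normal := fun hN => hnn ⟨fun x hx g => by
    obtain ⟨i, rfl⟩ := hx
    obtain ⟨j, hj⟩ := hN.conj_mem _ (Subgroup.mem_zpowers (u : G ⧸ ρ.ker)) (g : G ⧸ ρ.ker)
    have e : (u ^ j)⁻¹ * (g * u * g⁻¹) ∈ ρ.ker := by
      rw [← QuotientGroup.eq_one_iff, QuotientGroup.mk_mul, QuotientGroup.mk_inv,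
        QuotientGroup.mk_zpow, QuotientGroup.mk_mul, QuotientGroup.mk_mul, QuotientGroup.mk_inv]
      simp only at hj
      rw [hj, inv_mul_cancel]
    show g * u ^ i * g⁻¹ ∈ _
    rw [← conj_zpow, conj_mem_zpowers hu hK0 hK0c e]
    exact Subgroup.zpow_mem _ (Subgroup.zpow_mem _ (Subgroup.mem_zpowers u) j) i⟩
  have hu' : (u : G ⧸ ρ.ker) ^ p = 1 := by rw [← QuotientGroup.mk_pow, hup, QuotientGroup.mk_one]
  have hb' : (ρ₁ (u : G ⧸ ρ.ker) - 1) ^ b = 0 := by
    rw [show ρ₁ (u : G ⧸ ρ.ker) = ρ u from rfl]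
    exact hb
  have hsq1 : ¬ p ^ 2 ∣ Nat.card (G ⧸ ρ.ker) := fun h =>
    hsq (h.trans (Subgroup.card_quotient_dvd_card ρ.ker))
  obtain ⟨ψ₁, hψ₁u, -⟩ := Cfsg.Lib.HalfDeg.exists_toPGL hp2 ρ₁ (lift_ker_injective ρ)
    hu' hu1 hsq1 hnn1 hb' hbp
  exact ⟨ψ₁.comp (QuotientGroup.mk' ρ.ker), hψ₁u⟩

/-- A normal subgroup preserving an eigenspace that is a line is abelian. -/
theorem comm_of_line {W : Type*} [AddCommGroup W] [Module ℂ W] (σ : Representation ℂ G W)
    (hσ : σ.IsIrreducible) (hσinj : ∀ g, σ g = 1 → g = 1) (K : Subgroup G) [K.Normal]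
    (hKc : ∀ z ∈ K, Commute z u) {ω : ℂ} {v : W} (hv0 : v ≠ 0) (hv : σ u v = ω • v)
    (hline : ∀ x, σ u x = ω • x → ∃ c : ℂ, x = c • v) :
    ∀ a ∈ K, ∀ c ∈ K, Commute a c := by
  -- the kernel is abelian
  have hscal : ∀ a ∈ K, ∃ c : ℂ, σ a v = c • v := fun a ha => hline _ (by
    rw [← Module.End.mul_apply, ← map_mul, ← (hKc a ha).eq, map_mul, Module.End.mul_apply, hv,
      map_smul])
  let S : Subrepresentation σ :=
    { toSubmodule :=
        { carrier := {x | ∀ a ∈ K, ∀ c ∈ K, σ (a * c * a⁻¹ * c⁻¹) x = x}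
          zero_mem' := fun _ _ _ _ => map_zero _
          add_mem' := fun hx hy a ha c hc => by rw [map_add, hx a ha c hc, hy a ha c hc]
          smul_mem' := fun r x hx a ha c hc => by rw [map_smul, hx a ha c hc] }
      apply_mem_toSubmodule := fun g x hx a ha c hc => by
        have key := hx (g⁻¹ * a * g) (by
            simpa using (‹K.Normal›).conj_mem a ha g⁻¹) (g⁻¹ * c * g) (by
            simpa using (‹K.Normal›).conj_mem c hc g⁻¹)
        have e1 : g⁻¹ * a * g * (g⁻¹ * c * g) * (g⁻¹ * a * g)⁻¹ * (g⁻¹ * c * g)⁻¹ =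
            g⁻¹ * ((a * c * a⁻¹ * c⁻¹) * g) := by group
        rw [e1, map_mul, map_mul, Module.End.mul_apply, Module.End.mul_apply] at key
        have key' := congrArg (σ g) key
        rwa [← Module.End.mul_apply, ← map_mul, mul_inv_cancel, map_one, Module.End.one_apply]
          at key' }
  have hvS : v ∈ S.toSubmodule := fun a ha c hc => by
    obtain ⟨x, hx⟩ := hscal a ha
    obtain ⟨y, hy⟩ := hscal c hc
    obtain ⟨x', hx'⟩ := hscal a⁻¹ (inv_mem ha)
    obtain ⟨y', hy'⟩ := hscal c⁻¹ (inv_mem hc)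
    have h1 : (x * x') • v = v := by
      rw [mul_comm, mul_smul, ← hx, ← map_smul, ← hx', ← Module.End.mul_apply, ← map_mul]
      simp
    have h2 : (y * y') • v = v := by
      rw [mul_comm, mul_smul, ← hy, ← map_smul, ← hy', ← Module.End.mul_apply, ← map_mul]
      simp
    simp only [map_mul, Module.End.mul_apply, hy', map_smul, hx', hy, hx, smul_smul]
    rw [show y' * (x' * (y * x)) = (x * x') * (y * y') by ring, mul_smul, h2, h1]
  rcases hσ.eq_bot_or_eq_top S with h | h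
  · rw [h] at hvS
    exact absurd hvS hv0
  · intro a ha c hc
    have h1 : a * c * a⁻¹ * c⁻¹ = 1 := hσinj _ (LinearMap.ext fun x => by
      have hx : x ∈ S.toSubmodule := by rw [h]; trivial
      exact hx a ha c hc)
    rw [mul_inv_eq_one, mul_inv_eq_iff_eq_mul] at h1
    exact h1

/-- A small module in characteristic `p` forces `PSL(2, p)` and all squares as exponents. -/
theorem psl_of_small (hp5 : 5 ≤ p) (hfac : (Nat.card G).factorization p = 1) (hu : orderOf u = p)
    (hnn : ¬ (Subgroup.zpowers u).Normal) {χ : G → ℂ} (hχ : IsIrrCharacter G χ)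
    (hfaith : ∀ g : G, χ g = χ 1 → g = 1) {n : ℕ} (hn : χ 1 = (n : ℂ)) (hnp : n + 1 < p)
    {k : Type v} [Field k] [CharP k p] [IsAlgClosed k] {V : Type*} [AddCommGroup V] [Module k V]
    [FiniteDimensional k V] (ρ : G →* Module.End k V) (hρu : ρ u ≠ 1) {b : ℕ}
    (hb : (ρ u - 1) ^ b = 0) (hbp : 2 * b < p) :
    Nonempty ((G ⧸ Subgroup.center G) ≃* Matrix.ProjectiveSpecialLinearGroup (Fin 2) (ZMod p)) ∧
      (∀ c : ℕ, ¬ p ∣ c → ∃ g, g * u * g⁻¹ = u ^ (c * c)) ∧ p ≤ 2 * n + 1 := by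
  classical
  have hp2 : p ≠ 2 := by omega
  have hup : u ^ p = 1 := by rw [← hu, pow_orderOf_eq_one]
  have hsq := not_sq_dvd hfac
  obtain ⟨hK0, hK0c⟩ := commute_normal hfac hu hχ.isCharacter hfaith hn hnp ρ.ker
    (fun h => hρu h)
  obtain ⟨ψ, hψu⟩ := exists_pgl_of_small hp2 hfac hu hnn ρ hρu hb hbp hK0 hK0c
  obtain ⟨-, hKc⟩ := commute_normal hfac hu hχ.isCharacter hfaith hn hnp ψ.ker fun h => hψu h
  obtain ⟨N, σ, hσ, hσχ⟩ := hχ
  subst hσχ
  have hfr : Module.finrank ℂ (Fin N → ℂ) = n := by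
    rw [Representation.char_one] at hn
    exact_mod_cast hn
  have hσinj : ∀ g, σ g = 1 → g = 1 := fun g hg => hfaith g (by
    show LinearMap.trace ℂ _ (σ g) = LinearMap.trace ℂ _ (σ 1)
    rw [hg, map_one σ])
  have hσu : σ u ≠ 1 := fun h => by
    rw [hσinj u h, orderOf_one] at hu
    exact hp.out.ne_one hu.symm
  rcases Cfsg.Lib.HalfDeg.group_cases hp5 hsq hup ψ hψu hKc hnn with hall | ⟨⟨e⟩, hsquares⟩
  · exfalso
    have h := (Cfsg.Lib.HalfDeg.eigen_count p σ hup hσu
      (fun i : Fin (p - 1) => (i : ℕ) + 1) (fun i j h => by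
        have h' := (ZMod.natCast_eq_natCast_iff' _ _ p).1 h
        rw [Nat.mod_eq_of_lt (by omega), Nat.mod_eq_of_lt (by omega)] at h'
        exact Fin.ext (by omega))
      (fun i => hall _ (fun h => by have := Nat.le_of_dvd (by omega) h; omega))).1
    omega
  have hodd : p = 2 * ((p - 1) / 2) + 1 := by
    obtain ⟨a, ha⟩ := hp.out.odd_of_ne_two hp2
    omega
  set m := (p - 1) / 2
  have hfinj : Function.Injective fun i : Fin m =>
      ((((i : ℕ) + 1) * ((i : ℕ) + 1) : ℕ) : ZMod p) := fun i j h => by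
    simp only [Nat.cast_mul] at h
    have hfac : ((((i : ℕ) + 1 : ℕ) : ZMod p) - (((j : ℕ) + 1 : ℕ) : ZMod p)) *
        ((((i : ℕ) + 1 : ℕ) : ZMod p) + (((j : ℕ) + 1 : ℕ) : ZMod p)) = 0 := by
      linear_combination h
    rcases mul_eq_zero.1 hfac with h' | h'
    · have h'' := (ZMod.natCast_eq_natCast_iff' _ _ p).1 (sub_eq_zero.1 h')
      rw [Nat.mod_eq_of_lt (by omega), Nat.mod_eq_of_lt (by omega)] at h''
      exact Fin.ext (by omega)
    · rw [← Nat.cast_add, CharP.cast_eq_zero_iff (ZMod p) p] at h'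
      have := Nat.le_of_dvd (by omega) h'
      omega
  have hfconj : ∀ i : Fin m, ∃ g, g * u * g⁻¹ = u ^ (((i : ℕ) + 1) * ((i : ℕ) + 1)) := fun i =>
    hsquares _ fun h => by have := Nat.le_of_dvd (by omega) h; omega
  have hmn : m ≤ n := hfr ▸ (Cfsg.Lib.HalfDeg.eigen_count p σ hup hσu _ hfinj hfconj).1
  obtain ⟨ω, v, hv0, hv, hline⟩ := exists_eigen_line p σ hup hσu _ hfinj hfconj (by omega)
  have hKab := comm_of_line σ hσ hσinj ψ.ker hKc hv0 hv hline
  haveI : IsSimpleGroup (Matrix.ProjectiveSpecialLinearGroup (Fin 2) (ZMod p)) :=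
    Matrix.ProjectiveSpecialLinearGroup.rank_two_simple (by
      rw [Nat.card_eq_fintype_card, ZMod.card]; omega)
  let π : G →* Matrix.ProjectiveSpecialLinearGroup (Fin 2) (ZMod p) :=
    e.toMonoidHom.comp (QuotientGroup.mk' ψ.ker)
  have hπ : Function.Surjective π := e.surjective.comp (QuotientGroup.mk'_surjective _)
  have hπker : ∀ g, π g = 1 ↔ g ∈ ψ.ker := fun g => by
    show e (QuotientGroup.mk' ψ.ker g) = 1 ↔ _
    rw [e.map_eq_one_iff, QuotientGroup.mk'_apply, QuotientGroup.eq_one_iff]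
  set C := Subgroup.centralizer (ψ.ker : Set G)
  have hKC : ψ.ker ≤ C := fun x hx => Subgroup.mem_centralizer_iff.2 fun y hy => (hKab y hy x hx).eq
  have huC : u ∈ C := Subgroup.mem_centralizer_iff.2 fun y hy => (hKc y hy).eq
  have hmap : C.map π = ⊤ := by
    refine (IsSimpleGroup.eq_bot_or_eq_top_of_normal (C.map π)
      (Subgroup.Normal.map inferInstance π hπ)).resolve_left fun h => ?_
    have hm : π u ∈ C.map π := Subgroup.mem_map_of_mem _ huC
    rw [h, Subgroup.mem_bot, hπker] at hm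
    exact hψu hm
  have hKcenter : ψ.ker ≤ Subgroup.center G := by
    intro x hx
    rw [Subgroup.mem_center_iff]
    intro g
    obtain ⟨c, hc, hcg⟩ := (Subgroup.mem_map.1 (hmap ▸ Subgroup.mem_top (π g)) : _)
    have hmem : c⁻¹ * g ∈ C := hKC ((hπker _).1 (by rw [map_mul, map_inv, hcg, inv_mul_cancel]))
    have hg : g ∈ C := by simpa using mul_mem hc hmem
    exact (Subgroup.mem_centralizer_iff.1 hg x hx).symm
  have hcenter : Subgroup.center G = ψ.ker := by
    refine le_antisymm (fun x hx => ?_) hKcenter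
    rw [← hπker]
    have hmem : π x ∈ Subgroup.center (Matrix.ProjectiveSpecialLinearGroup (Fin 2) (ZMod p)) := by
      rw [Subgroup.mem_center_iff]
      intro y
      obtain ⟨g, rfl⟩ := hπ y
      rw [← map_mul, ← map_mul, Subgroup.mem_center_iff.1 hx g]
    rcases IsSimpleGroup.eq_bot_or_eq_top_of_normal
      (Subgroup.center (Matrix.ProjectiveSpecialLinearGroup (Fin 2) (ZMod p))) inferInstance with h | h
    · rwa [h, Subgroup.mem_bot] at hmem
    · exfalso
      refine Cfsg.Lib.Dickson.not_isSolvable_psl (K := ZMod p) (by rw [ZMod.card]; omega)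
        (IsSimpleGroup.comm_iff_isSolvable.1 fun a b => ?_)
      exact (Subgroup.mem_center_iff.1 (h ▸ Subgroup.mem_top b) a)
  exact ⟨⟨(QuotientGroup.quotientMulEquivOfEq hcenter).trans e⟩, hsquares, by omega⟩

/-- A complex representation in which `u` has at most `e` eigenvalues, `2 e < p`, or degree below
`p / 2`, gives a small module in characteristic `p`. -/
theorem psl_of_complex (hp5 : 5 ≤ p) (hfac : (Nat.card G).factorization p = 1) (hu : orderOf u = p)
    (hnn : ¬ (Subgroup.zpowers u).Normal) {χ : G → ℂ} (hχ : IsIrrCharacter G χ)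
    (hfaith : ∀ g : G, χ g = χ 1 → g = 1) {n : ℕ} (hn : χ 1 = (n : ℂ)) (hnp : n + 1 < p)
    {N : ℕ} (σ : G →* Module.End ℂ (Fin N → ℂ)) (hσu : σ u ≠ 1)
    (h : 2 * N < p ∨ ∃ (S : Finset ℕ) (c : ℕ → ℂ), 2 * S.card < p ∧ (∀ x ∈ S, c x ^ p = 1) ∧
      Polynomial.aeval (σ u) (∏ x ∈ S, (Polynomial.X - Polynomial.C (c x))) = 0) :
    Nonempty ((G ⧸ Subgroup.center G) ≃* Matrix.ProjectiveSpecialLinearGroup (Fin 2) (ZMod p)) ∧
      (∀ c : ℕ, ¬ p ∣ c → ∃ g, g * u * g⁻¹ = u ^ (c * c)) ∧ p ≤ 2 * n + 1 := by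
  classical
  have hup : u ^ p = 1 := by rw [← hu, pow_orderOf_eq_one]
  obtain ⟨hK0, hK0c⟩ := commute_normal hfac hu hχ.isCharacter hfaith hn hnp σ.ker (fun h => hσu h)
  let σ₁ : (G ⧸ σ.ker) →* Module.End ℂ (Fin N → ℂ) := QuotientGroup.lift σ.ker σ le_rfl
  obtain ⟨k, _, _, _, ρ', hker, hpoly⟩ :=
    exists_modp_rep (p := p) σ₁ (lift_ker_injective σ)
  let ρ : G →* Module.End k (Fin N → k) := ρ'.comp (QuotientGroup.mk' σ.ker)
  have hρu : ρ u ≠ 1 := by
    intro h1
    refine hnn ⟨fun x hx g => ?_⟩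
    obtain ⟨i, rfl⟩ := hx
    have hK : IsPGroup p ρ'.ker := fun x => by
      obtain ⟨j, hj⟩ := hker x x.2
      exact ⟨j, Subtype.ext hj⟩
    obtain ⟨m, hm⟩ := IsPGroup.iff_card.1 hK
    have hm1 : m ≤ 1 := by
      by_contra hlt
      refine not_sq_dvd hfac ((pow_dvd_pow p (by omega : 2 ≤ m)).trans ?_)
      rw [← hm]
      exact (Subgroup.card_subgroup_dvd_card _).trans (Subgroup.card_quotient_dvd_card σ.ker)
    have hu1 : ((u : G ⧸ σ.ker)) ≠ 1 := fun h => hσu ((QuotientGroup.eq_one_iff u).1 h)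
    have ho : orderOf (u : G ⧸ σ.ker) = p :=
      orderOf_eq_prime (by rw [← QuotientGroup.mk_pow, hup, QuotientGroup.mk_one]) hu1
    have hz : Subgroup.zpowers (u : G ⧸ σ.ker) = ρ'.ker := by
      refine Subgroup.eq_of_le_of_card_ge (Subgroup.zpowers_le.2 (MonoidHom.mem_ker.2 h1)) ?_
      rw [hm, Nat.card_zpowers, ho]
      exact (Nat.pow_le_pow_right hp.out.pos hm1).trans_eq (pow_one p)
    obtain ⟨j, hj⟩ := (hz.symm ▸ MonoidHom.normal_ker ρ' :
      (Subgroup.zpowers (u : G ⧸ σ.ker)).Normal).conj_mem _ (Subgroup.mem_zpowers _) (g : G ⧸ σ.ker)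
    have e : (u ^ j)⁻¹ * (g * u * g⁻¹) ∈ σ.ker := by
      rw [← QuotientGroup.eq_one_iff, QuotientGroup.mk_mul, QuotientGroup.mk_inv,
        QuotientGroup.mk_zpow, QuotientGroup.mk_mul, QuotientGroup.mk_mul, QuotientGroup.mk_inv]
      simp only at hj
      rw [hj, inv_mul_cancel]
    show g * u ^ i * g⁻¹ ∈ _
    rw [← conj_zpow, conj_mem_zpowers hu hK0 hK0c e]
    exact Subgroup.zpow_mem _ (Subgroup.zpow_mem _ (Subgroup.mem_zpowers u) j) i
  rcases h with h | ⟨S, c, hS, hc, hSc⟩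
  · refine psl_of_small hp5 hfac hu hnn hχ hfaith hn hnp ρ hρu (b := N) ?_ h
    rcases Nat.eq_zero_or_pos N with rfl | hN
    · exact absurd (LinearMap.ext fun v => Subsingleton.elim _ _) hρu
    haveI : NeZero N := ⟨hN.ne'⟩
    haveI : CharP (Module.End k (Fin N → k)) p :=
      charP_of_injective_algebraMap (algebraMap k _).injective p
    have h1 : (ρ u - 1) ^ p = 0 := by
      rw [sub_pow_char_of_commute p (Commute.one_right _), ← map_pow, hup, map_one, one_pow, sub_self]
    have h2 := LinearMap.aeval_self_charpoly (ρ u - 1)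
    rw [(IsNilpotent.charpoly_eq_X_pow_finrank ⟨p, h1⟩), map_pow, Polynomial.aeval_X] at h2
    simpa using h2
  · have hb : (ρ u - 1) ^ S.card = 0 := by
      have hρ : ρ u = ρ' (u : G ⧸ σ.ker) := rfl
      have hσ₁ : σ₁ (u : G ⧸ σ.ker) = σ u := rfl
      rw [hρ]
      exact hpoly (u : G ⧸ σ.ker) S c hc (by rw [hσ₁]; exact hSc)
    exact psl_of_small hp5 hfac hu hnn hχ hfaith hn hnp ρ hρu hb hS

end Cfsg.Lib.Feit
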