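import Cfsg.Agent.Lib.HalfDeg.Low

/-!
# A submodule from a string of small length

Let `u` of order `p` act with `(u - 1) ^ (p - 2) = 0` and let `s` be the length of one of its
strings. Then there is an invariant subspace on which `u - 1` is nonzero with `s`-th power zero.
-/

set_option autoImplicit false
set_option linter.unusedSectionVars false
set_option linter.style.haveILetI false
set_option maxHeartbeats 1000000

namespace Cfsg.Lib.Feit

open Cfsg.Lib.HalfDeg

universe u v

variable {p : ℕ} [hp : Fact p.Prime] {k : Type v} [Field k] [CharP k p] {G : Type u} [Group G]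
  [Finite G] {M : Type*} [AddCommGroup M] [Module k M] [FiniteDimensional k M]
  (τ : G →* Module.End k M) {u : G}

/-- An operator from a string: it commutes with `D`, is killed by `D ^ s` and has trace `s`. -/
theorem exists_string_operator (D : Module.End k M) {s : ℕ} {Y : M} (hY : (D ^ s) Y = 0)
    (hY' : (D ^ (s - 1)) Y ∉ LinearMap.range (D ^ s)) (hs : 1 ≤ s) :
    ∃ π : Module.End k M, Commute π D ∧ D ^ s * π = 0 ∧ LinearMap.trace k M π = (s : k) ∧
      ∀ x, D x = 0 → π x ∈ LinearMap.range (D ^ (s - 1)) := by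
  obtain ⟨μ₀, hμ₀, hμR⟩ := Submodule.exists_dual_map_eq_bot_of_notMem hY' inferInstance
  have hker : ∀ v, μ₀ ((D ^ s) v) = 0 := fun v => by
    have h : μ₀ ((D ^ s) v) ∈ (LinearMap.range (D ^ s)).map μ₀ :=
      Submodule.mem_map_of_mem (LinearMap.mem_range_self _ v)
    rwa [hμR, Submodule.mem_bot] at h
  let μ : M →ₗ[k] k := (μ₀ ((D ^ (s - 1)) Y))⁻¹ • μ₀
  have hμ1 : μ ((D ^ (s - 1)) Y) = 1 := inv_mul_cancel₀ hμ₀
  have hμ0 : ∀ v, μ ((D ^ s) v) = 0 := fun v => by simp [μ, hker]
  let π : Module.End k M :=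
    ∑ j ∈ Finset.range s, (μ.comp (D ^ (s - 1 - j))).smulRight ((D ^ j) Y)
  have happ : ∀ v, π v = ∑ j ∈ Finset.range s, μ ((D ^ (s - 1 - j)) v) • (D ^ j) Y := fun v => by
    simp [π, LinearMap.sum_apply]
  refine ⟨π, LinearMap.ext fun v => ?_, LinearMap.ext fun v => ?_, ?_, fun x hx => ?_⟩
  · rw [Module.End.mul_apply, Module.End.mul_apply, happ, happ, map_sum]
    obtain ⟨t, rfl⟩ : ∃ t, s = t + 1 := ⟨s - 1, by omega⟩
    rw [Finset.sum_range_succ' (fun j => μ ((D ^ (t + 1 - 1 - j)) (D v)) • (D ^ j) Y),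
      Finset.sum_range_succ (fun j => D (μ ((D ^ (t + 1 - 1 - j)) v) • (D ^ j) Y))]
    congr 1
    · refine Finset.sum_congr rfl fun j hj => ?_
      have := Finset.mem_range.1 hj
      rw [map_smul, ← Module.End.mul_apply D, ← pow_succ', ← Module.End.mul_apply _ D, ← pow_succ,
        show t + 1 - 1 - (j + 1) + 1 = t + 1 - 1 - j by omega]
    · rw [map_smul, ← Module.End.mul_apply _ D, ← pow_succ, Nat.sub_zero,
        show t + 1 - 1 + 1 = t + 1 from rfl, hμ0, zero_smul, ← Module.End.mul_apply D, ← pow_succ',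
        hY, smul_zero]
  · rw [Module.End.mul_apply, happ, map_sum, LinearMap.zero_apply]
    refine Finset.sum_eq_zero fun j _ => ?_
    rw [map_smul, ← Module.End.mul_apply, ← pow_add, pow_kill_mono (by omega : s ≤ s + j) hY,
      smul_zero]
  · simp only [π, map_sum, LinearMap.trace_smulRight, LinearMap.comp_apply]
    rw [Finset.sum_congr rfl (g := fun _ => (1 : k)) fun j hj => ?_, Finset.sum_const,
      Finset.card_range, nsmul_one]
    rw [← Module.End.mul_apply, ← pow_add,
      show s - 1 - j + j = s - 1 by have := Finset.mem_range.1 hj; omega, hμ1]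
  · rw [happ, Finset.sum_eq_single (s - 1)]
    · exact Submodule.smul_mem _ _ (LinearMap.mem_range_self _ Y)
    · intro j hj hne
      have := Finset.mem_range.1 hj
      rw [pow_kill_mono (show 1 ≤ s - 1 - j by omega) (by rwa [pow_one]), map_zero, zero_smul]
    · intro h
      exact absurd (Finset.mem_range.2 (by omega)) h

/-- The idempotent of the averaged string operator. -/
theorem exists_string_idem (hu : orderOf u = p) (hfac : (Nat.card G).factorization p = 1) {s : ℕ}
    (hs : 2 ≤ s) (hsp : s < p) {Y : M} (hY : ((τ u - 1) ^ s) Y = 0)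
    (hY' : ((τ u - 1) ^ (s - 1)) Y ∉ LinearMap.range ((τ u - 1) ^ s)) :
    ∃ e : Module.End k M, IsIdempotentElem e ∧
      (∀ g ∈ Subgroup.normalizer (Subgroup.zpowers u : Set G), Commute (τ g) e) ∧
      (τ u - 1) ^ s * e = 0 ∧ (τ u - 1) * e ≠ 0 := by
  classical
  set D := τ u - 1 with hD
  obtain ⟨π, hπD, hπs, hπtr, hπker⟩ := exists_string_operator D hY hY' (by omega)
  set P := Subgroup.zpowers u with hP
  set Nm := Subgroup.normalizer (P : Set G) with hNm
  set P' := P.subgroupOf Nm
  have hinv : ∀ g : G, τ g * τ g⁻¹ = 1 := fun g => by rw [← map_mul, mul_inv_cancel, map_one]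
  have hinv' : ∀ g : G, τ g⁻¹ * τ g = 1 := fun g => by rw [← map_mul, inv_mul_cancel, map_one]
  have hπu : Commute π (τ u) := by
    have : τ u = 1 + D := by rw [hD]; abel
    rw [this]
    exact (Commute.one_right π).add_right hπD
  have hπP : ∀ x ∈ P, Commute π (τ x) := fun x hx => by
    obtain ⟨i, -, rfl⟩ := ((isOfFinOrder_of_finite u).mem_zpowers_iff_mem_range_orderOf.1 hx) |>
      Finset.mem_image.1
    rw [map_pow]
    exact hπu.pow_right i
  -- `D` moves through the normalizer up to a commuting factor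
  have hmove : ∀ g ∈ Nm, ∀ n : ℕ, ∃ c : Module.End k M,
      D ^ n * τ g = τ g * (c * D ^ n) ∧ Commute c D ∧ ∃ c' : Module.End k M,
        τ g * D ^ n = c' * (D ^ n * τ g) ∧ Commute c' D := by
    intro g hg n
    have key : ∀ g ∈ Nm, ∃ c : Module.End k M, D * τ g = τ g * (c * D) ∧ Commute c D ∧
        ∀ n : ℕ, D ^ n * τ g = τ g * ((c ^ n) * D ^ n) := by
      intro g hg
      have hm : g⁻¹ * u * g ∈ P := by
        have := (Subgroup.mem_normalizer_iff.1 (inv_mem hg) u).1 (Subgroup.mem_zpowers u)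
        rwa [inv_inv] at this
      obtain ⟨i, -, hi⟩ := ((isOfFinOrder_of_finite u).mem_zpowers_iff_mem_range_orderOf.1 hm) |>
        Finset.mem_image.1
      refine ⟨∑ j ∈ Finset.range i, τ u ^ j, ?_, ?_, ?_⟩
      rotate_left
      · exact Commute.sum_left _ _ _ fun j _ =>
          ((Commute.refl (τ u)).sub_right (Commute.one_right _)).pow_left j
      all_goals
        have h1 : D * τ g = τ g * ((∑ j ∈ Finset.range i, τ u ^ j) * D) := by
          rw [hD, geom_sum_mul, mul_sub, sub_mul, one_mul, mul_one, ← map_pow, ← map_mul, ← map_mul,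
            hi, ← mul_assoc, ← mul_assoc, mul_inv_cancel, one_mul]
      · intro n
        have hc : Commute (∑ j ∈ Finset.range i, τ u ^ j) D := Commute.sum_left _ _ _ fun j _ =>
          ((Commute.refl (τ u)).sub_right (Commute.one_right _)).pow_left j
        induction n with
        | zero => simp
        | succ l ih =>
          rw [pow_succ', mul_assoc, ih, ← mul_assoc, h1, pow_succ' (∑ j ∈ Finset.range i, τ u ^ j)]
          simp only [mul_assoc]
          rw [← mul_assoc D, ← (hc.pow_left l).eq, mul_assoc]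
      · exact h1
    obtain ⟨c, -, hc, hcn⟩ := key g hg
    obtain ⟨c₁, -, hc₁, hc₁n⟩ := key g⁻¹ (inv_mem hg)
    refine ⟨c ^ n, hcn n, hc.pow_left n, c₁ ^ n, ?_, hc₁.pow_left n⟩
    have e : τ g * D ^ n * τ g⁻¹ = c₁ ^ n * D ^ n := by
      rw [mul_assoc, hc₁n n, ← mul_assoc, hinv, one_mul]
    calc τ g * D ^ n = τ g * D ^ n * τ g⁻¹ * τ g := by rw [mul_assoc (τ g * D ^ n), hinv', mul_one]
      _ = c₁ ^ n * (D ^ n * τ g) := by rw [e, mul_assoc]
  -- the average
  haveI : Fintype (Nm ⧸ P') := Fintype.ofFinite _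
  let F : Nm ⧸ P' → Module.End k M :=
    Quotient.lift (fun g : Nm => τ g * π * τ (g : G)⁻¹) (by
      intro a b hab
      obtain ⟨n, hn, rfl⟩ : ∃ n ∈ P', b = a * n :=
        ⟨a⁻¹ * b, QuotientGroup.leftRel_apply.1 hab, by group⟩
      have hn' : (n : G) ∈ P := Subgroup.mem_subgroupOf.1 hn
      rw [Subgroup.coe_mul, mul_inv_rev, map_mul, map_mul, mul_assoc (τ a) (τ n) π, ← (hπP _ hn').eq,
        show τ a * (π * τ (n : G)) * (τ (n : G)⁻¹ * τ (a : G)⁻¹) =
          τ a * (π * (τ (n : G) * τ (n : G)⁻¹)) * τ (a : G)⁻¹ by simp only [mul_assoc], hinv, mul_one])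
  have hFmk : ∀ g : Nm, F (g : Nm ⧸ P') = τ g * π * τ (g : G)⁻¹ := fun g => rfl
  set A : Module.End k M := ∑ q, F q with hA
  have hAN : ∀ g ∈ Nm, Commute (τ g) A := fun g hg => by
    show τ g * A = A * τ g
    rw [hA, Finset.mul_sum, Finset.sum_mul]
    refine Fintype.sum_equiv (MulAction.toPerm (⟨g, hg⟩ : Nm)) _ _ fun q => ?_
    induction q using QuotientGroup.induction_on with | _ a =>
    rw [MulAction.toPerm_apply, MulAction.Quotient.smul_coe, smul_eq_mul, hFmk, hFmk, Subgroup.coe_mul,
      mul_inv_rev, map_mul, map_mul]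
    simp only [mul_assoc, hinv', mul_one]
  have hAs : D ^ s * A = 0 := by
    rw [hA, Finset.mul_sum]
    refine Finset.sum_eq_zero fun q _ => ?_
    induction q using QuotientGroup.induction_on with | _ a =>
    obtain ⟨c, hc, hcD, -⟩ := hmove (a : G) a.2 s
    rw [hFmk, ← mul_assoc, ← mul_assoc, hc, mul_assoc (τ (a : G)), mul_assoc c, hπs, mul_zero,
      mul_zero, zero_mul]
  have hAker : ∀ x, D x = 0 → A x ∈ LinearMap.range (D ^ (s - 1)) := by
    intro x hx
    rw [hA, LinearMap.sum_apply]
    refine Submodule.sum_mem _ fun q _ => ?_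
    induction q using QuotientGroup.induction_on with | _ a =>
    rw [hFmk, Module.End.mul_apply, Module.End.mul_apply]
    have hx' : D (τ (a : G)⁻¹ x) = 0 := by
      obtain ⟨c, hc, -, -⟩ := hmove (a : G)⁻¹ (inv_mem a.2) 1
      rw [pow_one] at hc
      rw [← Module.End.mul_apply, hc, Module.End.mul_apply, Module.End.mul_apply, hx, map_zero,
        map_zero]
    obtain ⟨y, hy⟩ := hπker _ hx'
    obtain ⟨-, -, -, c', hc', hc'D⟩ := hmove (a : G) a.2 (s - 1)
    rw [← hy, ← Module.End.mul_apply, hc', ← mul_assoc, (hc'D.pow_right (s - 1)).eq, mul_assoc,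
      Module.End.mul_apply]
    exact LinearMap.mem_range_self _ _
  have hAtr : LinearMap.trace k M A = (Fintype.card (Nm ⧸ P') : k) * (s : k) := by
    rw [hA, map_sum, ← nsmul_eq_mul, ← Finset.card_univ, ← Finset.sum_const]
    refine Finset.sum_congr rfl fun q _ => ?_
    induction q using QuotientGroup.induction_on with | _ a =>
    rw [hFmk, LinearMap.trace_mul_comm, ← mul_assoc, hinv', one_mul, hπtr]
  have hAnil : ¬ IsNilpotent A := by
    intro h
    have h0 := (LinearMap.isNilpotent_trace_of_isNilpotent h).eq_zero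
    rw [hAtr, mul_eq_zero] at h0
    rcases h0 with h0 | h0
    · rw [CharP.cast_eq_zero_iff k p, ← Nat.card_eq_fintype_card] at h0
      have hcardP : Nat.card P' = p := by
        rw [Nat.card_congr (Subgroup.subgroupOfEquivOfLe Subgroup.le_normalizer).toEquiv,
          Nat.card_zpowers, hu]
      have h2 : p * p ∣ Nat.card G := by
        refine dvd_trans ?_ (Subgroup.card_subgroup_dvd_card Nm)
        rw [← Subgroup.card_mul_index P', hcardP]
        exact mul_dvd_mul_left p h0
      rw [← pow_two] at h2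
      have := (hp.out.pow_dvd_iff_le_factorization Nat.card_pos.ne').1 h2
      omega
    · rw [CharP.cast_eq_zero_iff k p] at h0
      have := Nat.le_of_dvd (by omega) h0
      omega
  -- Fitting's idempotent
  obtain ⟨n, hn⟩ := Filter.eventually_atTop.1 A.eventually_isCompl_ker_pow_range_pow
  set m := n + 1
  have hcompl : IsCompl (LinearMap.range (A ^ m)) (LinearMap.ker (A ^ m)) := (hn m (by omega)).symm
  set R := LinearMap.range (A ^ m) with hR
  set e : Module.End k M := R.subtype ∘ₗ R.projectionOnto _ hcompl with he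
  have heR : ∀ x ∈ R, e x = x := fun x hx =>
    congrArg Subtype.val (Submodule.projectionOnto_apply_left hcompl ⟨x, hx⟩)
  have heK : ∀ x ∈ LinearMap.ker (A ^ m), e x = 0 := fun x hx => by
    show ((R.projectionOnto _ hcompl x : R) : M) = 0
    rw [(Submodule.projectionOnto_apply_eq_zero_iff hcompl).2 hx]; rfl
  have hemem : ∀ x, e x ∈ R := fun x => (R.projectionOnto _ hcompl x).2
  have hecomm : ∀ T : Module.End k M, Commute T A → Commute T e := fun T hT =>
    LinearMap.ext fun x => by
      obtain ⟨y, hy, z, hz, rfl⟩ := Submodule.mem_sup.1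
        (hcompl.sup_eq_top ▸ Submodule.mem_top : x ∈ R ⊔ LinearMap.ker (A ^ m))
      have hTy : T y ∈ R := by
        obtain ⟨w, rfl⟩ := hy
        exact ⟨T w, LinearMap.congr_fun (hT.pow_right m).eq.symm w⟩
      have hTz : T z ∈ LinearMap.ker (A ^ m) := by
        rw [LinearMap.mem_ker] at hz ⊢
        rw [← Module.End.mul_apply, ← (hT.pow_right m).eq, Module.End.mul_apply, hz, map_zero]
      simp only [Module.End.mul_apply, map_add, heR y hy, heK z hz, map_zero, heR _ hTy, heK _ hTz]
  refine ⟨e, LinearMap.ext fun x => heR _ (hemem x), fun g hg => hecomm _ (hAN g hg), ?_, ?_⟩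
  · refine LinearMap.ext fun x => ?_
    obtain ⟨y, hy⟩ := hemem x
    rw [Module.End.mul_apply, ← hy, pow_succ', Module.End.mul_apply, ← Module.End.mul_apply (D ^ s),
      hAs]
    rfl
  · intro h0
    refine hAnil ⟨m, LinearMap.ext fun x => ?_⟩
    have hRD : ∀ y ∈ R, D y = 0 := fun y hy => by
      rw [← heR y hy]
      exact LinearMap.congr_fun h0 y
    set y := (A ^ m) x
    have hy : y ∈ R := LinearMap.mem_range_self _ x
    obtain ⟨z, hz, hzy⟩ : ∃ z ∈ R, A z = y := by
      obtain ⟨r, hr, q, hq, hrq⟩ := Submodule.mem_sup.1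
        (hcompl.sup_eq_top ▸ Submodule.mem_top : x ∈ R ⊔ LinearMap.ker (A ^ m))
      refine ⟨(A ^ (m - 1)) r, ?_, ?_⟩
      · obtain ⟨r', rfl⟩ := hr
        exact ⟨(A ^ (m - 1)) r', by
          rw [← Module.End.mul_apply, ← Module.End.mul_apply, ← pow_add, ← pow_add, add_comm]⟩
      · rw [← Module.End.mul_apply, ← pow_succ', show m - 1 + 1 = m from rfl]
        show _ = (A ^ m) x
        rw [← hrq, map_add, LinearMap.mem_ker.1 hq, add_zero]
    obtain ⟨w, hw⟩ := hAker z (hRD z hz)
    rw [hzy] at hw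
    have he2 : e y = y := heR y hy
    have hDe : Commute D e := hecomm D ((hAN u (Subgroup.le_normalizer
      (Subgroup.mem_zpowers u))).sub_left (Commute.one_left _))
    have hz0 : ((D ^ (s - 1)) * e) w = 0 := by
      obtain ⟨j, hj⟩ : ∃ j, s - 1 = j + 1 := ⟨s - 2, by omega⟩
      rw [hj, pow_succ, mul_assoc, h0, mul_zero]
      rfl
    rw [LinearMap.zero_apply]
    show y = 0
    rw [← he2, ← hw, ← Module.End.mul_apply, ← (hDe.pow_left (s - 1)).eq, hz0]

/-- The submodule. -/
theorem exists_string_submodule (hu : orderOf u = p) (hfac : (Nat.card G).factorization p = 1)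
    (hd : (τ u - 1) ^ (p - 2) = 0) {s : ℕ} (hs : 2 ≤ s) (hsp : s < p) {Y : M}
    (hY : ((τ u - 1) ^ s) Y = 0)
    (hY' : ((τ u - 1) ^ (s - 1)) Y ∉ LinearMap.range ((τ u - 1) ^ s)) :
    ∃ W : Submodule k M, (∀ g : G, ∀ w ∈ W, τ g w ∈ W) ∧ (∀ w ∈ W, ((τ u - 1) ^ s) w = 0) ∧
      ∃ w ∈ W, (τ u - 1) w ≠ 0 := by
  classical
  obtain ⟨e, hidem, hcomm, hes, hDe⟩ := exists_string_idem τ hu hfac hs hsp hY hY'
  have hup : u ^ p = 1 := hu ▸ pow_orderOf_eq_one u
  set D := τ u - 1 with hD
  set Nm := Subgroup.normalizer (Subgroup.zpowers u : Set G) with hNm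
  haveI : Fintype (G ⧸ Nm) := Fintype.ofFinite _
  have hinv : ∀ g : G, τ g * τ g⁻¹ = 1 := fun g => by rw [← map_mul, mul_inv_cancel, map_one]
  let F : G ⧸ Nm → Module.End k M := Quotient.lift (fun g => τ g * e * τ g⁻¹) (by
    intro a b hab
    obtain ⟨n, hn, rfl⟩ : ∃ n ∈ Nm, b = a * n :=
      ⟨a⁻¹ * b, QuotientGroup.leftRel_apply.1 hab, by group⟩
    rw [mul_inv_rev, map_mul, map_mul, mul_assoc (τ a) (τ n) e, (hcomm n hn).eq,
      show τ a * (e * τ n) * (τ n⁻¹ * τ a⁻¹) = τ a * (e * (τ n * τ n⁻¹)) * τ a⁻¹ by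
        simp only [mul_assoc], hinv, mul_one])
  have hFmk : ∀ g : G, F (g : G ⧸ Nm) = τ g * e * τ g⁻¹ := fun g => rfl
  set E : Module.End k M := ∑ q, F q with hE
  have hFsmul : ∀ (x : G) q, F (x • q) = τ x * F q * τ x⁻¹ := by
    intro x q
    induction q using QuotientGroup.induction_on with | _ g =>
    rw [MulAction.Quotient.smul_coe, smul_eq_mul, hFmk, hFmk, map_mul, mul_inv_rev, map_mul]
    simp only [mul_assoc]
  have hEG : ∀ x : G, Commute (τ x) E := fun x => by
    show τ x * E = E * τ x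
    rw [hE, Finset.mul_sum, Finset.sum_mul]
    refine Fintype.sum_equiv (MulAction.toPerm x) _ _ fun q => ?_
    rw [MulAction.toPerm_apply, hFsmul, mul_assoc, ← map_mul, inv_mul_cancel, map_one, mul_one]
  let σ : Equiv.Perm (G ⧸ Nm) := MulAction.toPermHom G (G ⧸ Nm) u
  have hσp : σ ^ p = 1 := by rw [← map_pow, hup, map_one]
  have hσ : ∀ (i : ℕ) q, (σ ^ i) q = u ^ i • q := fun i q => by rw [← map_pow]; rfl
  let q1 : G ⧸ Nm := ((1 : G) : G ⧸ Nm)
  let S : Finset (G ⧸ Nm) := Finset.univ.erase q1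
  have hu1 : u • q1 = q1 := by
    show ((u * 1 : G) : G ⧸ Nm) = _
    rw [mul_one, eq_comm, QuotientGroup.eq, inv_one, one_mul]
    exact Subgroup.le_normalizer (Subgroup.mem_zpowers _)
  have hS : ∀ q, q ∈ S ↔ σ q ∈ S := fun q => by
    simp only [S, Finset.mem_erase, Finset.mem_univ, and_true]
    show q ≠ q1 ↔ u • q ≠ q1
    constructor
    · exact fun h e => h (MulAction.injective u (e.trans hu1.symm))
    · exact fun h e => h (by rw [e, hu1])
  have hfree : ∀ q ∈ S, σ q ≠ q := by
    intro q hq hfix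
    induction q using QuotientGroup.induction_on with | _ g =>
    change ((u * g : G) : G ⧸ Nm) = g at hfix
    rw [eq_comm, QuotientGroup.eq, ← mul_assoc] at hfix
    set x := g⁻¹ * u * g with hx
    have hxo : orderOf x = p := by
      rw [hx, show g⁻¹ * u * g = MulAut.conj g⁻¹ u by simp, MulEquiv.orderOf_eq, hu]
    have hmem : x ∈ Subgroup.zpowers u := by
      by_contra hn
      let S0 : Sylow p G := Sylow.ofCard (Subgroup.zpowers u)
        (by rw [hfac, Nat.card_zpowers, hu, pow_one])
      have hxp : IsPGroup p (Subgroup.zpowers x) :=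
        IsPGroup.of_card (n := 1) (by rw [Nat.card_zpowers, hxo, pow_one])
      have hsup : IsPGroup p (Subgroup.zpowers x ⊔ Subgroup.zpowers u : Subgroup G) :=
        hxp.to_sup_of_normal_right' (IsPGroup.of_card (n := 1) (by rw [Nat.card_zpowers, hu, pow_one]))
          (Subgroup.zpowers_le.2 hfix)
      have he : (Subgroup.zpowers x ⊔ Subgroup.zpowers u : Subgroup G) = Subgroup.zpowers u :=
        S0.is_maximal' hsup le_sup_right
      exact hn (he ▸ (le_sup_left : Subgroup.zpowers x ≤ _) (Subgroup.mem_zpowers x))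
    have hle : (Subgroup.zpowers u).map (MulAut.conj g⁻¹).toMonoidHom ≤ Subgroup.zpowers u := by
      rw [MonoidHom.map_zpowers, Subgroup.zpowers_le]
      simpa [hx] using hmem
    have hgN : g⁻¹ ∈ Nm := by
      have heq : (Subgroup.zpowers u).map (MulAut.conj g⁻¹).toMonoidHom = Subgroup.zpowers u :=
        Subgroup.eq_of_le_of_card_ge hle (le_of_eq (Subgroup.card_map_of_injective
          (MulAut.conj g⁻¹).injective).symm)
      rw [hNm, Subgroup.mem_normalizer_iff]
      intro x
      constructor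
      · intro hx
        rw [← heq]
        exact ⟨x, hx, rfl⟩
      · intro hx
        rw [← heq] at hx
        obtain ⟨y, hy, hxy⟩ := hx
        rw [show x = y from (MulAut.conj g⁻¹).injective hxy.symm]
        exact hy
    refine (Finset.mem_erase.1 hq).1 ?_
    rw [QuotientGroup.eq, mul_one]
    exact hgN
  have hUp : (τ u : Module.End k M) ^ p = 1 := by rw [← map_pow, hup, map_one]
  have hRLow : Low D (E - e) := by
    have h : E - e = ∑ q ∈ S, F q := by
      rw [hE, ← Finset.add_sum_erase _ _ (Finset.mem_univ q1)]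
      simp [S, q1, hFmk]
    rw [h]
    refine sum_induction_orbits p σ hσp S hS hfree F (Low D) Low.zero (fun a b => Low.add) fun q => ?_
    have : ∑ i ∈ Finset.range p, F ((σ ^ i) q) =
        ∑ i ∈ Finset.range p, τ u ^ i * F q * τ u ^ (p - i) := by
      refine Finset.sum_congr rfl fun i hi => ?_
      rw [hσ, hFsmul, map_pow, show (u ^ i)⁻¹ = u ^ (p - i) from inv_eq_of_mul_eq_one_right (by
        rw [← pow_add, Nat.add_sub_cancel' (Finset.mem_range.1 hi).le, hup]), map_pow]
    rw [this]
    exact low_trace p hUp hd (F q)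
  have heD : Commute e D := ((hcomm u (Subgroup.le_normalizer (Subgroup.mem_zpowers _))).symm).sub_right
    (Commute.one_right _)
  -- a lift of the idempotent
  have hpowlow : ∀ (x y : Module.End k M), IsIdempotentElem y → Commute y D → Low D (x - y) →
      ∀ n : ℕ, 1 ≤ n → Low D (x ^ n - y) := by
    intro x y hy hyD hxy n hn
    induction n, hn using Nat.le_induction with
    | base => rwa [pow_one]
    | succ m _ ih =>
      have h : x ^ (m + 1) - y = (x ^ m - y) * y + (x ^ m - y) * (x - y) + y * (x - y) := by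
        rw [pow_succ, sub_mul, sub_mul, mul_sub, mul_sub, hy.eq]
        abel
      rw [h]
      exact ((ih.comp_right hyD).add (ih.mul hxy)).add (hxy.comp_left hyD)
  have hp1 : 1 ≤ p := hp.out.one_le
  set f : Module.End k M := 1 - (1 - E ^ p) ^ p with hf
  have hflow : Low D (f - e) := by
    have h1 := hpowlow E e hidem heD hRLow p hp1
    have h1' : Low D ((1 - E ^ p) - (1 - e)) := by
      rw [show (1 - E ^ p) - (1 - e) = -(E ^ p - e) by abel]; exact h1.neg
    have h3 := hpowlow _ _ hidem.one_sub ((Commute.one_left D).sub_left heD) h1' p hp1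
    rw [show f - e = -((1 - E ^ p) ^ p - (1 - e)) by rw [hf]; abel]
    exact h3.neg
  have hq0 : (E * (1 - E)) ^ p = 0 := by
    refine Low.isNilpotent ?_ hd (by omega)
    set r := E - e with hr
    have h : E * (1 - E) = r - e * r - r * e - r * r := by
      rw [hr, mul_sub, mul_sub, mul_sub, sub_mul, sub_mul, mul_one, hidem.eq]
      abel
    rw [h]
    exact (((hRLow).sub (hRLow.comp_left heD)).sub (hRLow.comp_right heD)).sub (hRLow.mul hRLow)
  have hfidem : IsIdempotentElem f := by
    have h1 : f = E ^ p * ∑ i ∈ Finset.range p, (1 - E ^ p) ^ i := by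
      rw [hf, ← mul_neg_geom_sum (1 - E ^ p) p, sub_sub_cancel]
    have h4 : (1 - E ^ p) ^ p = (1 - E) ^ p * (∑ i ∈ Finset.range p, E ^ i) ^ p := by
      rw [← Commute.mul_pow, mul_neg_geom_sum]
      exact Commute.sum_right _ _ _ fun i _ =>
        ((Commute.one_left E).sub_left (Commute.refl E)).pow_right i
    have hc : Commute (E ^ p) ((1 - E) ^ p) :=
      ((Commute.one_right E).sub_right (Commute.refl E)).pow_pow p p
    have h0 : f * (1 - f) = 0 := by
      rw [show (1 : Module.End k M) - f = (1 - E ^ p) ^ p by rw [hf]; abel, h1, h4]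
      have hc2 : Commute (∑ i ∈ Finset.range p, (1 - E ^ p) ^ i) ((1 - E) ^ p) :=
        Commute.sum_left _ _ _ fun i _ =>
          ((Commute.one_left _).sub_left hc).pow_left i
      rw [mul_assoc, ← mul_assoc (∑ i ∈ Finset.range p, (1 - E ^ p) ^ i), hc2.eq, ← mul_assoc,
        ← mul_assoc, ← Commute.mul_pow ((Commute.one_right E).sub_right (Commute.refl E)), hq0,
        zero_mul, zero_mul]
    rw [mul_sub, mul_one, sub_eq_zero] at h0
    exact h0.symm
  have hfG : ∀ x : G, Commute (τ x) f := fun x =>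
    (Commute.one_right _).sub_right (((Commute.one_right _).sub_right ((hEG x).pow_right p)).pow_right p)
  have hfD : Commute f D := (hfG u).symm.sub_right (Commute.one_right _)
  set W := LinearMap.range f with hW
  have hfW : ∀ w ∈ W, f w = w := by
    rintro _ ⟨v, rfl⟩
    exact LinearMap.congr_fun hfidem.eq v
  have hnil : (f - e) ^ p = 0 := hflow.isNilpotent hd (by omega)
  refine ⟨W, ?_, fun w hw => ?_, ?_⟩
  · rintro g _ ⟨v, rfl⟩
    exact ⟨τ g v, (LinearMap.congr_fun (hfG g).eq v).symm⟩
  · set x := (D ^ s) w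
    have hx : f x = x := by
      rw [← Module.End.mul_apply, (hfD.pow_right s).eq, Module.End.mul_apply, hfW w hw]
    have hex : e x = 0 := by
      rw [← Module.End.mul_apply, (heD.pow_right s).eq, hes]
      rfl
    have h1 : ∀ n : ℕ, ((f - e) ^ n) x = x := by
      intro n
      induction n with
      | zero => rfl
      | succ m ih => rw [pow_succ', Module.End.mul_apply, ih, LinearMap.sub_apply, hx, hex, sub_zero]
    show x = 0
    rw [← h1 p, hnil]
    rfl
  · obtain ⟨v, hv⟩ : ∃ v, D (e v) ≠ 0 := by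
      by_contra hcon
      push Not at hcon
      exact hDe (LinearMap.ext hcon)
    obtain ⟨j, hj, hj'⟩ : ∃ j, (D ^ (j + 1)) (e v) ≠ 0 ∧ (D ^ (j + 2)) (e v) = 0 := by
      by_contra hcon
      push Not at hcon
      have : ∀ j, (D ^ (j + 1)) (e v) ≠ 0 := fun j => by
        induction j with
        | zero => simpa using hv
        | succ m ih => exact hcon m ih
      exact this (p - 2) (pow_kill_mono (show p - 2 ≤ p - 2 + 1 by omega) (by rw [hd]; rfl))
    set z := (D ^ j) (e v)
    have hz : D z = (D ^ (j + 1)) (e v) := by rw [pow_succ', Module.End.mul_apply]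
    have hfz : f (D z) = D z := by
      have hd1 : D (D z) = 0 := by rw [hz, ← Module.End.mul_apply, ← pow_succ']; exact hj'
      have h := hflow.apply_fixed hd1
      rw [LinearMap.sub_apply, sub_eq_zero] at h
      rw [h, hz, ← Module.End.mul_apply e, (heD.pow_right (j + 1)).eq, Module.End.mul_apply,
        ← Module.End.mul_apply e, hidem.eq]
    refine ⟨f z, LinearMap.mem_range_self _ _, ?_⟩
    rw [← Module.End.mul_apply, ← hfD.eq, Module.End.mul_apply, hfz, hz]
    exact hj

end Cfsg.Lib.Feit
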