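import Cfsg.Agent.Lib.Feit.Forms
import Cfsg.Agent.Lib.Feit.String
import Cfsg.Agent.Lib.Feit.Small

/-!
# A module of dimension `(p + 1) / 2` in characteristic `p`

On the alternating forms of such a module an element of order `p` has a string of length 3 or 5,
which forces the central quotient `PSL(2, p)`.
-/

set_option autoImplicit false
set_option linter.unusedSectionVars false
set_option linter.style.haveILetI false
set_option maxHeartbeats 1000000
set_option maxSynthPendingDepth 5
set_option synthInstance.maxHeartbeats 100000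

namespace Cfsg.Lib.Feit

open Cfsg Cfsg.Lib.Char

universe u v

theorem texp_split {k : Type*} [Field k] {p : ℕ} (hp : 1 ≤ p) {R : Type*} [Ring R] [Algebra k R]
    (x : R) : texp (k := k) p x =
      1 + x * ∑ i ∈ Finset.range (p - 1), (((i + 1).factorial : k))⁻¹ • x ^ i := by
  obtain ⟨r, rfl⟩ : ∃ r, p = r + 1 := ⟨p - 1, by omega⟩
  rw [texp, Finset.sum_range_succ', Nat.add_sub_cancel, Finset.mul_sum]
  simp only [mul_smul_comm, ← pow_succ', Nat.factorial_zero, Nat.cast_one, inv_one, one_smul,
    pow_zero]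
  exact add_comm _ _

variable {p : ℕ} [hp : Fact p.Prime] {G : Type u} [Group G] [Fintype G] {u : G}

/-- A module of dimension `(p + 1) / 2` in characteristic `p` forces `PSL(2, p)`. -/
theorem psl_of_half (hp11 : 11 ≤ p) (hfac : (Nat.card G).factorization p = 1) (hu : orderOf u = p)
    (hnn : ¬ (Subgroup.zpowers u).Normal) {χ : G → ℂ} (hχ : IsIrrCharacter G χ)
    (hfaith : ∀ g : G, χ g = χ 1 → g = 1) {n : ℕ} (hn : χ 1 = (n : ℂ)) (hnp : n + 1 < p)
    {k : Type v} [Field k] [CharP k p] [IsAlgClosed k] {V : Type*} [AddCommGroup V] [Module k V]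
    [FiniteDimensional k V] (ρ : G →* Module.End k V) (hρu : ρ u ≠ 1) {d : ℕ}
    (hd : 2 * d = p + 1) (hV : Module.finrank k V = d) :
    Nonempty ((G ⧸ Subgroup.center G) ≃* Matrix.ProjectiveSpecialLinearGroup (Fin 2) (ZMod p)) ∧
      (∀ c : ℕ, ¬ p ∣ c → ∃ g, g * u * g⁻¹ = u ^ (c * c)) ∧ p ≤ 2 * n + 1 := by
  classical
  have hup : u ^ p = 1 := by rw [← hu, pow_orderOf_eq_one]
  haveI : Nontrivial V := Module.nontrivial_of_finrank_pos (R := k) (by omega)
  haveI : CharP (Module.End k V) p :=
    charP_of_injective_algebraMap (algebraMap k _).injective p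
  set U' := ρ u⁻¹ with hU'
  set N := U' - 1 with hN
  have hNp : N ^ p = 0 := by
    rw [hN, sub_pow_char_of_commute p (Commute.one_right _), ← map_pow, inv_pow, hup, inv_one,
      map_one, one_pow, sub_self]
  have hNd : N ^ d = 0 := by
    have h2 := LinearMap.aeval_self_charpoly N
    rw [(IsNilpotent.charpoly_eq_X_pow_finrank ⟨p, hNp⟩), map_pow, Polynomial.aeval_X, hV] at h2
    exact h2
  by_cases hsmall : N ^ (d - 1) = 0
  · refine psl_of_small (by omega) hfac hu hnn hχ hfaith hn hnp ρ hρu (b := d - 1) ?_ (by omega)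
    have e : ρ u - 1 = -(ρ u * N) := by
      rw [hN, hU', mul_sub, ← map_mul, mul_inv_cancel, map_one, mul_one, neg_sub]
    have hc : Commute (ρ u) N := by
      rw [hN, hU']
      refine Commute.sub_right ?_ (Commute.one_right _)
      show ρ u * ρ u⁻¹ = ρ u⁻¹ * ρ u
      rw [← map_mul, ← map_mul, mul_inv_cancel, inv_mul_cancel]
    rw [e, neg_pow, hc.mul_pow, hsmall, mul_zero, mul_zero]
  -- the logarithm
  obtain ⟨q, hq, r, hr⟩ := exists_texp_inv (k := k) (p := p) (by omega) (m := d) (by omega)
  set X := Polynomial.aeval N q with hX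
  have hEX : texp (k := k) p X = U' := by
    have h := congrArg (Polynomial.aeval N) hr
    rw [map_sub, texp_map, map_add, map_one, Polynomial.aeval_X, map_mul, map_pow,
      Polynomial.aeval_X, hNd, zero_mul, sub_eq_zero] at h
    rw [h, hN, add_sub_cancel]
  have hXd : X ^ d = 0 := by
    obtain ⟨q', hq'⟩ := hq
    rw [hX, ← map_pow, hq', mul_pow, map_mul, map_pow, Polynomial.aeval_X, hNd, zero_mul]
  have hXd1 : X ^ (d - 1) ≠ 0 := by
    intro h
    refine hsmall ?_
    rw [hN, ← hEX, texp_split (by omega), add_sub_cancel_left, Commute.mul_pow ?_, h, zero_mul]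
    exact Commute.sum_right _ _ _ fun i _ => ((Commute.refl X).pow_right i).smul_right _
  obtain ⟨v0, hv0⟩ : ∃ v, (X ^ (d - 1)) v ≠ 0 := by
    by_contra h
    push Not at h
    exact hXd1 (LinearMap.ext h)
  let e : ℕ → V := fun i => (X ^ i) v0
  have he : ∀ i, d ≤ i → e i = 0 := fun i hi => by
    show (X ^ i) v0 = 0
    rw [pow_eq_zero_of_le hi hXd]
    rfl
  have hXe : ∀ a i, (X ^ a) (e i) = e (i + a) := fun a i => by
    show (X ^ a) ((X ^ i) v0) = (X ^ (i + a)) v0
    rw [← Module.End.mul_apply, ← pow_add, add_comm a i]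
  have hli : LinearIndependent k (fun i : Fin d => e i) := by
    rw [Fintype.linearIndependent_iff]
    intro c hc
    have key : ∀ m, ∀ i : Fin d, (i : ℕ) = m → c i = 0 := by
      intro m
      induction m using Nat.strong_induction_on with
      | _ m ih =>
        intro i hi
        have h := congrArg (X ^ (d - 1 - m)) hc
        simp only [map_sum, map_smul, map_zero, hXe] at h
        rw [Finset.sum_eq_single i (fun j _ hj => ?_) (fun h => absurd (Finset.mem_univ _) h),
          smul_eq_zero] at h
        · refine h.resolve_right ?_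
          rw [show (i : ℕ) + (d - 1 - m) = d - 1 by omega]
          exact hv0
        · rcases lt_or_ge (j : ℕ) m with hjm | hjm
          · rw [ih _ hjm j rfl, zero_smul]
          · have : (j : ℕ) ≠ m := fun h => hj (Fin.ext (h.trans hi.symm))
            rw [he _ (by omega), smul_zero]
    exact fun i => key i i rfl
  haveI : Nonempty (Fin d) := ⟨⟨0, by omega⟩⟩
  let bs := basisOfLinearIndependentOfCardEqFinrank hli (by rw [Fintype.card_fin, hV])
  have hbs : ∀ i : Fin d, bs i = e i := fun i => by
    simp [bs]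
  -- alternating forms
  let A : Submodule k (V →ₗ[k] V →ₗ[k] k) :=
    { carrier := {B | ∀ v, B v v = 0}
      zero_mem' := fun _ => rfl
      add_mem' := fun {B C} hB hC v => by simp [hB v, hC v]
      smul_mem' := fun c B hB v => by simp [hB v] }
  have hanti : ∀ (B : A) (x y : V), B.1 y x = -B.1 x y := fun B x y => by
    have h := B.2 (x + y)
    simp only [map_add, LinearMap.add_apply, B.2 x, B.2 y, zero_add, add_zero] at h
    exact eq_neg_of_add_eq_zero_left h
  let T : G → (A →ₗ[k] A) := fun g =>
    { toFun := fun B => ⟨B.1.compl₁₂ (ρ g⁻¹) (ρ g⁻¹), fun v => B.2 _⟩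
      map_add' := fun B C => Subtype.ext (LinearMap.ext₂ fun x y => rfl)
      map_smul' := fun c B => Subtype.ext (LinearMap.ext₂ fun x y => rfl) }
  let τ : G →* Module.End k A :=
    { toFun := T
      map_one' := LinearMap.ext fun B => Subtype.ext (LinearMap.ext₂ fun x y => by simp [T])
      map_mul' := fun g h => LinearMap.ext fun B => Subtype.ext (LinearMap.ext₂ fun x y => by
        simp [T, Module.End.mul_apply, mul_inv_rev]) }
  let Φ : A →ₗ[k] (ℕ → ℕ → k) :=
    { toFun := fun B i j => B.1 (e i) (e j)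
      map_add' := fun B C => rfl
      map_smul' := fun c B => rfl }
  have hΦalt : ∀ B, IsAlt d (Φ B) := fun B =>
    ⟨fun i j hi => by show B.1 (e i) (e j) = 0; rw [he i hi, map_zero]; rfl,
      fun i => B.2 _, fun i j => hanti B _ _⟩
  have hΦinj : ∀ B, Φ B = 0 → B = 0 := fun B hB => Subtype.ext (LinearMap.ext_basis bs bs fun i j => by
    rw [hbs, hbs]
    exact congrFun (congrFun hB i) j)
  have hΦsurj : ∀ b, IsAlt d b → ∃ B, Φ B = b := by
    intro b hb
    let B0 : V →ₗ[k] V →ₗ[k] k :=
      bs.constr k fun i : Fin d => bs.constr k fun j : Fin d => b i j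
    have hB0 : ∀ i j : Fin d, B0 (bs i) (bs j) = b i j := fun i j => by
      simp [B0]
    have hflip : B0 + B0.flip = 0 := LinearMap.ext_basis bs bs fun i j => by
      simp only [LinearMap.add_apply, LinearMap.flip_apply, hB0, LinearMap.zero_apply]
      rw [hb.2.2 i j, add_neg_cancel]
    have h2 : (2 : k) ≠ 0 := by
      rw [show (2 : k) = ((2 : ℕ) : k) by norm_num, Ne, CharP.cast_eq_zero_iff k p]
      intro h
      have := Nat.le_of_dvd (by omega) h
      omega
    refine ⟨⟨B0, fun v => ?_⟩, ?_⟩
    · have h := LinearMap.congr_fun (LinearMap.congr_fun hflip v) v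
      simp only [LinearMap.add_apply, LinearMap.flip_apply, LinearMap.zero_apply, ← two_mul] at h
      exact (mul_eq_zero.1 h).resolve_left h2
    · funext i j
      show B0 (e i) (e j) = b i j
      rcases lt_or_ge i d with hi | hi
      · rcases lt_or_ge j d with hj | hj
        · rw [← hbs ⟨i, hi⟩, ← hbs ⟨j, hj⟩]
          exact hB0 ⟨i, hi⟩ ⟨j, hj⟩
        · rw [he j hj, map_zero, hb.right hj]
      · rw [he i hi, map_zero, hb.1 i j hi]
        rfl
  -- the action of `u`
  set F : Module.End k (ℕ → ℕ → k) := shF with hF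
  set Gm : Module.End k (ℕ → ℕ → k) :=
    ∑ i ∈ Finset.range (p - 1), (((i + 1).factorial : k))⁻¹ • F ^ i with hGm
  have hFG : Commute F Gm :=
    Commute.sum_right _ _ _ fun i _ => ((Commute.refl F).pow_right i).smul_right _
  have hΦu : ∀ B, Φ (τ u B) = texp (k := k) p F (Φ B) := by
    intro B
    rw [hF, shF, ← texp_add_apply (k := k) (p := p) (M := ℕ → ℕ → k) (x := shA) (y := shB) (v := Φ B)
      (LinearMap.ext fun b => rfl) fun a c hac => ?_]
    swap
    · funext i j
      rw [shA_pow, shB_pow]
      exact (hΦalt B).eq_zero_of_large (by omega)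
    funext i j
    show B.1 (U' (e i)) (U' (e j)) = _
    rw [← hEX]
    simp only [texp, LinearMap.sum_apply, LinearMap.smul_apply, map_sum, map_smul, hXe,
      Finset.sum_apply, Pi.smul_apply, shA_pow, shB_pow, smul_eq_mul, Finset.mul_sum]
    rfl
  set D : Module.End k A := τ u - 1 with hD
  have hΦD : ∀ B, Φ (D B) = (F * Gm) (Φ B) := fun B => by
    rw [hD, LinearMap.sub_apply, map_sub, hΦu, Module.End.one_apply, texp_split (by omega), LinearMap.add_apply,
      Module.End.one_apply, add_sub_cancel_left]
  have hΦDn : ∀ m B, Φ ((D ^ m) B) = (Gm ^ m) ((F ^ m) (Φ B)) := fun m B => by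
    rw [← Module.End.mul_apply, ← (hFG.symm.mul_pow m), hFG.symm.eq]
    induction m with
    | zero => rfl
    | succ l ih => rw [pow_succ', Module.End.mul_apply, hΦD, ih, pow_succ' (F * Gm)]; rfl
  have hGalt : ∀ b, IsAlt d b → IsAlt d (Gm b) := fun b hb => by
    rw [hGm, LinearMap.sum_apply]
    refine Finset.sum_induction _ (IsAlt d) (fun _ _ => IsAlt.add) IsAlt.zero fun i _ => ?_
    exact (hb.lower_pow i).smul _
  have hGinj : ∀ m b, IsAlt d b → (Gm ^ m) b = 0 → b = 0 := by
    have h1 : Gm = 1 + F * ∑ i ∈ Finset.range (p - 2), (((i + 2).factorial : k))⁻¹ • F ^ i := by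
      rw [hGm, show p - 1 = p - 2 + 1 by omega, Finset.sum_range_succ', Finset.mul_sum]
      simp only [mul_smul_comm, ← pow_succ', Nat.factorial_one, Nat.cast_one, inv_one, one_smul,
        pow_zero, zero_add]
      exact add_comm _ _
    intro m
    induction m with
    | zero => exact fun b _ h => h
    | succ l ih =>
      intro b hb h
      rw [pow_succ, Module.End.mul_apply] at h
      have h' := ih _ (hGalt b hb) h
      rw [h1] at h'
      exact eq_zero_of_one_add
        (Commute.sum_right _ _ _ fun i _ => ((Commute.refl F).pow_right i).smul_right _)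
        (hb.pow_eq_zero (n := 2 * d) (by omega)) h'
  have hdD : D ^ (p - 2) = 0 := LinearMap.ext fun B => hΦinj _ (by
    rw [hΦDn, (hΦalt B).pow_eq_zero (by omega), map_zero])
  -- the string
  set k0 := if d % 2 = 1 then 1 else 2 with hk0
  have hk01 : 1 ≤ k0 ∧ k0 ≤ 2 ∧ Odd (d - 1 - k0) := by
    rw [hk0]
    split_ifs with h
    · exact ⟨le_rfl, by omega, Nat.odd_iff.2 (by omega)⟩
    · exact ⟨by omega, le_rfl, Nat.odd_iff.2 (by omega)⟩
  obtain ⟨hk1, hk2, hodd⟩ := hk01
  set σ0 := d - 1 - k0 with hσ0
  set m := 2 * k0 with hm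
  have hy0 : IsAlt d (altVec (k := k) σ0) := altVec_isAlt hodd (by omega)
  have hyalt : IsAlt d ((shR d ^ m) (altVec (k := k) σ0)) := by
    clear_value m
    clear hm
    induction m with
    | zero => exact hy0
    | succ l ih => rw [pow_succ', Module.End.mul_apply]; exact ih.raise
  obtain ⟨Y, hY⟩ := hΦsurj _ hyalt
  obtain ⟨c, hc, hcy⟩ := shF_pow_shR_pow (p := p) (d := d) (m := m) (by omega)
    (altVec_isHom (k := k) σ0) (shF_altVec σ0) (by omega) m le_rfl
  rw [Nat.sub_self, pow_zero, Module.End.one_apply, ← hY] at hcy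
  have hFs : (F ^ (m + 1)) (Φ Y) = 0 := by
    rw [pow_succ', Module.End.mul_apply, hF, hcy, map_smul, shF_altVec, smul_zero]
  obtain ⟨W, hWinv, hWs, w0, hw0, hw0'⟩ :=
    exists_string_submodule τ hu hfac hdD (s := m + 1) (by omega) (by omega) (Y := Y)
      (hΦinj _ (by rw [← hD, hΦDn, hFs, map_zero])) (by
      rintro ⟨Z, hZ⟩
      rw [← hD, Nat.add_sub_cancel] at hZ
      have h1 := congrArg Φ hZ
      rw [hΦDn, hΦDn, pow_succ Gm, Module.End.mul_apply,
        ← Module.End.mul_apply Gm, ← (hFG.pow_left (m + 1)).eq, Module.End.mul_apply, eq_comm,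
        ← sub_eq_zero, ← map_sub] at h1
      have halt : IsAlt d ((F ^ m) (Φ Y) - (F ^ (m + 1)) (Gm (Φ Z))) := by
        rw [sub_eq_add_neg, ← neg_one_smul k]
        exact ((hΦalt Y).lower_pow m).add (((hGalt _ (hΦalt Z)).lower_pow _).smul _)
      have h2 := hGinj m _ halt h1
      rw [sub_eq_zero, hF, hcy] at h2
      set z := c⁻¹ • Gm (Φ Z) with hz
      have hz' : (shF ^ (m + 1)) z = altVec σ0 := by
        rw [hz, map_smul, ← h2, smul_smul, inv_mul_cancel₀ hc, one_smul]
      have hPz : (shF ^ (m + 1)) (shP (σ0 + (m + 1)) z) = altVec σ0 := by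
        rw [shF_pow_shP, hz']
        funext i j
        show (if i + j = σ0 then altVec σ0 i j else 0) = altVec σ0 i j
        simp only [altVec]
        split_ifs <;> rfl
      have hx : shP (σ0 + (m + 1)) z = 0 := by
        refine eq_zero_of_weight (p := p) (d := d) (by omega) (σ := σ0 + (m + 1)) (M := m + 2)
          (by omega) (by omega) (2 * d) 0 _ (by omega)
          (((hGalt _ (hΦalt Z)).smul _).proj _) (fun i j hij => ?_) ?_
        · show (if i + j = σ0 + (m + 1) then z i j else 0) = 0
          rw [if_neg]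
          intro h
          exact hij (by push_cast; omega)
        · rw [add_zero, pow_succ', Module.End.mul_apply, hPz, shF_altVec]
      rw [hx, map_zero] at hPz
      have := congrFun (congrFun hPz 0) σ0
      simp [altVec] at this)
  let ρW : G →* Module.End k W :=
    { toFun := fun g => (τ g).restrict fun w hw => hWinv g w hw
      map_one' := LinearMap.ext fun w => Subtype.ext (by
        show τ 1 (w : A) = (w : A)
        rw [map_one]; rfl)
      map_mul' := fun g h => LinearMap.ext fun w => Subtype.ext (by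
        show τ (g * h) (w : A) = τ g (τ h (w : A))
        rw [map_mul]; rfl) }
  have hρW : ∀ w : W, (((ρW u - 1) w : W) : A) = (τ u - 1) (w : A) := fun w => rfl
  refine psl_of_small (by omega) hfac hu hnn hχ hfaith hn hnp ρW (fun h => hw0' ?_) (b := m + 1) ?_
    (by omega)
  · have := hρW ⟨w0, hw0⟩
    rw [h, sub_self] at this
    exact this.symm
  · have hpow : ∀ (l : ℕ) (w : W), ((((ρW u - 1 : Module.End k W) ^ l) w : W) : A) =
        ((τ u - 1 : Module.End k A) ^ l) (w : A) := by
      intro l
      induction l with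
      | zero => exact fun w => rfl
      | succ a ih =>
        intro w
        rw [pow_succ', pow_succ', Module.End.mul_apply, Module.End.mul_apply, hρW, ih]
    exact LinearMap.ext fun w => Subtype.ext ((hpow _ w).trans (hWs w w.2))

end Cfsg.Lib.Feit
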