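import Cfsg.Agent.Lib.Feit.Cyclo

/-!
# Restrictions from nonnegative multiplicities

Here `A + δ cnt` are the multiplicities in the products; the second moment of the counts bounds
their row totals.
-/

set_option autoImplicit false
set_option linter.unusedSectionVars false
set_option maxHeartbeats 1000000

namespace Cfsg.Lib.Feit

open Finset

variable {p : ℕ} [hp : Fact p.Prime] (E : Subgroup (ZMod p)ˣ) {t : ℕ}
  (ht : p = Nat.card E * t + 1)

noncomputable local instance : Fintype E := Fintype.ofFinite E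

local notation "e" => ((Nat.card E : ℕ) : ℤ)

include ht

theorem card_units_eq : ((Fintype.card (ZMod p)ˣ : ℕ) : ℤ) = e * t := by
  rw [ZMod.card_units, show p - 1 = Nat.card E * t by omega]
  push_cast
  rfl

/-- If all multiplicities `A - cnt` are nonnegative, the row total is at least `t - 2`. -/
theorem total_ge (A : ℤ) (h : ∀ b u : (ZMod p)ˣ, (cnt E 1 b u : ℤ) ≤ A) :
    (t : ℤ) - 2 ≤ t * A - e := by
  classical
  have hnn : (0 : ℤ) ≤ ∑ b : (ZMod p)ˣ, ∑ u : (ZMod p)ˣ,
      (cnt E 1 b u : ℤ) * (A - cnt E 1 b u) :=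
    sum_nonneg fun b _ => sum_nonneg fun u _ => mul_nonneg (Int.natCast_nonneg _) (sub_nonneg.2 (h b u))
  have hexp : ∑ b : (ZMod p)ˣ, ∑ u : (ZMod p)ˣ, (cnt E 1 b u : ℤ) * (A - cnt E 1 b u) =
      A * (∑ b : (ZMod p)ˣ, ∑ u : (ZMod p)ˣ, (cnt E 1 b u : ℤ)) -
        ∑ b : (ZMod p)ˣ, ∑ u : (ZMod p)ˣ, (cnt E 1 b u : ℤ) ^ 2 := by
    simp only [mul_sub, sum_sub_distrib, mul_comm A, sq, Finset.sum_mul]
  rw [hexp, sum_sum_cnt, sum_sum_cnt_sq] at hnn
  have hp' : (p : ℤ) = e * t + 1 := by exact_mod_cast ht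
  have hp2 : (2 : ℤ) ≤ p := by exact_mod_cast hp.out.two_le
  have he : (1 : ℤ) ≤ e := by exact_mod_cast (Nat.card_pos : 0 < Nat.card E)
  have h1 : (0 : ℤ) ≤ A * ((p : ℤ) - 2) - (((p : ℤ) - 2) + (e - 1) * (e - 2)) := by
    refine nonneg_of_mul_nonneg_right (a := e ^ 2) ?_ (by positivity)
    nlinarith [hnn]
  have ht1 : (1 : ℤ) ≤ t := by
    rcases Nat.eq_zero_or_pos t with h0 | h0
    · rw [h0, mul_zero] at ht
      have := hp.out.two_le
      omega
    · exact_mod_cast h0
  by_contra hc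
  push Not at hc
  rw [hp'] at h1
  have hM : (t : ℤ) * A ≤ e + t - 3 := by omega
  have het : (0 : ℤ) ≤ e * t - 1 := by linarith
  have hA : (0 : ℤ) ≤ A := le_trans (Int.natCast_nonneg _) (h 1 1)
  rcases (show (t : ℤ) = 1 ∧ e = 1 ∨ 4 ≤ e + 2 * t by omega) with ⟨h4, h5⟩ | h4
  · rw [h4, h5] at hM
    linarith
  nlinarith [mul_le_mul_of_nonneg_right hM het, mul_le_mul_of_nonneg_left h1 (Int.natCast_nonneg t)]

/-- The sum of a row of multiplicities. -/
theorem row_total (A δ : ℤ) (b : (ZMod p)ˣ) :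
    ∑ u : (ZMod p)ˣ, (A + δ * cnt E 1 b u) = e * (t * A + δ * (e - opp E 1 b)) := by
  rw [sum_add_distrib, sum_const, card_univ, nsmul_eq_mul, card_units_eq E ht, ← Finset.mul_sum,
    sum_cnt]
  ring

open Classical in
/-- A nonnegative function constant on cosets is at most its normalized sum. -/
theorem le_of_row {f : (ZMod p)ˣ → ℤ} (hf : ∀ u, 0 ≤ f u) (hE : ∀ u (x : E), f (u * x) = f u)
    {m : ℤ} (hm : ∑ u, f u = e * m) (u : (ZMod p)ˣ) : f u ≤ m := by
  have hinj : Function.Injective fun x : E => u * (x : (ZMod p)ˣ) := fun x y h =>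
    Subtype.ext (mul_left_cancel h)
  have h1 : ∑ x : E, f (u * x) ≤ ∑ v, f v := by
    rw [← sum_image (s := (univ : Finset E)) (f := f) fun x _ y _ h => hinj h]
    exact sum_le_univ_sum_of_nonneg hf
  rw [sum_congr rfl fun x _ => hE u x, sum_const, card_univ, nsmul_eq_mul, hm,
    ← Nat.card_eq_fintype_card] at h1
  exact le_of_mul_le_mul_left h1 (by exact_mod_cast Nat.card_pos)

/-- The second moment of the multiplicities, divided by the square of the order. -/
theorem moment (A B : ℤ) :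
    ∑ b : (ZMod p)ˣ, ∑ u : (ZMod p)ˣ, (A + cnt E 1 b u) * (A + cnt E 1 b u - B) =
      e ^ 2 * ((p : ℤ) - 2 + (e - 1) * (e - 2) + (2 * A - B) * ((p : ℤ) - 2) +
        A * (A - B) * t ^ 2) := by
  have h : ∀ b u : (ZMod p)ˣ, (A + cnt E 1 b u) * (A + cnt E 1 b u - B) =
      (cnt E 1 b u : ℤ) ^ 2 + (2 * A - B) * cnt E 1 b u + A * (A - B) := fun b u => by ring
  simp only [h, sum_add_distrib, ← Finset.mul_sum, sum_const, card_univ, nsmul_eq_mul,
    sum_sum_cnt, sum_sum_cnt_sq, card_units_eq E ht]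
  ring

/-- Row totals equal to one are impossible. -/
theorem no_total_one (h4 : 4 ≤ t) (he : 2 ≤ Nat.card E) (A : ℤ)
    (h : ∀ b u : (ZMod p)ˣ, 0 ≤ A + cnt E 1 b u) (hM : t * A + e = 1) : False := by
  have hle : ∀ b u : (ZMod p)ˣ, A + cnt E 1 b u ≤ 1 := fun b u => by
    have h1 := le_of_row E ht (h b) (fun u x => by rw [cnt_mul_out]) (m := 1 - opp E 1 b) (by
      have h := row_total E ht A 1 b
      simp only [one_mul] at h
      rw [h, ← hM]
      ring) u
    have : (0 : ℤ) ≤ opp E 1 b := Int.natCast_nonneg _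
    omega
  have hle0 : ∑ b : (ZMod p)ˣ, ∑ u : (ZMod p)ˣ,
      (A + cnt E 1 b u) * (A + cnt E 1 b u - 1) = 0 := by
    refine sum_eq_zero fun b _ => sum_eq_zero fun u _ => ?_
    have := h b u
    have := hle b u
    rcases (show A + cnt E 1 b u = 0 ∨ A + cnt E 1 b u = 1 by omega) with h' | h' <;> simp [h']
  rw [moment E ht, mul_eq_zero] at hle0
  have hm := hle0.resolve_left (by positivity)
  have hp' : (p : ℤ) = e * t + 1 := by exact_mod_cast ht
  rw [hp'] at hm
  have he' : (2 : ℤ) ≤ e := by exact_mod_cast he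
  have h4' : (4 : ℤ) ≤ t := by exact_mod_cast h4
  have hA : A < 0 := by nlinarith
  nlinarith [mul_le_mul_of_nonneg_left h4' (show (0 : ℤ) ≤ e - 1 by omega)]

open Classical in
theorem exists_avoid (hp2 : p ≠ 2) (h3 : 3 ≤ t) :
    ∃ k : (ZMod p)ˣ, k ∉ E ∧ iota E 1 k = 0 := by
  by_contra hc
  push Not at hc
  have h1 : (univ : Finset (ZMod p)ˣ).card ≤
      ((univ : Finset E).image Subtype.val).card + (univ.filter fun k => iota E 1 k = 1).card := by
    refine (card_le_card fun k _ => ?_).trans (card_union_le _ _)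
    rcases Classical.em (k ∈ E) with hk | hk
    · exact mem_union_left _ (mem_image.2 ⟨⟨k, hk⟩, mem_univ _, rfl⟩)
    · refine mem_union_right _ (mem_filter.2 ⟨mem_univ _, ?_⟩)
      have := hc k hk
      unfold iota at this ⊢
      split_ifs at this ⊢ <;> first | rfl | exact absurd rfl this
  rw [card_image_of_injective _ Subtype.val_injective, card_univ, card_univ, ZMod.card_units,
    ← Nat.card_eq_fintype_card] at h1
  have h2 : (univ.filter fun k => iota E 1 k = 1).card = Nat.card E := by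
    rw [← sum_iota E hp2 1, card_filter]
    refine sum_congr rfl fun k _ => ?_
    unfold iota
    split_ifs <;> simp_all
  rw [h2] at h1
  have he : 0 < Nat.card E := Nat.card_pos
  have : Nat.card E * 3 ≤ Nat.card E * t := Nat.mul_le_mul_left _ h3
  omega

theorem opp_one (hneg : -1 ∈ E) : opp E 1 1 = 1 :=
  if_pos ⟨⟨-1, hneg⟩, by simp [val₀]⟩

theorem iota_two (hp2 : p ≠ 2) : ∃ u : (ZMod p)ˣ, iota E 1 u = 1 := by
  have h2 : (2 : ZMod p) ≠ 0 := by
    intro h
    rw [show (2 : ZMod p) = ((2 : ℕ) : ZMod p) by norm_num, ZMod.natCast_eq_zero_iff] at h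
    exact hp2 ((Nat.prime_dvd_prime_iff_eq hp.out Nat.prime_two).1 h)
  exact ⟨Units.mk0 2 h2, if_pos ⟨1, by simp [val₀]⟩⟩

/-- The first parity of an even order is impossible. -/
theorem no_even_plus (hp2 : p ≠ 2) (hneg : -1 ∈ E) (h3 : 3 ≤ t) (A δ K : ℤ) (hδ : δ = 1 ∨ δ = -1)
    (h : ∀ b u : (ZMod p)ˣ, 0 ≤ A + δ * cnt E 1 b u) (hM : t * A + δ * e ≤ t - 1)
    (hK : ∀ u : (ZMod p)ˣ, (cnt E 1 1 u : ℤ) + iota E 1 u = K) : False := by
  have hsum := sum_congr rfl (fun u (_ : u ∈ (univ : Finset (ZMod p)ˣ)) => hK u)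
  rw [sum_add_distrib, sum_cnt, opp_one E ht hneg, ← Nat.cast_sum, sum_iota E hp2, sum_const,
    card_univ, nsmul_eq_mul, card_units_eq E ht] at hsum
  push_cast at hsum
  have heK : e = t * K := mul_left_cancel₀ (show e ≠ 0 by exact_mod_cast Nat.card_pos.ne')
    (by linear_combination hsum)
  rcases hδ with rfl | rfl
  · obtain ⟨u, hu⟩ := iota_two E ht hp2
    have h1 := h 1 u
    have h2 := hK u
    rw [hu] at h2
    push_cast at h2
    have h5 : (t : ℤ) * 1 ≤ t * (A + K) :=
      mul_le_mul_of_nonneg_left (by linarith) (Int.natCast_nonneg t)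
    nlinarith
  · obtain ⟨k, -, hk⟩ := exists_avoid E ht hp2 h3
    have h1 := h 1 k
    have h2 := hK k
    rw [hk] at h2
    push_cast at h2
    have h4 := total_ge E ht A fun b u => by linarith [h b u]
    rcases le_or_gt A K with h5 | h5
    · have h6 : (t : ℤ) * A ≤ t * K := mul_le_mul_of_nonneg_left h5 (Int.natCast_nonneg t)
      have : (3 : ℤ) ≤ t := by exact_mod_cast h3
      linarith
    · have h6 : (t : ℤ) * (K + 1) ≤ t * A := mul_le_mul_of_nonneg_left h5 (Int.natCast_nonneg t)
      linarith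

/-- The second parity of an even order forces the order two. -/
theorem card_eq_two (hp2 : p ≠ 2) (hneg : -1 ∈ E) (h3 : 3 ≤ t) (A δ K : ℤ)
    (hδ : δ = 1 ∨ δ = -1) (h : ∀ b u : (ZMod p)ˣ, 0 ≤ A + δ * cnt E 1 b u)
    (hM : t * A + δ * e ≤ t - 2) (hK : ∀ u : (ZMod p)ˣ, (cnt E 1 1 u : ℤ) - iota E 1 u = K) :
    Nat.card E = 2 := by
  classical
  have hsum := sum_congr rfl (fun u (_ : u ∈ (univ : Finset (ZMod p)ˣ)) => hK u)
  rw [sum_sub_distrib, sum_cnt, opp_one E ht hneg, ← Nat.cast_sum, sum_iota E hp2, sum_const,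
    card_univ, nsmul_eq_mul, card_units_eq E ht] at hsum
  push_cast at hsum
  have heK : e - 2 = t * K := mul_left_cancel₀ (show e ≠ 0 by exact_mod_cast Nat.card_pos.ne')
    (by linear_combination hsum)
  obtain ⟨k, hkE, hk⟩ := exists_avoid E ht hp2 h3
  have hkc := hK k
  rw [hk] at hkc
  push_cast at hkc
  have hK0 : 0 ≤ K := by have := Int.natCast_nonneg (cnt E 1 1 k); linarith
  suffices K = 0 by
    subst this
    rw [mul_zero, sub_eq_zero] at heK
    exact_mod_cast heK
  by_contra hKne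
  have hK1 : 1 ≤ K := by omega
  obtain ⟨u₂, hu₂⟩ := iota_two E ht hp2
  have h3' : (3 : ℤ) ≤ t := by exact_mod_cast h3
  have hp' : (p : ℤ) = e * t + 1 := by exact_mod_cast ht
  rcases hδ with rfl | rfl
  · have hAK : 0 ≤ A + K := by have := h 1 k; rw [show (cnt E 1 1 k : ℤ) = K by linarith] at this; linarith
    have h2 : (t : ℤ) * (A + K) + 2 ≤ t - 2 := by linarith
    have hAK0 : A = -K := by
      rcases le_or_gt (A + K) 0 with h5 | h5
      · linarith
      · nlinarith
    subst hAK0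
    have hle : ∀ b u : (ZMod p)ˣ, -K + cnt E 1 b u ≤ 2 := fun b u => by
      have h1 := le_of_row E ht (f := fun u => -K + cnt E 1 b u) (fun u => by simpa using h b u) (fun u x => by simp only [cnt_mul_out])
        (m := 2 - opp E 1 b) (by
          have h := row_total E ht (-K) 1 b
          simp only [one_mul] at h
          rw [h]
          have : e = t * K + 2 := by linarith
          rw [this]
          ring) u
      have : (0 : ℤ) ≤ opp E 1 b := Int.natCast_nonneg _
      omega
    have hle0 : ∑ b : (ZMod p)ˣ, ∑ u : (ZMod p)ˣ,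
        (-K + cnt E 1 b u) * (-K + cnt E 1 b u - 2) ≤ 0 :=
      sum_nonpos fun b _ => sum_nonpos fun u _ =>
        mul_nonpos_of_nonneg_of_nonpos (by simpa using h b u) (by linarith [hle b u])
    rw [moment E ht] at hle0
    have hm : (p : ℤ) - 2 + (e - 1) * (e - 2) + (2 * -K - 2) * ((p : ℤ) - 2) +
        -K * (-K - 2) * t ^ 2 ≤ 0 := by
      by_contra hc
      push Not at hc
      have : (0 : ℤ) < e ^ 2 := pow_pos (by exact_mod_cast Nat.card_pos) 2
      nlinarith
    have he : e = t * K + 2 := by linarith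
    rw [hp', he] at hm
    have hm' : (t * K + 2) * ((t : ℤ) - 3) + 2 * K + 7 ≤ 4 * t := by nlinarith
    have ht5 : t ≤ 4 := by
      by_contra hc
      push Not at hc
      have : (5 : ℤ) ≤ t := by exact_mod_cast hc
      nlinarith [mul_le_mul_of_nonneg_left hK1 (Int.natCast_nonneg t)]
    have ht4 : t = 4 := by
      rcases (show t = 3 ∨ t = 4 by omega) with h | h
      · subst h; push_cast at h2; linarith
      · exact h
    subst ht4
    push_cast at hm' he
    have hK1' : K = 1 := by linarith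
    subst hK1'
    have he6 : Nat.card E = 6 := by exact_mod_cast he
    rw [he6] at ht
    exact absurd (ht ▸ hp.out) (by norm_num)
  · have hAK : K + 1 ≤ A := by
      have h1 := h 1 u₂
      have h2 := hK u₂
      rw [hu₂] at h2
      push_cast at h2
      linarith
    have hA : A = K + 1 := by
      rcases le_or_gt A (K + 1) with h5 | h5
      · linarith
      · have h6 : (t : ℤ) * (K + 2) ≤ t * A := mul_le_mul_of_nonneg_left (by omega) (Int.natCast_nonneg t)
        linarith
    subst hA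
    set f : (ZMod p)ˣ → (ZMod p)ˣ → ℤ := fun b u =>
      (cnt E 1 b u : ℤ) * (K + 1 - cnt E 1 b u) with hf
    have hf0 : ∀ b u, 0 ≤ f b u := fun b u =>
      mul_nonneg (Int.natCast_nonneg _) (by linarith [h b u])
    have htot : ∑ b, ∑ u, f b u = e ^ 2 * (K * ((p : ℤ) - 2) - (e - 1) * (e - 2)) := by
      simp only [hf, mul_sub, sum_sub_distrib, ← sq, mul_comm _ (K + 1), ← Finset.mul_sum,
        sum_sum_cnt, sum_sum_cnt_sq]
      ring
    have hrow : ∀ x : E, ∑ u, f x u = K * (e * t - e) := fun x => by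
      have hval : ∀ u, f x u = K * (1 - (iota E 1 u : ℤ)) := fun u => by
        have h1 : cnt E 1 (x : (ZMod p)ˣ) u = cnt E 1 1 u := by
          have := cnt_mul_mid E 1 1 u x
          rwa [one_mul] at this
        have h2 : (cnt E 1 1 u : ℤ) = K + iota E 1 u := by linarith [hK u]
        simp only [hf, h1, h2]
        have h01 : iota E 1 u = 0 ∨ iota E 1 u = 1 := by unfold iota; split_ifs <;> simp
        rcases h01 with h0 | h0 <;> rw [h0] <;> push_cast <;> ring
      rw [sum_congr rfl fun u _ => hval u, ← Finset.mul_sum, sum_sub_distrib, sum_const, card_univ,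
        nsmul_eq_mul, card_units_eq E ht, ← Nat.cast_sum, sum_iota E hp2]
      ring
    have hk1 : f k 1 = K := by
      simp only [hf, cnt_swap E hneg, show (cnt E 1 1 k : ℤ) = K by linarith]
      ring
    have hsub : (∑ x : E, ∑ u, f x u) + f k 1 ≤ ∑ b, ∑ u, f b u := by
      rw [← sum_image (s := (univ : Finset E)) (g := Subtype.val) (f := fun b => ∑ u, f b u)
        fun x _ y _ h => Subtype.ext h]
      have hdis : k ∉ (univ : Finset E).image Subtype.val := fun hm => by
        obtain ⟨x, -, rfl⟩ := mem_image.1 hm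
        exact hkE x.2
      refine le_trans ?_ (sum_le_univ_sum_of_nonneg
        (s := insert k ((univ : Finset E).image Subtype.val)) fun b => sum_nonneg fun u _ => hf0 b u)
      rw [sum_insert hdis, add_comm]
      exact add_le_add (single_le_sum (fun u _ => hf0 k u) (mem_univ _)) le_rfl
    rw [sum_congr rfl fun x _ => hrow x, sum_const, card_univ, nsmul_eq_mul, hk1, htot,
      ← Nat.card_eq_fintype_card, hp'] at hsub
    have : e ^ 2 * (K * (e * t + 1 - 2) - (e - 1) * (e - 2)) = e * (K * (e * t - e)) := by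
      rw [heK]; ring
    linarith

end Cfsg.Lib.Feit
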