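import Cfsg.Agent.Lib.Feit.Products

/-!
# The degree `p - e` for at least three classes

An exceptional character of degree `p - e` with a family over the squared central character forces
the order two for an even `e`; for an odd `e` such families and a principal family are incompatible.
-/

set_option autoImplicit false
set_option linter.unusedSectionVars false
set_option linter.style.haveILetI false
set_option maxHeartbeats 1000000

namespace Cfsg.Lib.Feit

open Cfsg Cfsg.Lib.Char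
open scoped ComplexConjugate Classical

universe u

noncomputable local instance (priority := high) fintypeSubgroupFeitCore {A : Type u}
    [Group A] [Fintype A] (K : Subgroup A) : Fintype K := Fintype.ofFinite K

variable {p : ℕ} [Fact p.Prime] {G : Type u} [Group G] [Fintype G] {hS : Setting p G}
  {δ : ℤ} {lam1 lam2 : Subgroup.center G →* ℂˣ} (L1 : Fam hS (-1) lam1) (L2 : Fam hS (-1) lam2)
  {t : ℕ} (ht : p = Nat.card hS.E * t + 1)

omit [Fintype G] in
theorem exists_opp_zero {E : Subgroup (ZMod p)ˣ} (ht : p = Nat.card E * t + 1) (h2 : 2 ≤ t) :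
    ∃ b : (ZMod p)ˣ, opp E 1 b = 0 := by
  by_contra hc
  push Not at hc
  have h := sum_opp E
  rw [Finset.sum_congr rfl (g := fun _ => 1) fun b _ => ?_, Finset.sum_const, Finset.card_univ,
    smul_eq_mul, mul_one, ZMod.card_units, show p - 1 = Nat.card E * t by omega] at h
  · have he : 0 < Nat.card E := Nat.card_pos
    have := Nat.mul_le_mul_left (Nat.card E) h2
    omega
  · have := hc b
    unfold opp at this ⊢
    split_ifs at this ⊢ <;> first | rfl | exact absurd rfl this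

include ht in
/-- The bound for a row. -/
theorem Fam.row_bound (F3 : Fam hS δ (lam1 * lam2))
    (hd1 : charDegree (L1.ψ 1 : G → ℂ) + Nat.card hS.E = p)
    (hd2 : charDegree (L2.ψ 1 : G → ℂ) + Nat.card hS.E = p)
    {μ1 μ2 : hS.H →* ℂˣ} (hμ1 : ∀ z : Subgroup.center G, μ1 ⟨z, hS.center_le z.2⟩ = lam1 z)
    (hμ2 : ∀ z : Subgroup.center G, μ2 ⟨z, hS.center_le z.2⟩ = lam2 z)
    (h1 : ∀ u (h : hS.H), hS.r h ≠ 1 → (L1.ψ u : G → ℂ) h = (μ1 h : ℂ))
    (h2 : ∀ u (h : hS.H), hS.r h ≠ 1 → (L2.ψ u : G → ℂ) h = (μ2 h : ℂ))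
    {A : ℤ} (hA : ∀ a b u : (ZMod p)ˣ,
      classInner (L1.prod L2 a b) (F3.ψ u : G → ℂ) = ((A + δ * cnt hS.E a b u : ℤ) : ℂ))
    {ν : hS.H →* ℂˣ} {n : ℕ}
    (hn : ∀ u, classInner (hS.fixPart (F3.ψ u : G → ℂ)) (fun h => (ν h : ℂ)) = (n : ℂ))
    (hν : ∀ z : Subgroup.center G, ν ⟨z, hS.center_le z.2⟩ = (lam1 * lam2) z)
    (b : (ZMod p)ˣ) (s : Finset (IrrCharacter G)) (hs : ∀ χ ∈ s, ∀ u, F3.ψ u ≠ χ)
    (hs1 : ∀ χ ∈ s, classInner (L1.prod L2 1 b) (χ : G → ℂ) = 1 ∧
      classInner (hS.fixPart (χ : G → ℂ)) (fun h => (ν h : ℂ)) = 1) :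
    (n : ℤ) * (t * A + δ * ((Nat.card hS.E : ℤ) - opp hS.E 1 b)) ≤
      (t : ℤ) - 2 + opp hS.E 1 b + (if ν = μ1 * μ2 then 1 else 0) - s.card := by
  have h := F3.row_le (L1.isCharacter_prod L2 1 b) (hA 1 b) hn
    (L1.weight_prod L2 hd1 hd2 ht hμ1 hμ2 h1 h2 1 b ν hν) s hs hs1
  rw [row_total hS.E ht, mul_left_comm] at h
  exact le_of_mul_le_mul_left h (by exact_mod_cast Nat.card_pos)

/-- A character whose weight vanishes has no multiplicities in a family. -/
theorem Fam.eq_zero_of_weight {lam : Subgroup.center G →* ℂˣ} (F : Fam hS δ lam) {f : G → ℂ}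
    (hf : IsCharacter G f) {ν : hS.H →* ℂˣ} {n : ℕ} (hn0 : n ≠ 0)
    (hn : ∀ u, classInner (hS.fixPart (F.ψ u : G → ℂ)) (fun h => (ν h : ℂ)) = (n : ℂ))
    (hW : classInner (hS.fixPart f) (fun h => (ν h : ℂ)) = 0) (u : (ZMod p)ˣ) :
    classInner f (F.ψ u : G → ℂ) = 0 := by
  choose m hm using fun u : (ZMod p)ˣ => hf.exists_nat_classInner (F.ψ u).2.isCharacter
  have h := F.row_le hf (m := fun u => (m u : ℤ)) (fun u => by rw [hm u, Int.cast_natCast]) hn
    (W := 0) (by rw [hW, Int.cast_zero]) ∅ (by simp) (by simp)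
  rw [Finset.card_empty, Nat.cast_zero, sub_zero, mul_zero, ← Nat.cast_sum, ← Nat.cast_mul] at h
  have h0 : n * ∑ u, m u = 0 := by
    have : ((n * ∑ u, m u : ℕ) : ℤ) = 0 := le_antisymm h (Int.natCast_nonneg _)
    exact_mod_cast this
  rw [hm u, Finset.sum_eq_zero_iff.1 ((Nat.mul_eq_zero.1 h0).resolve_left hn0) u
    (Finset.mem_univ u), Nat.cast_zero]

include ht in
/-- An even order is two. -/
theorem Fam.card_E_eq_two (hp2 : p ≠ 2) (h3 : 3 ≤ t)
    (hd : charDegree (L1.ψ 1 : G → ℂ) + Nat.card hS.E = p) (hneg : -1 ∈ hS.E)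
    (F3 : Fam hS δ (lam1 * lam1))
    (hw : (charDegree (F3.ψ 1 : G → ℂ) : ℤ) ≠ δ * Nat.card hS.E) : Nat.card hS.E = 2 := by
  obtain ⟨μ, hμ, h1⟩ := exists_mu L1 hd
  obtain ⟨A, hA⟩ := L1.mult_prod L1 F3
  obtain ⟨B, hB⟩ := L1.mult_square F3 hp2
  obtain ⟨ν, n, hn0, hn, hν⟩ := F3.exists_weight hw
  obtain ⟨τ, hτ⟩ := hneg
  have hneg : -1 ∈ hS.E := ⟨τ, hτ⟩
  obtain ⟨b, hb⟩ := exists_opp_zero ht (by omega)
  have hM := L1.row_bound L1 ht F3 hd hd hμ hμ h1 h1 (fun a b u => (hA a b u).1) hn hν b ∅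
    (by simp) (by simp)
  rw [hb, Nat.cast_zero, sub_zero, Finset.card_empty, Nat.cast_zero, sub_zero, add_zero] at hM
  have hM0 : 0 ≤ (t : ℤ) * A + δ * Nat.card hS.E := by
    have h := Finset.sum_nonneg fun u (_ : u ∈ Finset.univ) => (hA 1 b u).2
    rw [row_total hS.E ht, hb, Nat.cast_zero, sub_zero] at h
    exact nonneg_of_mul_nonneg_right h (by exact_mod_cast Nat.card_pos)
  have hMle : (t : ℤ) * A + δ * Nat.card hS.E ≤ (t : ℤ) - 2 + if ν = μ * μ then 1 else 0 :=
    le_trans (le_mul_of_one_le_left hM0 (by exact_mod_cast Nat.pos_of_ne_zero hn0)) hM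
  set s : ℂ := (μ τ : ℂ) * μ τ * conj (ν τ : ℂ) with hs
  have hs1 : s = 1 ∨ s = -1 := by
    have hz : ((τ * τ : hS.H) : G) ∈ Subgroup.center G :=
      (hS.r_ker _).1 (by rw [map_mul, hτ, neg_mul_neg, one_mul])
    have e1 : μ τ * μ τ = lam1 ⟨_, hz⟩ := (map_mul μ τ τ).symm.trans (hμ ⟨_, hz⟩)
    have e2 : ν τ * ν τ = lam1 ⟨_, hz⟩ * lam1 ⟨_, hz⟩ :=
      (map_mul ν τ τ).symm.trans (hν ⟨_, hz⟩)
    have e1' := congrArg Units.val e1
    have e2' := congrArg Units.val e2
    rw [Units.val_mul] at e1' e2'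
    rw [Units.val_mul] at e2'
    have key : s * s = 1 := by
      have e : s * s = ((μ τ : ℂ) * μ τ) * ((μ τ : ℂ) * μ τ) * conj ((ν τ : ℂ) * ν τ) := by
        rw [hs, map_mul]; ring
      rw [e, e1', e2', ← Units.val_mul, ← map_mul lam1, hom_mul_conj]
    exact mul_self_eq_one_iff.1 key
  have halt : ∀ q : ℤ, q = 1 ∨ q = -1 → IsCharacter G (fun g => ((L1.ψ 1 : G → ℂ) g *
      (L1.ψ 1 : G → ℂ) g + (q : ℂ) * (L1.ψ 1 : G → ℂ) (g * g)) / 2) := by
    rintro q (rfl | rfl)
    · simpa using isCharacter_symSquare (L1.ψ 1).2.isCharacter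
    · simpa [← sub_eq_add_neg] using isCharacter_altSquare (L1.ψ 1).2.isCharacter
  have key : ∀ q : ℤ, q = 1 ∨ q = -1 →
      classInner (hS.fixPart fun g => ((L1.ψ 1 : G → ℂ) g * (L1.ψ 1 : G → ℂ) g +
        (q : ℂ) * (L1.ψ 1 : G → ℂ) (g * g)) / 2) (fun h => (ν h : ℂ)) = 0 →
      ∀ u, A + δ * cnt hS.E 1 1 u + q * (B - δ * iota hS.E 1 u) = 0 := fun q hq h0 u => by
    have h := F3.eq_zero_of_weight (halt q hq) hn0 hn h0 u
    have e : classInner (fun g => ((L1.ψ 1 : G → ℂ) g * (L1.ψ 1 : G → ℂ) g +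
        (q : ℂ) * (L1.ψ 1 : G → ℂ) (g * g)) / 2) (F3.ψ u : G → ℂ) =
        (2 : ℂ)⁻¹ * classInner (L1.prod L1 1 1) (F3.ψ u : G → ℂ) + (q : ℂ) / 2 *
          classInner (fun g : G => (L1.ψ 1 : G → ℂ) (g * g)) (F3.ψ u : G → ℂ) := by
      rw [← classInner_smul_left, ← classInner_smul_left, ← classInner_add_left]
      congr 1
      funext g
      simp only [Pi.add_apply, Pi.smul_apply, smul_eq_mul, Fam.prod]
      ring
    rw [e, (hA 1 1 u).1, hB u] at h
    have h2 : (((A + δ * cnt hS.E 1 1 u) + q * (B - δ * iota hS.E 1 u) : ℤ) : ℂ) = 0 := by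
      push_cast at h ⊢
      linear_combination 2 * h
    exact_mod_cast h2
  have hδ2 : δ * δ = 1 := by rcases F3.sign with h | h <;> rw [h] <;> norm_num
  rcases hs1 with hs1 | hs1
  · have h := key (-1) (Or.inr rfl) (by
      rw [L1.weight_square hd ht hp2 hμ h1 hτ (-1) ν hν, ← hs, hs1]
      push_cast
      ring)
    exact (no_even_plus hS.E ht hp2 hneg h3 A δ (δ * (B - A)) F3.sign (fun b u => (hA 1 b u).2)
      (le_trans hMle (by split_ifs <;> omega)) fun u => by
        linear_combination δ * h u - ((cnt hS.E 1 1 u : ℤ) + iota hS.E 1 u) * hδ2).elim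
  · have hne : ν ≠ μ * μ := fun e => by
      have : s = 1 := by
        rw [hs, e, MonoidHom.mul_apply, ← Units.val_mul, ← map_mul μ, hom_mul_conj]
      rw [hs1] at this
      norm_num at this
    have h := key 1 (Or.inl rfl) (by
      rw [L1.weight_square hd ht hp2 hμ h1 hτ 1 ν hν, ← hs, hs1, if_neg hne]
      push_cast
      ring)
    rw [if_neg hne, add_zero] at hMle
    exact card_eq_two hS.E ht hp2 hneg h3 A δ (-δ * (A + B)) F3.sign (fun b u => (hA 1 b u).2)
      hMle fun u => by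
        linear_combination δ * h u - ((cnt hS.E 1 1 u : ℤ) - iota hS.E 1 u) * hδ2

include ht in
/-- The total of a row for a family with negative sign and an odd order. -/
theorem total_eq_of_neg {E : Subgroup (ZMod p)ˣ} {A : ℤ} (hE : p = Nat.card E * t + 1)
    (hte : Even t) (heo : Odd (Nat.card E)) (h : ∀ b u : (ZMod p)ˣ, 0 ≤ A + (-1) * cnt E 1 b u)
    (hle : (t : ℤ) * A - Nat.card E ≤ t - 1) : (t : ℤ) * A - Nat.card E = t - 1 := by
  have hge := total_ge E hE A fun b u => by linarith [h b u]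
  obtain ⟨a, ha⟩ := hte
  obtain ⟨c, hc⟩ := heo
  subst ha
  rw [hc] at hle hge ⊢
  push_cast at hle hge ⊢
  have e : ((a : ℤ) + a) * A = 2 * (a * A) := by ring
  rw [e] at hle hge ⊢
  omega

include ht in
/-- An odd order is one. -/
theorem Fam.odd_false (hp2 : p ≠ 2) (h3 : 3 ≤ t)
    (hd : charDegree (L1.ψ 1 : G → ℂ) + Nat.card hS.E = p) (heo : Odd (Nat.card hS.E))
    (he : 2 ≤ Nat.card hS.E) (F2 : Fam hS (-1) (lam1 * lam1)) (F1 : Fam hS δ 1)
    (hw : (charDegree (F1.ψ 1 : G → ℂ) : ℤ) ≠ δ * Nat.card hS.E) : False := by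
  have hte : Even t := by
    have : Even (Nat.card hS.E * t) := by
      obtain ⟨a, ha⟩ := (Fact.out : p.Prime).odd_of_ne_two hp2
      exact ⟨a, by omega⟩
    exact (Nat.even_mul.1 this).resolve_left (Nat.not_even_iff_odd.2 heo)
  obtain ⟨μ, hμ, h1⟩ := exists_mu L1 hd
  obtain ⟨b, hb⟩ := exists_opp_zero ht (by omega)
  -- the squared character gives a congruence
  have hdiv : (t : ℤ) ∣ (Nat.card hS.E : ℤ) - 1 := by
    obtain ⟨A, hA⟩ := L1.mult_prod L1 F2
    obtain ⟨ν, n, hn0, hn, hν⟩ := F2.exists_weight (by omega)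
    have hM := L1.row_bound L1 ht F2 hd hd hμ hμ h1 h1 (fun a b u => (hA a b u).1) hn hν b ∅
      (by simp) (by simp)
    rw [hb, Nat.cast_zero, sub_zero, Finset.card_empty, Nat.cast_zero, sub_zero, add_zero] at hM
    have hge := total_ge hS.E ht A fun b u => by linarith [(hA 1 b u).2]
    have hle : (t : ℤ) * A - Nat.card hS.E ≤ t - 1 := by
      have h0 : 0 ≤ (t : ℤ) * A - Nat.card hS.E := by omega
      have := le_trans (le_mul_of_one_le_left h0 (by exact_mod_cast Nat.pos_of_ne_zero hn0 :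
        (1 : ℤ) ≤ n)) (le_trans (le_of_eq (by ring)) hM)
      split_ifs at this <;> omega
    have heq := total_eq_of_neg ht ht hte heo (fun b u => (hA 1 b u).2) hle
    exact ⟨A - 1, by linear_combination -heq⟩
  obtain ⟨F1', hw'⟩ : ∃ F' : Fam hS δ (lam1 * lam1⁻¹),
      (charDegree (F'.ψ 1 : G → ℂ) : ℤ) ≠ δ * Nat.card hS.E := by
    have e : lam1 * lam1⁻¹ = 1 := MonoidHom.ext fun z => by simp
    rw [e]; exact ⟨F1, hw⟩
  obtain ⟨A, hA⟩ := L1.mult_prod L1.bar F1'
  obtain ⟨ν, n, hn0, hn, hν⟩ := F1'.exists_weight hw'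
  have hdb : charDegree (L1.bar.ψ 1 : G → ℂ) + Nat.card hS.E = p := by
    have h : ((charDegree (L1.bar.ψ 1 : G → ℂ) : ℕ) : ℂ) = (charDegree (L1.ψ 1 : G → ℂ) : ℂ) := by
      rw [← L1.bar.apply_one 1, L1.bar_ψ, L1.apply_one, Complex.conj_natCast]
    rw [Nat.cast_inj.1 h, hd]
  have hμb : ∀ z : Subgroup.center G, μ⁻¹ ⟨z, hS.center_le z.2⟩ = lam1⁻¹ z := fun z => by
    rw [MonoidHom.inv_apply, MonoidHom.inv_apply, hμ]
  have h1b : ∀ u (h : hS.H), hS.r h ≠ 1 → (L1.bar.ψ u : G → ℂ) h = (μ⁻¹ h : ℂ) := fun u h hh => by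
    rw [L1.bar_ψ, h1 _ h hh, conj_hom, MonoidHom.inv_apply]
  have hrow := fun b s h h' => L1.row_bound L1.bar ht F1' hd hdb hμ hμb h1 h1b
    (fun a b u => (hA a b u).1) hn hν b s h h'
  have hM0 : 0 ≤ (t : ℤ) * A + δ * Nat.card hS.E := by
    have h := Finset.sum_nonneg fun u (_ : u ∈ Finset.univ) => (hA 1 b u).2
    rw [row_total hS.E ht, hb, Nat.cast_zero, sub_zero] at h
    exact nonneg_of_mul_nonneg_right h (by exact_mod_cast Nat.card_pos)
  have hn1 : (1 : ℤ) ≤ n := by exact_mod_cast Nat.pos_of_ne_zero hn0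
  have hM := hrow b ∅ (by simp) (by simp)
  rw [hb, Nat.cast_zero, sub_zero, Finset.card_empty, Nat.cast_zero, sub_zero, add_zero] at hM
  have hMle : (t : ℤ) * A + δ * Nat.card hS.E ≤
      (t : ℤ) - 2 + if ν = μ * μ⁻¹ then 1 else 0 :=
    le_trans (le_mul_of_one_le_left hM0 hn1) hM
  rcases F1'.sign with rfl | rfl
  · obtain ⟨c, hc⟩ := hdiv
    have hM1 : (t : ℤ) * A + Nat.card hS.E = 1 := by
      rw [one_mul] at hM0 hMle
      have h2 : (t : ℤ) * A + Nat.card hS.E ≤ t - 1 := le_trans hMle (by split_ifs <;> omega)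
      have e : (t : ℤ) * A + Nat.card hS.E = t * (A + c) + 1 := by linear_combination hc
      rw [e] at h2 hM0 ⊢
      have ht0 : (3 : ℤ) ≤ t := by exact_mod_cast h3
      rcases lt_trichotomy (A + c) 0 with h | h | h
      · nlinarith
      · simp [h]
      · nlinarith
    refine no_total_one hS.E ht ?_ he A (fun b u => by simpa using (hA 1 b u).2) hM1
    obtain ⟨a, ha⟩ := hte
    omega
  · have heq := total_eq_of_neg ht ht hte heo (fun b u => (hA 1 b u).2) (by
      split_ifs at hMle <;> omega)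
    have hν1 : ν = μ * μ⁻¹ := by
      by_contra hne
      rw [if_neg hne] at hMle
      omega
    have hμ1 : μ * μ⁻¹ = 1 := MonoidHom.ext fun z => by simp
    rw [hμ1] at hν1
    subst hν1
    have hneg1 : opp hS.E 1 (-1) = 1 := if_pos ⟨1, by simp [val₀]⟩
    have htr : ∀ u, F1'.ψ u ≠ Cfsg.Lib.Block.trivChar G := fun u e => by
      have h := F1'.sum_val u
      rw [e, Cfsg.Lib.Block.trivChar_coe, Finset.sum_const,
        Finset.card_erase_of_mem (Finset.mem_univ _), Finset.card_univ, ← Nat.card_eq_fintype_card,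
        hS.card, nsmul_eq_mul, mul_one] at h
      push_cast at h
      have h' : p - 1 = Nat.card hS.E := by
        have : ((p - 1 : ℕ) : ℂ) = (Nat.card hS.E : ℂ) := by rw [h]; ring
        exact_mod_cast this
      have := Nat.mul_le_mul_left (Nat.card hS.E) h3
      omega
    have h := hrow (-1) {Cfsg.Lib.Block.trivChar G}
      (fun χ hχ u => Finset.mem_singleton.1 hχ ▸ htr u) fun χ hχ => by
        rw [Finset.mem_singleton.1 hχ, Cfsg.Lib.Block.trivChar_coe]
        constructor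
        · rw [classInner_one_right, ← classInner_irr_self (L1.ψ 1).2]
          simp [classInner, Fam.prod, L1.bar_ψ]
        · have e : hS.fixPart (fun _ : G => (1 : ℂ)) = fun _ => 1 := by
            funext h
            rw [Setting.fixPart, Finset.sum_const, Finset.card_univ, ← Nat.card_eq_fintype_card,
              hS.card, nsmul_eq_mul, mul_one,
              inv_mul_cancel₀ (Nat.cast_ne_zero.2 (Fact.out : p.Prime).ne_zero)]
          rw [e]
          simp [classInner]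
    rw [hneg1, hμ1, if_pos rfl, Finset.card_singleton, Nat.cast_one] at h
    nlinarith

end Cfsg.Lib.Feit
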