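import Cfsg.Agent.Lib.Feit.Small
import Cfsg.Agent.Lib.Block.DegreePSubTwo

/-!
# The classes of elements of order `p`

With a Sylow subgroup `P` of order `p` the classes of elements of order `p` times the index of the
centralizer in the normalizer is `p - 1`.
-/

set_option autoImplicit false
set_option linter.unusedSectionVars false
set_option linter.style.haveILetI false

namespace Cfsg.Lib.Feit

open Cfsg.Lib.Block (zpowers_eq_of_mem)

universe u

variable {p : ℕ} [hp : Fact p.Prime] {G : Type u} [Group G] [Fintype G]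

theorem card_classes_mul_index {P : Subgroup G} (hcard : Nat.card P = p)
    (hfac : (Nat.card G).factorization p = 1) :
    Nat.card {c : ConjClasses G // ∃ g : G, ConjClasses.mk g = c ∧ orderOf g = p} *
      (Subgroup.centralizer (P : Set G)).relIndex (Subgroup.normalizer (P : Set G)) = p - 1 := by
  classical
  set N := Subgroup.normalizer (P : Set G) with hN
  set C := Subgroup.centralizer (P : Set G) with hC
  set K := C.subgroupOf N with hK
  let X := {c : ConjClasses G // ∃ g : G, ConjClasses.mk g = c ∧ orderOf g = p}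
  let S : Sylow p G := Sylow.ofCard P (by rw [hfac, hcard, pow_one])
  have hord : ∀ y ∈ P, y ≠ 1 → orderOf y = p := fun y hy h1 => ((Nat.dvd_prime hp.out).1
    (hcard ▸ Subgroup.orderOf_dvd_natCard P hy)).resolve_left fun h => h1 (orderOf_eq_one_iff.1 h)
  have hgen : ∀ y ∈ P, y ≠ 1 → ∀ g : G, g * y * g⁻¹ ∈ P → g ∈ N := by
    intro y hy h1 g hg
    have hle : P.map (MulAut.conj g).toMonoidHom ≤ P := by
      conv_lhs => rw [← zpowers_eq_of_mem hcard hy h1]
      rw [MonoidHom.map_zpowers, Subgroup.zpowers_le]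
      simpa using hg
    have heq : P.map (MulAut.conj g).toMonoidHom = P := Subgroup.eq_of_le_of_card_ge hle
      (le_of_eq (Subgroup.card_map_of_injective (MulAut.conj g).injective).symm)
    rw [hN, Subgroup.mem_normalizer_iff]
    intro x
    constructor
    · intro hx
      rw [← heq]
      exact ⟨x, hx, rfl⟩
    · intro hx
      rw [← heq] at hx
      obtain ⟨z, hz, hzx⟩ := hx
      have : z = x := (MulAut.conj g).injective hzx
      exact this ▸ hz
  have hrep : ∀ c : X, ∃ y : P, (y : G) ≠ 1 ∧ ConjClasses.mk (y : G) = c.1 := by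
    rintro ⟨c, g, rfl, hg⟩
    obtain ⟨R, hR⟩ := IsPGroup.exists_le_sylow (p := p) (G := G)
      (IsPGroup.of_card (n := 1) (by rw [Nat.card_zpowers, hg, pow_one]) :
        IsPGroup p (Subgroup.zpowers g))
    obtain ⟨x, hx⟩ := MulAction.exists_smul_eq G R S
    have hmem : x * g * x⁻¹ ∈ P := by
      show x * g * x⁻¹ ∈ (S : Subgroup G)
      rw [← hx, Sylow.coe_subgroup_smul, Subgroup.mem_pointwise_smul_iff_inv_smul_mem]
      simpa [mul_assoc] using hR (Subgroup.mem_zpowers g)
    refine ⟨⟨_, hmem⟩, fun h => ?_, ConjClasses.mk_eq_mk_iff_isConj.2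
      (isConj_iff.2 ⟨x, rfl⟩).symm⟩
    rw [conj_eq_one_iff] at h
    rw [h, orderOf_one] at hg
    exact hp.out.ne_one hg.symm
  choose y hy1 hy using hrep
  have hnorm : ∀ (g : N) (z : P), (g : G) * z * (g : G)⁻¹ ∈ P := fun g z =>
    (Subgroup.mem_normalizer_iff.1 g.2 (z : G)).1 z.2
  let f : X × (N ⧸ K) → {z : P // z ≠ 1} := fun q => ⟨⟨(q.2.out : G) * y q.1 * (q.2.out : G)⁻¹,
    hnorm _ _⟩, fun h => hy1 q.1 (conj_eq_one_iff.1 (congrArg Subtype.val h))⟩
  have hf : Function.Bijective f := by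
    constructor
    · rintro ⟨c, a⟩ ⟨c', a'⟩ h
      have h' : (a.out : G) * y c * (a.out : G)⁻¹ = (a'.out : G) * y c' * (a'.out : G)⁻¹ :=
        congrArg (fun z : {z : P // z ≠ 1} => ((z : P) : G)) h
      have hcc : c = c' := Subtype.ext (by
        rw [← hy c, ← hy c', ConjClasses.mk_eq_mk_iff_isConj]
        exact isConj_iff.2 ⟨(a'.out : G)⁻¹ * a.out, by
          calc (a'.out : G)⁻¹ * a.out * y c * ((a'.out : G)⁻¹ * a.out)⁻¹
              = (a'.out : G)⁻¹ * ((a.out : G) * y c * (a.out : G)⁻¹) * a'.out := by group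
            _ = y c' := by rw [h']; group⟩)
      subst hcc
      refine Prod.ext rfl ?_
      show a = a'
      rw [← QuotientGroup.out_eq' a, ← QuotientGroup.out_eq' a', QuotientGroup.eq]
      show ((a.out⁻¹ * a'.out : N) : G) ∈ Subgroup.centralizer (P : Set G)
      rw [← zpowers_eq_of_mem hcard (y c).2 (hy1 c), Subgroup.mem_centralizer_iff]
      intro w hw
      obtain ⟨i, rfl⟩ := Subgroup.mem_zpowers_iff.1 hw
      refine (Commute.zpow_left (?_ : Commute (y c : G) _) i).eq
      show (y c : G) * ((a.out⁻¹ * a'.out : N) : G) = ((a.out⁻¹ * a'.out : N) : G) * y c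
      rw [Subgroup.coe_mul, Subgroup.coe_inv]
      calc (y c : G) * ((a.out : G)⁻¹ * a'.out)
          = (a.out : G)⁻¹ * ((a.out : G) * y c * (a.out : G)⁻¹) * a'.out := by group
        _ = (a.out : G)⁻¹ * a'.out * y c := by rw [h']; group
    · rintro ⟨⟨z, hz⟩, hz1⟩
      have hz1' : z ≠ 1 := fun h => hz1 (Subtype.ext h)
      set c : X := ⟨ConjClasses.mk z, z, rfl, hord z hz hz1'⟩
      obtain ⟨x, hx⟩ := isConj_iff.1 (ConjClasses.mk_eq_mk_iff_isConj.1 (hy c))
      have hxN : x ∈ N := hgen _ (y c).2 (hy1 c) x (by rw [hx]; exact hz)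
      obtain ⟨k, hk⟩ := QuotientGroup.mk_out_eq_mul K (⟨x, hxN⟩ : N)
      refine ⟨(c, ((⟨x, hxN⟩ : N) : N ⧸ K)), Subtype.ext (Subtype.ext ?_)⟩
      show ((((⟨x, hxN⟩ : N) : N ⧸ K).out : N) : G) * y c * (_ : G)⁻¹ = z
      rw [hk, Subgroup.coe_mul]
      have hkc : ((k : N) : G) ∈ C := Subgroup.mem_subgroupOf.1 k.2
      have e := Subgroup.mem_centralizer_iff.1 hkc _ (y c).2
      calc x * ((k : N) : G) * y c * (x * ((k : N) : G))⁻¹
          = x * (((k : N) : G) * y c) * ((k : N) : G)⁻¹ * x⁻¹ := by group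
        _ = z := by rw [← e, ← hx]; group
  have h := Nat.card_congr (Equiv.ofBijective f hf)
  rw [Nat.card_prod] at h
  rw [Subgroup.relIndex, ← hK, Subgroup.index, h, Nat.card_eq_fintype_card]
  rw [Fintype.card_subtype_compl, Fintype.card_subtype_eq, ← Nat.card_eq_fintype_card, hcard]

/-- If there is one class, all exponents occur. -/
theorem exists_conj_of_one_class {P : Subgroup G} (hcard : Nat.card P = p)
    (h1 : Nat.card {c : ConjClasses G // ∃ g : G, ConjClasses.mk g = c ∧ orderOf g = p} = 1)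
    {u : G} (hu : u ∈ P) (hu1 : u ≠ 1) {j : ℕ} (hj : ¬ p ∣ j) :
    ∃ g, g * u * g⁻¹ = u ^ j := by
  have ho : orderOf u = p := ((Nat.dvd_prime hp.out).1
    (hcard ▸ Subgroup.orderOf_dvd_natCard P hu)).resolve_left fun h => hu1 (orderOf_eq_one_iff.1 h)
  obtain ⟨hsub, -⟩ := Nat.card_eq_one_iff_unique.1 h1
  have hj' : orderOf (u ^ j) = p := by
    rw [orderOf_pow, ho, (hp.out.coprime_iff_not_dvd.2 hj), Nat.div_one]
  have h := congrArg Subtype.val (Subsingleton.elim
    (⟨ConjClasses.mk u, u, rfl, ho⟩ : {c : ConjClasses G // ∃ g : G, ConjClasses.mk g = c ∧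
      orderOf g = p}) ⟨ConjClasses.mk (u ^ j), u ^ j, rfl, hj'⟩)
  exact isConj_iff.1 (ConjClasses.mk_eq_mk_iff_isConj.1 h)

end Cfsg.Lib.Feit
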