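import Mathlib

/-!
# Counting and character sums for a subgroup of the multiplicative group modulo a prime

For a subgroup `E` of order `e` the period at `a` is `η a y = ∑_{x ∈ E} ψ (a x y)`. The products of
periods are counted by the numbers `cnt a b u` of solutions of `a x + b z = u` in `E`, whose row
sums and second moment are elementary.
-/

set_option autoImplicit false
set_option linter.unusedSectionVars false

namespace Cfsg.Lib.Feit

open scoped ComplexConjugate
open Finset

variable {p : ℕ} [hp : Fact p.Prime] (E : Subgroup (ZMod p)ˣ)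

noncomputable local instance : Fintype E := Fintype.ofFinite E

/-- The image of an element of `E` in the field. -/
abbrev val₀ (x : E) : ZMod p := ((x : (ZMod p)ˣ) : ZMod p)

/-- A period. -/
noncomputable def eta (a y : ZMod p) : ℂ := ∑ x : E, ZMod.stdAddChar (a * val₀ E x * y)

/-- The number of solutions of `a x + b z = u`. -/
noncomputable def cnt (a b u : (ZMod p)ˣ) : ℕ :=
  (univ.filter fun q : E × E => (a : ZMod p) * val₀ E q.1 + b * val₀ E q.2 = u).card

open Classical in
/-- The indicator of the coset of twice `a`. -/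
noncomputable def iota (a u : (ZMod p)ˣ) : ℕ :=
  if ∃ x : E, 2 * (a : ZMod p) * val₀ E x = u then 1 else 0

open Classical in
/-- The indicator of `a` and `b` being opposite modulo `E`. -/
noncomputable def opp (a b : (ZMod p)ˣ) : ℕ :=
  if ∃ x : E, (a : ZMod p) * val₀ E x + b = 0 then 1 else 0

theorem val₀_ne (x : E) : val₀ E x ≠ 0 := Units.ne_zero _

theorem eta_zero (a : ZMod p) : eta E a 0 = (Nat.card E : ℂ) := by
  simp [eta, Nat.card_eq_fintype_card]

theorem eta_mul (a : ZMod p) (x : E) (y : ZMod p) : eta E (a * val₀ E x) y = eta E a y := by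
  refine Fintype.sum_equiv (Equiv.mulLeft x) _ _ fun z => ?_
  simp [val₀, mul_assoc]

theorem eta_mul_arg (a c y : ZMod p) : eta E a (c * y) = eta E (a * c) y := by
  refine Finset.sum_congr rfl fun x _ => ?_
  congr 1
  ring

theorem conj_eta (a y : ZMod p) : conj (eta E a y) = eta E (-a) y := by
  simp only [eta, map_sum]
  refine Finset.sum_congr rfl fun x _ => ?_
  rw [← AddChar.map_neg_eq_conj]
  congr 1
  ring

theorem sum_std (b : ZMod p) :
    ∑ y : ZMod p, ZMod.stdAddChar (b * y) = if b = 0 then (p : ℂ) else 0 := by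
  have h := AddChar.sum_mulShift b (ZMod.isPrimitive_stdAddChar p)
  simp only [ZMod.card, mul_comm _ b] at h
  rw [h]
  split_ifs <;> simp

/-- The sum of a period over the nonzero residues. -/
theorem sum_eta (a : (ZMod p)ˣ) :
    ∑ y ∈ univ.erase (0 : ZMod p), eta E a y = -(Nat.card E : ℂ) := by
  rw [Finset.sum_erase_eq_sub (mem_univ _), eta_zero]
  unfold eta
  rw [Finset.sum_comm, Finset.sum_eq_zero fun x _ => by
    rw [sum_std, if_neg (mul_ne_zero (Units.ne_zero a) (val₀_ne E x))], zero_sub]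

theorem card_zero_pairs (a b : (ZMod p)ˣ) :
    (univ.filter fun q : E × E => (a : ZMod p) * val₀ E q.1 + b * val₀ E q.2 = 0).card =
      Nat.card E * opp E a b := by
  classical
  unfold opp
  split_ifs with h
  · obtain ⟨x₀, hx₀⟩ := h
    rw [mul_one, Nat.card_eq_fintype_card, ← Finset.card_univ]
    refine Finset.card_bij' (fun q _ => q.2) (fun z _ => (x₀ * z, z)) (fun _ _ => mem_univ _)
      (fun z _ => ?_) (fun q hq => ?_) fun _ _ => rfl
    · refine mem_filter.2 ⟨mem_univ _, ?_⟩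
      simp only [val₀, Subgroup.coe_mul, Units.val_mul]
      linear_combination val₀ E z * hx₀
    · rw [mem_filter] at hq
      refine Prod.ext ?_ rfl
      refine Subtype.ext (Units.ext ?_)
      simp only [Subgroup.coe_mul, Units.val_mul]
      refine mul_left_cancel₀ (Units.ne_zero a) ?_
      linear_combination val₀ E q.2 * hx₀ - hq.2
  · rw [mul_zero, Finset.card_eq_zero, Finset.filter_eq_empty_iff]
    intro q _ hq
    refine h ⟨q.1 * q.2⁻¹, mul_right_cancel₀ (val₀_ne E q.2) ?_⟩
    have e : val₀ E q.2⁻¹ * val₀ E q.2 = 1 := by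
      simp only [val₀, Subgroup.coe_inv, ← Units.val_mul, inv_mul_cancel, Units.val_one]
    simp only [val₀, Subgroup.coe_mul, Units.val_mul] at *
    linear_combination hq + (a : ZMod p) * ((q.1 : (ZMod p)ˣ) : ZMod p) * e

/-- The product of two periods summed over the nonzero residues. -/
theorem sum_eta_mul (a b : (ZMod p)ˣ) :
    ∑ y ∈ univ.erase (0 : ZMod p), eta E a y * eta E b y =
      (p : ℂ) * (Nat.card E : ℂ) * (opp E a b : ℂ) - (Nat.card E : ℂ) ^ 2 := by
  classical
  rw [Finset.sum_erase_eq_sub (mem_univ _), eta_zero, eta_zero, ← sq]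
  congr 1
  have h : ∀ y : ZMod p, eta E a y * eta E b y = ∑ q : E × E,
      ZMod.stdAddChar (((a : ZMod p) * val₀ E q.1 + (b : ZMod p) * val₀ E q.2) * y) := by
    intro y
    rw [Fintype.sum_prod_type, eta, eta, Finset.sum_mul_sum]
    refine Finset.sum_congr rfl fun x _ => Finset.sum_congr rfl fun z _ => ?_
    rw [← AddChar.map_add_eq_mul, add_mul]
  rw [Finset.sum_congr rfl fun y _ => h y, Finset.sum_comm]
  simp only [sum_std]
  rw [← Finset.sum_filter, Finset.sum_const, card_zero_pairs, nsmul_eq_mul]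
  push_cast
  ring

theorem card_triples (a b u : (ZMod p)ˣ) :
    (univ.filter fun q : (E × E) × E =>
      (a : ZMod p) * val₀ E q.1.1 + b * val₀ E q.1.2 = u * val₀ E q.2).card =
      Nat.card E * cnt E a b u := by
  classical
  rw [cnt, mul_comm, Nat.card_eq_fintype_card, ← Finset.card_univ (α := E), ← Finset.card_product]
  refine Finset.card_bij' (fun q _ => ((q.1.1 * q.2⁻¹, q.1.2 * q.2⁻¹), q.2))
    (fun q _ => ((q.1.1 * q.2, q.1.2 * q.2), q.2)) (fun q hq => ?_) (fun q hq => ?_)
    (fun q _ => by simp) fun q _ => by simp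
  · rw [mem_filter] at hq
    refine mem_product.2 ⟨mem_filter.2 ⟨mem_univ _, ?_⟩, mem_univ _⟩
    have e : val₀ E q.2⁻¹ * val₀ E q.2 = 1 := by
      simp only [val₀, Subgroup.coe_inv, ← Units.val_mul, inv_mul_cancel, Units.val_one]
    simp only [val₀, Subgroup.coe_mul, Units.val_mul] at *
    linear_combination (((q.2⁻¹ : E) : (ZMod p)ˣ) : ZMod p) * hq.2 + (u : ZMod p) * e
  · rw [mem_product, mem_filter] at hq
    refine mem_filter.2 ⟨mem_univ _, ?_⟩
    simp only [val₀, Subgroup.coe_mul, Units.val_mul] at *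
    linear_combination ((q.2 : (ZMod p)ˣ) : ZMod p) * hq.1.2

/-- The triple product of periods summed over the nonzero residues. -/
theorem sum_eta_triple (a b u : (ZMod p)ˣ) :
    ∑ y ∈ univ.erase (0 : ZMod p), eta E a y * eta E b y * conj (eta E u y) =
      (p : ℂ) * (Nat.card E : ℂ) * (cnt E a b u : ℂ) - (Nat.card E : ℂ) ^ 3 := by
  classical
  simp only [conj_eta]
  rw [Finset.sum_erase_eq_sub (mem_univ _), eta_zero, eta_zero, eta_zero]
  congr 1
  · have h : ∀ y : ZMod p, eta E a y * eta E b y * eta E (-u) y = ∑ q : (E × E) × E,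
        ZMod.stdAddChar (((a : ZMod p) * val₀ E q.1.1 + (b : ZMod p) * val₀ E q.1.2 - (u : ZMod p) * val₀ E q.2) * y) := by
      intro y
      rw [Fintype.sum_prod_type, Fintype.sum_prod_type, eta, eta, eta, Finset.sum_mul_sum]
      simp only [Finset.sum_mul]
      simp only [Finset.mul_sum]
      refine Finset.sum_congr rfl fun x _ => Finset.sum_congr rfl fun z _ =>
        Finset.sum_congr rfl fun w _ => ?_
      rw [← AddChar.map_add_eq_mul, ← AddChar.map_add_eq_mul]
      congr 1
      ring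
    rw [Finset.sum_congr rfl fun y _ => h y, Finset.sum_comm]
    simp only [sum_std, sub_eq_zero]
    rw [← Finset.sum_filter, Finset.sum_const, card_triples, nsmul_eq_mul]
    push_cast
    ring
  · ring

/-- A period at twice `a` against a conjugate period. -/
theorem sum_eta_two (hp2 : p ≠ 2) (a u : (ZMod p)ˣ) :
    ∑ y ∈ univ.erase (0 : ZMod p), eta E a (2 * y) * conj (eta E u y) =
      (p : ℂ) * (Nat.card E : ℂ) * (iota E a u : ℂ) - (Nat.card E : ℂ) ^ 2 := by
  classical
  have h2 : (2 : ZMod p) ≠ 0 := by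
    intro h
    rw [show (2 : ZMod p) = ((2 : ℕ) : ZMod p) by norm_num, ZMod.natCast_eq_zero_iff] at h
    exact hp2 ((Nat.prime_dvd_prime_iff_eq hp.out Nat.prime_two).1 h)
  have h := sum_eta_mul E (a * Units.mk0 2 h2) (-u)
  simp only [Units.val_mul, Units.val_mk0, Units.val_neg] at h
  simp only [eta_mul_arg, conj_eta]
  rw [h]
  congr 3
  simp only [iota, opp, Units.val_mul, Units.val_mk0, Units.val_neg, add_neg_eq_zero]
  refine if_congr (exists_congr fun x => ?_) rfl rfl
  rw [mul_comm (a : ZMod p) 2]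

/-- Periods determine the coset. -/
theorem exists_of_eta_eq {u v : (ZMod p)ˣ}
    (h : ∀ y : ZMod p, y ≠ 0 → eta E u y = eta E v y) :
    ∃ x : E, (u : ZMod p) * val₀ E x = v := by
  classical
  by_contra hc
  have h1 := sum_eta_mul E u (-u)
  have h2 := sum_eta_mul E u (-v)
  have he : ∑ y ∈ univ.erase (0 : ZMod p), eta E u y * eta E (-u : (ZMod p)ˣ) y =
      ∑ y ∈ univ.erase (0 : ZMod p), eta E u y * eta E (-v : (ZMod p)ˣ) y := by
    refine Finset.sum_congr rfl fun y hy => ?_
    rw [Units.val_neg, Units.val_neg, ← conj_eta, ← conj_eta, h y (ne_of_mem_erase hy)]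
  rw [h1, h2] at he
  have o1 : opp E u (-u) = 1 := if_pos ⟨1, by simp [val₀]⟩
  have o2 : opp E u (-v) = 0 := by
    refine if_neg fun hx => hc ?_
    obtain ⟨x, hx⟩ := hx
    exact ⟨x, by rwa [Units.val_neg, add_neg_eq_zero] at hx⟩
  rw [o1, o2] at he
  have h0 : (p : ℂ) * (Nat.card E : ℂ) = 0 := by push_cast at he; linear_combination he
  exact mul_ne_zero (Nat.cast_ne_zero.2 hp.out.ne_zero) (Nat.cast_ne_zero.2 Nat.card_pos.ne') h0

/-! ## Counting -/

theorem cnt_mul_mid (a b u : (ZMod p)ˣ) (x : E) : cnt E a (b * x) u = cnt E a b u := by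
  classical
  refine Finset.card_bij' (fun q _ => (q.1, x * q.2)) (fun q _ => (q.1, x⁻¹ * q.2))
    (fun q hq => ?_) (fun q hq => ?_) (fun q _ => by simp) fun q _ => by simp
  · rw [mem_filter] at hq ⊢
    refine ⟨mem_univ _, ?_⟩
    simp only [val₀, Subgroup.coe_mul, Units.val_mul] at *
    linear_combination hq.2
  · rw [mem_filter] at hq ⊢
    refine ⟨mem_univ _, ?_⟩
    simp only [val₀, Subgroup.coe_mul, Subgroup.coe_inv, Units.val_mul] at *
    have e : ((x : (ZMod p)ˣ) : ZMod p) * (((x : (ZMod p)ˣ)⁻¹ : (ZMod p)ˣ) : ZMod p) = 1 := by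
      rw [← Units.val_mul, mul_inv_cancel, Units.val_one]
    linear_combination hq.2 + (b : ZMod p) * ((q.2 : (ZMod p)ˣ) : ZMod p) * e

theorem cnt_mul_out (a b u : (ZMod p)ˣ) (x : E) : cnt E a b (u * x) = cnt E a b u := by
  classical
  refine Finset.card_bij' (fun q _ => (x⁻¹ * q.1, x⁻¹ * q.2)) (fun q _ => (x * q.1, x * q.2))
    (fun q hq => ?_) (fun q hq => ?_) (fun q _ => by simp) fun q _ => by simp
  · rw [mem_filter] at hq ⊢
    refine ⟨mem_univ _, ?_⟩
    have e : ((x : (ZMod p)ˣ) : ZMod p) * (((x : (ZMod p)ˣ)⁻¹ : (ZMod p)ˣ) : ZMod p) = 1 := by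
      rw [← Units.val_mul, mul_inv_cancel, Units.val_one]
    simp only [val₀, Subgroup.coe_mul, Subgroup.coe_inv, Units.val_mul] at *
    linear_combination (((x : (ZMod p)ˣ)⁻¹ : (ZMod p)ˣ) : ZMod p) * hq.2 + (u : ZMod p) * e
  · rw [mem_filter] at hq ⊢
    refine ⟨mem_univ _, ?_⟩
    simp only [val₀, Subgroup.coe_mul, Units.val_mul] at *
    linear_combination ((x : (ZMod p)ˣ) : ZMod p) * hq.2

theorem iota_mul (a u : (ZMod p)ˣ) (x : E) : iota E a (u * x) = iota E a u := by
  classical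
  refine if_congr ⟨fun ⟨w, hw⟩ => ⟨w * x⁻¹, ?_⟩, fun ⟨w, hw⟩ => ⟨w * x, ?_⟩⟩ rfl rfl
  · have e : ((x : (ZMod p)ˣ) : ZMod p) * (((x : (ZMod p)ˣ)⁻¹ : (ZMod p)ˣ) : ZMod p) = 1 := by
      rw [← Units.val_mul, mul_inv_cancel, Units.val_one]
    simp only [val₀, Subgroup.coe_mul, Subgroup.coe_inv, Units.val_mul] at *
    linear_combination (((x : (ZMod p)ˣ)⁻¹ : (ZMod p)ˣ) : ZMod p) * hw + (u : ZMod p) * e
  · simp only [val₀, Subgroup.coe_mul, Units.val_mul] at *
    linear_combination ((x : (ZMod p)ˣ) : ZMod p) * hw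

open Classical in
theorem sum_iota (hp2 : p ≠ 2) (a : (ZMod p)ˣ) : ∑ u : (ZMod p)ˣ, iota E a u = Nat.card E := by
  have h2 : (2 : ZMod p) ≠ 0 := by
    intro h
    rw [show (2 : ZMod p) = ((2 : ℕ) : ZMod p) by norm_num, ZMod.natCast_eq_zero_iff] at h
    exact hp2 ((Nat.prime_dvd_prime_iff_eq hp.out Nat.prime_two).1 h)
  simp only [iota]
  rw [Finset.sum_boole, Nat.cast_id, Nat.card_eq_fintype_card, ← Finset.card_univ (α := E)]
  refine (Finset.card_bij (fun (x : E) _ => Units.mk0 (2 * (a : ZMod p) * val₀ E x)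
    (mul_ne_zero (mul_ne_zero h2 a.ne_zero) (val₀_ne E x))) (fun x _ => ?_)
    (fun x _ y _ h => ?_) fun u hu => ?_).symm
  · exact mem_filter.2 ⟨mem_univ _, x, rfl⟩
  · refine Subtype.ext (Units.ext (mul_left_cancel₀ (mul_ne_zero h2 a.ne_zero) ?_))
    simpa using congrArg Units.val h
  · obtain ⟨x, hx⟩ := (mem_filter.1 hu).2
    exact ⟨x, mem_univ _, Units.ext hx⟩

open Classical in
/-- The solutions over all nonzero right hand sides. -/
theorem sum_cnt (a b : (ZMod p)ˣ) :
    (∑ u : (ZMod p)ˣ, (cnt E a b u : ℤ)) =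
      (Nat.card E : ℤ) ^ 2 - Nat.card E * opp E a b := by
  have h1 : ∑ u : (ZMod p)ˣ, cnt E a b u =
      (univ.filter fun q : E × E => ¬ (a : ZMod p) * val₀ E q.1 + b * val₀ E q.2 = 0).card := by
    unfold cnt
    rw [← Finset.card_biUnion]
    · congr 1
      ext q
      simp only [mem_biUnion, mem_filter, mem_univ, true_and]
      exact ⟨fun ⟨u, hu⟩ => hu ▸ Units.ne_zero u, fun h => ⟨Units.mk0 _ h, rfl⟩⟩
    · intro u _ v _ huv
      simp only [Function.onFun, Finset.disjoint_left, mem_filter]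
      exact fun q h h' => huv (Units.ext (h.2.symm.trans h'.2))
  have h2 := Finset.card_filter_add_card_filter_not (s := (univ : Finset (E × E)))
    (fun q : E × E => (a : ZMod p) * val₀ E q.1 + b * val₀ E q.2 = 0)
  rw [card_zero_pairs, ← h1, Finset.card_univ, Fintype.card_prod, ← Nat.card_eq_fintype_card] at h2
  have h3 := congrArg (fun n : ℕ => (n : ℤ)) h2
  push_cast at h3
  linear_combination h3

open Classical in
theorem sum_opp : ∑ b : (ZMod p)ˣ, opp E 1 b = Nat.card E := by
  simp only [opp, Units.val_one, one_mul]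
  rw [Finset.sum_boole, Nat.cast_id, Nat.card_eq_fintype_card, ← Finset.card_univ (α := E)]
  refine (Finset.card_bij (fun (x : E) _ => -(x : (ZMod p)ˣ)) (fun x _ => ?_) (fun x _ y _ h => ?_)
    fun b hb => ?_).symm
  · exact mem_filter.2 ⟨mem_univ _, x, by simp⟩
  · exact Subtype.ext (neg_injective h)
  · obtain ⟨x, hx⟩ := (mem_filter.1 hb).2
    exact ⟨x, mem_univ _, Units.ext (by rw [Units.val_neg]; linear_combination -hx)⟩

open Classical in
/-- The sum of all counts. -/
theorem sum_sum_cnt :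
    (∑ b : (ZMod p)ˣ, ∑ u : (ZMod p)ˣ, (cnt E 1 b u : ℤ)) =
      (Nat.card E : ℤ) ^ 2 * ((p : ℤ) - 2) := by
  simp only [sum_cnt]
  rw [Finset.sum_sub_distrib, Finset.sum_const, ← Finset.mul_sum, Finset.card_univ, ZMod.card_units,
    nsmul_eq_mul, Nat.cast_sub hp.out.one_le, ← Nat.cast_sum, sum_opp]
  push_cast
  ring

open Classical in
/-- The second moment. -/
theorem sum_sum_cnt_sq :
    (∑ b : (ZMod p)ˣ, ∑ u : (ZMod p)ˣ, (cnt E 1 b u : ℤ) ^ 2) =
      (Nat.card E : ℤ) ^ 2 *
        (((p : ℤ) - 2) + ((Nat.card E : ℤ) - 1) * ((Nat.card E : ℤ) - 2)) := by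
  set e := Nat.card E with he
  -- pairs of solutions with a common nonzero value
  set S := (univ : Finset ((ZMod p)ˣ × (E × E) × (E × E))).filter
    (fun q => val₀ E q.2.1.1 + q.1 * val₀ E q.2.1.2 = val₀ E q.2.2.1 + q.1 * val₀ E q.2.2.2 ∧
      val₀ E q.2.1.1 + q.1 * val₀ E q.2.1.2 ≠ 0) with hS
  have hL : ∑ b : (ZMod p)ˣ, ∑ u : (ZMod p)ˣ, cnt E 1 b u ^ 2 = S.card := by
    unfold cnt
    simp only [Units.val_one, one_mul, sq, ← Finset.card_product]
    rw [hS, ← Fintype.sum_prod_type' (f := fun b u : (ZMod p)ˣ => (_ : Finset ((E × E) × (E × E))).card),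
      ← Finset.card_sigma]
    refine Finset.card_bij (fun q _ => (q.1.1, q.2)) (fun q hq => ?_) (fun q hq r hr h => ?_)
      fun r hr => ?_
    · simp only [mem_sigma, mem_product, mem_filter, mem_univ, true_and] at hq ⊢
      exact ⟨hq.1.trans hq.2.symm, hq.1 ▸ Units.ne_zero _⟩
    · simp only [mem_sigma, mem_product, mem_filter, mem_univ, true_and] at hq hr
      obtain ⟨⟨b, u⟩, qq⟩ := q
      obtain ⟨⟨b', u'⟩, rr⟩ := r
      obtain ⟨rfl, rfl⟩ := Prod.mk.injEq .. ▸ h
      obtain rfl : u = u' := Units.ext (hq.1.symm.trans hr.1)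
      rfl
    · simp only [mem_filter, mem_univ, true_and] at hr
      refine ⟨⟨(r.1, Units.mk0 _ hr.2), r.2⟩, ?_, rfl⟩
      refine mem_sigma.2 ⟨mem_univ _, mem_product.2 ⟨mem_filter.2 ⟨mem_univ _, ?_⟩,
        mem_filter.2 ⟨mem_univ _, ?_⟩⟩⟩
      · rfl
      · exact hr.1.symm
  -- split by whether the second coordinates agree
  have hsplit := Finset.card_filter_add_card_filter_not (s := S)
    (fun q => q.2.1.2 = q.2.2.2)
  have hdiag : ((S.filter fun q => q.2.1.2 = q.2.2.2).card : ℤ) = (e : ℤ) ^ 2 * ((p : ℤ) - 2) := by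
    rw [he, ← sum_sum_cnt E]
    simp only [← Nat.cast_sum, Nat.cast_inj]
    unfold cnt
    simp only [Units.val_one, one_mul]
    rw [← Fintype.sum_prod_type' (f := fun b u : (ZMod p)ˣ => (_ : Finset (E × E)).card),
      ← Finset.card_sigma]
    refine (Finset.card_bij (fun q _ => (q.1.1, q.2, q.2)) (fun q hq => ?_) (fun q hq r hr h => ?_)
      fun r hr => ?_).symm
    · simp only [mem_sigma, mem_filter, mem_univ, true_and, hS] at hq ⊢
      exact ⟨hq ▸ Units.ne_zero _, trivial⟩
    · simp only [mem_sigma, mem_filter, mem_univ, true_and] at hq hr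
      obtain ⟨⟨b, u⟩, qq⟩ := q
      obtain ⟨⟨b', u'⟩, rr⟩ := r
      simp only [Prod.mk.injEq] at h
      obtain ⟨rfl, rfl, -⟩ := h
      obtain rfl : u = u' := Units.ext (hq.symm.trans hr)
      rfl
    · simp only [mem_filter, mem_univ, true_and, hS] at hr
      obtain ⟨b, ⟨x, z⟩, ⟨x', z'⟩⟩ := r
      obtain ⟨⟨h1, h2⟩, h3⟩ := hr
      obtain rfl : z = z' := h3
      obtain rfl : x = x' := Subtype.ext (Units.ext (add_right_cancel h1))
      exact ⟨⟨(b, Units.mk0 _ h2), (x, z)⟩,
        mem_sigma.2 ⟨mem_univ _, mem_filter.2 ⟨mem_univ _, rfl⟩⟩, rfl⟩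
  have hoff : (S.filter fun q => ¬ q.2.1.2 = q.2.2.2).card =
      e * e * ((univ : Finset E).erase 1).offDiag.card := by
    rw [he, Nat.card_eq_fintype_card, ← Finset.card_univ (α := E), ← Finset.card_product,
      ← Finset.card_product]
    refine Finset.card_bij
      (fun q _ => ((q.2.2.1, q.2.2.2), (q.2.1.1 * q.2.2.1⁻¹, q.2.1.2 * q.2.2.2⁻¹))) ?_ ?_ ?_
    · intro q hq
      obtain ⟨b, ⟨x, z⟩, ⟨x', z'⟩⟩ := q
      simp only [mem_filter, mem_univ, true_and, hS] at hq
      obtain ⟨⟨h1, h2⟩, h3⟩ := hq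
      have hx : x ≠ x' := by
        rintro rfl
        exact h3 (Subtype.ext (Units.ext (mul_left_cancel₀ (Units.ne_zero b) (add_left_cancel h1))))
      simp only [mem_product, mem_univ, true_and, mem_offDiag, mem_erase, and_true]
      refine ⟨fun h => hx (mul_inv_eq_one.1 h), fun h => h3 (mul_inv_eq_one.1 h), fun h => h2 ?_⟩
      have h' : val₀ E x * val₀ E z' = val₀ E z * val₀ E x' := by
        have := congrArg (fun w : E => val₀ E (w * (x' * z'))) h
        simp only [inv_mul_cancel_left, mul_assoc] at this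
        rw [mul_comm x' z', inv_mul_cancel_left] at this
        simpa [val₀] using this
      have hz : val₀ E z' - val₀ E z ≠ 0 := fun h =>
        h3 (Subtype.ext (Units.ext (sub_eq_zero.1 h).symm))
      refine (mul_eq_zero.1 ?_).resolve_left hz
      linear_combination h' - val₀ E z * h1
    · intro q hq r hr h
      obtain ⟨b, ⟨x, z⟩, ⟨x', z'⟩⟩ := q
      obtain ⟨b₁, ⟨x₁, z₁⟩, ⟨x₁', z₁'⟩⟩ := r
      simp only [Prod.mk.injEq] at h
      obtain ⟨⟨rfl, rfl⟩, ha, hb⟩ := h
      obtain rfl := mul_right_cancel ha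
      obtain rfl := mul_right_cancel hb
      simp only [mem_filter, mem_univ, true_and, hS] at hq hr
      obtain ⟨⟨h1, -⟩, h3⟩ := hq
      obtain ⟨⟨h1', -⟩, -⟩ := hr
      obtain rfl : b = b₁ := by
        have hz : val₀ E z - val₀ E z' ≠ 0 := fun h =>
          h3 (Subtype.ext (Units.ext (sub_eq_zero.1 h)))
        exact Units.ext (mul_right_cancel₀ hz (by linear_combination h1 - h1'))
      rfl
    · rintro ⟨⟨x', z'⟩, ⟨s, r⟩⟩ hq
      simp only [mem_product, mem_univ, true_and, mem_offDiag, mem_erase, and_true] at hq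
      obtain ⟨hs, hr, hsr⟩ := hq
      have hz : val₀ E z' - val₀ E (r * z') ≠ 0 := fun h => hr (mul_right_cancel (b := z') (by
        rw [one_mul]; exact Subtype.ext (Units.ext (sub_eq_zero.1 h).symm)))
      have hx : val₀ E (s * x') - val₀ E x' ≠ 0 := fun h => hs (mul_right_cancel (b := x') (by
        rw [one_mul]; exact Subtype.ext (Units.ext (sub_eq_zero.1 h))))
      refine ⟨(Units.mk0 ((val₀ E (s * x') - val₀ E x') / (val₀ E z' - val₀ E (r * z')))
        (div_ne_zero hx hz), (s * x', r * z'), (x', z')), ?_, by simp⟩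
      simp only [mem_filter, mem_univ, true_and, hS, Units.val_mk0]
      refine ⟨⟨?_, fun h => hsr ?_⟩, fun h => hr (mul_right_cancel (b := z') (by rw [one_mul]; exact h))⟩
      · field_simp
        ring
      · rw [div_mul_eq_mul_div, add_div' _ _ _ hz, div_eq_zero_iff, or_iff_left hz] at h
        have h' : val₀ E (s * x') * val₀ E z' = val₀ E x' * val₀ E (r * z') := by linear_combination h
        simp only [val₀, Subgroup.coe_mul, Units.val_mul] at h'
        refine Subtype.ext (Units.ext (mul_right_cancel₀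
          (mul_ne_zero (val₀_ne E x') (val₀_ne E z')) ?_))
        linear_combination h'
  have hod : (((univ : Finset E).erase 1).offDiag.card : ℤ) = ((e : ℤ) - 1) * ((e : ℤ) - 2) := by
    rw [Finset.offDiag_card, Finset.card_erase_of_mem (mem_univ _), Finset.card_univ,
      ← Nat.card_eq_fintype_card, ← he]
    have he1 : 1 ≤ e := Nat.card_pos
    rw [Nat.cast_sub (Nat.le_mul_self _)]
    push_cast [he1]
    ring
  have hL' : (∑ b : (ZMod p)ˣ, ∑ u : (ZMod p)ˣ, (cnt E 1 b u : ℤ) ^ 2) = (S.card : ℤ) := by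
    exact_mod_cast hL
  rw [hL', ← hsplit, hoff]
  push_cast
  rw [hdiag, hod]
  ring

/-- The symmetry of the counts when `-1 ∈ E`. -/
theorem cnt_swap (hneg : -1 ∈ E) (k : (ZMod p)ˣ) : cnt E 1 k 1 = cnt E 1 1 k := by
  classical
  let m : E := ⟨-1, hneg⟩
  have hm : val₀ E m = -1 := by simp [m, val₀]
  refine Finset.card_bij' (fun q _ => (q.2⁻¹, m * q.1 * q.2⁻¹))
    (fun q _ => (m * q.2 * q.1⁻¹, q.1⁻¹)) (fun q hq => ?_) (fun q hq => ?_) (fun q _ => ?_)
    fun q _ => ?_
  · rw [mem_filter] at hq ⊢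
    refine ⟨mem_univ _, ?_⟩
    have e : val₀ E q.2 * val₀ E q.2⁻¹ = 1 := by
      simp only [val₀, Subgroup.coe_inv, ← Units.val_mul, mul_inv_cancel, Units.val_one]
    simp only [val₀, Subgroup.coe_mul, Units.val_mul, Units.val_one, one_mul] at *
    rw [hm]
    linear_combination -(((q.2⁻¹ : E) : (ZMod p)ˣ) : ZMod p) * hq.2 + (k : ZMod p) * e
  · rw [mem_filter] at hq ⊢
    refine ⟨mem_univ _, ?_⟩
    have e : val₀ E q.1 * val₀ E q.1⁻¹ = 1 := by
      simp only [val₀, Subgroup.coe_inv, ← Units.val_mul, mul_inv_cancel, Units.val_one]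
    simp only [val₀, Subgroup.coe_mul, Units.val_mul, Units.val_one, one_mul] at *
    rw [hm]
    linear_combination -(((q.1⁻¹ : E) : (ZMod p)ˣ) : ZMod p) * hq.2 + e
  · have h : m * m = 1 := Subtype.ext (by simp [m])
    refine Prod.ext ?_ (by simp)
    simp only [inv_inv]
    rw [← mul_assoc m, ← mul_assoc m, h, one_mul, inv_mul_cancel_right]
  · have h : m * m = 1 := Subtype.ext (by simp [m])
    refine Prod.ext (by simp) ?_
    simp only [inv_inv]
    rw [← mul_assoc m, ← mul_assoc m, h, one_mul, inv_mul_cancel_right]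

end Cfsg.Lib.Feit
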