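import Cfsg.Agent.Lib.Feit.Pairing

/-!
# One string in an exceptional representation of degree `p - e`

In integral matrices affording such a character the eigen-matrices of a Sylow element have a common
entry that is a unit.
-/

set_option autoImplicit false
set_option linter.unusedSectionVars false
set_option linter.style.haveILetI false
set_option maxHeartbeats 1000000

namespace Cfsg.Lib.Feit

open Cfsg Cfsg.Lib.Char
open scoped ComplexConjugate Classical Polynomial

universe u

noncomputable local instance (priority := high) fintypeSubgroupFeitEigen {A : Type u}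
    [Group A] [Fintype A] (K : Subgroup A) : Fintype K := Fintype.ofFinite K

local notation "ψc" => (ZMod.stdAddChar : AddChar (ZMod _) ℂ)

variable {p : ℕ} [hp : Fact p.Prime]

theorem eta_swap (E : Subgroup (ZMod p)ˣ) (a y : ZMod p) : eta E a y = eta E y a := by
  unfold eta
  exact Finset.sum_congr rfl fun x _ => by congr 1; ring

theorem sum_units_eq (f : ZMod p → ℂ) :
    ∑ u : (ZMod p)ˣ, f u = ∑ x ∈ Finset.univ.erase (0 : ZMod p), f x := by
  refine Finset.sum_bij (fun u _ => (u : ZMod p))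
    (fun u _ => Finset.mem_erase.2 ⟨u.ne_zero, Finset.mem_univ _⟩)
    (fun u _ v _ h => Units.ext h) (fun x hx => ?_) fun _ _ => rfl
  exact ⟨Units.mk0 x (Finset.mem_erase.1 hx).1, Finset.mem_univ _, rfl⟩

/-- The residues outside the subgroup. -/
noncomputable def outSet (E : Subgroup (ZMod p)ˣ) : Finset (ZMod p) :=
  Finset.univ.filter fun a => ¬ ∃ x : E, val₀ E x = a

theorem mem_outSet {E : Subgroup (ZMod p)ˣ} {a : ZMod p} :
    a ∈ outSet E ↔ ¬ ∃ x : E, val₀ E x = a := by simp [outSet]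

theorem card_outSet_compl (E : Subgroup (ZMod p)ˣ) : (outSet E)ᶜ.card = Nat.card E := by
  rw [Nat.card_eq_fintype_card, ← Finset.card_univ]
  refine (Finset.card_bij (fun x _ => val₀ E x) (fun x _ => ?_)
    (fun x _ y _ h => Subtype.ext (Units.ext h)) fun a ha => ?_).symm
  · simp only [Finset.mem_compl, mem_outSet, not_not]
    exact ⟨x, rfl⟩
  · rw [Finset.mem_compl, mem_outSet, not_not] at ha
    obtain ⟨x, hx⟩ := ha
    exact ⟨x, Finset.mem_univ _, hx⟩

/-- The eigen-matrices of a matrix killed by the product over a set of roots of unity. -/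
noncomputable def eigMat {ι : Type*} [Fintype ι] [DecidableEq ι] (S : Finset (ZMod p))
    (Y : Matrix ι ι ℂ) (a : ZMod p) : Matrix ι ι ℂ :=
  Polynomial.aeval Y
    ((∏ b ∈ S, (Polynomial.X - Polynomial.C (ψc b))) /ₘ (Polynomial.X - Polynomial.C (ψc a)))

theorem aeval_mul_eigen {ι : Type*} [Fintype ι] [DecidableEq ι] {Y M : Matrix ι ι ℂ} {c : ℂ}
    (h : Y * M = c • M) (P : ℂ[X]) : Polynomial.aeval Y P * M = P.eval c • M := by
  induction P using Polynomial.induction_on' with
  | add P Q hP hQ => rw [map_add, Matrix.add_mul, hP, hQ, Polynomial.eval_add, add_smul]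
  | monomial n r =>
    have hn : ∀ n : ℕ, Y ^ n * M = c ^ n • M := fun n => by
      induction n with
      | zero => simp
      | succ l ih => rw [pow_succ', Matrix.mul_assoc, ih, Matrix.mul_smul, h, smul_smul, ← pow_succ]
    rw [Polynomial.aeval_monomial, Polynomial.eval_monomial, ← Algebra.smul_def, Matrix.smul_mul,
      hn, smul_smul]

section eigMat

variable {ι : Type*} [Fintype ι] [DecidableEq ι] {S : Finset (ZMod p)} {Y : Matrix ι ι ℂ}

theorem eigMat_eq {a : ZMod p} (ha : a ∈ S) :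
    eigMat S Y a =
      Polynomial.aeval Y (∏ b ∈ S.erase a, (Polynomial.X - Polynomial.C (ψc b))) := by
  unfold eigMat
  rw [← Finset.mul_prod_erase _ _ ha,
    Polynomial.mul_divByMonic_cancel_left _ (Polynomial.monic_X_sub_C _)]

theorem eigMat_eigen (hY : Polynomial.aeval Y (∏ b ∈ S, (Polynomial.X - Polynomial.C (ψc b))) = 0)
    {a : ZMod p} (ha : a ∈ S) :
    Y * eigMat S Y a = ψc a • eigMat S Y a ∧ eigMat S Y a * Y = ψc a • eigMat S Y a := by
  rw [← Finset.mul_prod_erase _ _ ha, map_mul, map_sub, Polynomial.aeval_X,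
    Polynomial.aeval_C, ← eigMat_eq ha, Algebra.algebraMap_eq_smul_one, Matrix.sub_mul,
    Matrix.smul_mul, Matrix.one_mul, sub_eq_zero] at hY
  refine ⟨hY, ?_⟩
  conv_rhs => rw [← hY]
  rw [eigMat_eq ha]
  nth_rw 2 [← Polynomial.aeval_X (R := ℂ) Y]
  nth_rw 3 [← Polynomial.aeval_X (R := ℂ) Y]
  rw [← map_mul, ← map_mul, mul_comm]

theorem eigMat_mul (hY : Polynomial.aeval Y (∏ b ∈ S, (Polynomial.X - Polynomial.C (ψc b))) = 0)
    {a b : ZMod p} (ha : a ∈ S) (hb : b ∈ S) :
    eigMat S Y a * eigMat S Y b =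
      (∏ c ∈ S.erase a, (ψc b - ψc c)) • eigMat S Y b := by
  conv_lhs => rw [eigMat_eq ha]
  rw [aeval_mul_eigen (eigMat_eigen hY hb).1, Polynomial.eval_prod]
  simp

theorem eigMat_intPoly {V : ValuationSubring ℂ}
    (hYV : ∀ i j, V.valuation (Y i j) ≤ 1) (i j : ι) :
    IsIntPoly (p := p) V fun a => eigMat S Y a i j := by
  let hVp : Polynomial V := ∏ b ∈ S, (Polynomial.X - Polynomial.C ⟨ψc b, std_mem V b⟩)
  set h : ℂ[X] := ∏ b ∈ S, (Polynomial.X - Polynomial.C (ψc b)) with hh
  have hmap : hVp.map V.subtype = h := by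
    simp [hVp, hh, Polynomial.map_prod]
  have hcoef : ∀ n, h.coeff n ∈ V := fun n => by
    rw [← hmap, Polynomial.coeff_map]; exact (hVp.coeff n).2
  have hpow : ∀ n : ℕ, ∀ i j, (Y ^ n) i j ∈ V := fun n => by
    induction n with
    | zero => intro i j; rw [pow_zero, Matrix.one_apply]; split <;> simp
    | succ l ih =>
      intro i j
      rw [pow_succ, Matrix.mul_apply]
      exact sum_mem fun x _ => mul_mem (ih _ _) ((V.valuation_le_one_iff _).1 (hYV _ _))
  have hf : (fun a : ZMod p => eigMat S Y a i j) = fun a => ∑ n ∈ Finset.range (h.natDegree + 1),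
      (Y ^ n) i j * ∑ m ∈ Finset.Icc (n + 1) h.natDegree, h.coeff m * ψc a ^ (m - (n + 1)) := by
    funext a
    unfold eigMat
    rw [← hh, Polynomial.aeval_eq_sum_range' (n := h.natDegree + 1), Matrix.sum_apply]
    · refine Finset.sum_congr rfl fun n _ => ?_
      rw [Matrix.smul_apply, smul_eq_mul, Polynomial.coeff_divByMonic_X_sub_C, mul_comm]
      exact congrArg _ (Finset.sum_congr rfl fun m _ => mul_comm _ _)
    · refine Nat.lt_succ_of_le ?_
      rw [Polynomial.natDegree_divByMonic _ (Polynomial.monic_X_sub_C _)]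
      exact Nat.sub_le _ _
  rw [hf]
  exact IsIntPoly.sum _ fun n _ => (IsIntPoly.const (hpow n i j)).mul
    (IsIntPoly.sum _ fun m _ => (IsIntPoly.const (hcoef m)).mul (IsIntPoly.std.pow _))

end eigMat

variable {G : Type u} [Group G] [Fintype G] {hS : Setting p G} {lam : Subgroup.center G →* ℂˣ}
  (L : Fam hS (-1) lam) {t : ℕ} (ht : p = Nat.card hS.E * t + 1)
  (V : ValuationSubring ℂ) (hV : (p : ℂ) ∈ V.nonunits)

include ht hV in
/-- Integral matrices for a character of degree `p - e`, with a unit entry in the eigen-matrices. -/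
theorem Fam.exists_eigen_unit (h3 : 3 ≤ t)
    (hd : charDegree (L.ψ 1 : G → ℂ) + Nat.card hS.E = p) :
    ∃ (n : ℕ) (R : G →* Matrix (Fin n) (Fin n) ℂ) (i j : Fin n),
      (∀ g k l, V.valuation (R g k l) ≤ 1) ∧ (∀ g, (R g).trace = (L.ψ 1 : G → ℂ) g) ∧
      (∀ z : Subgroup.center G, R z = (lam z : ℂ) • 1) ∧
      Polynomial.aeval (R (hS.y₁ : G))
        (∏ b ∈ outSet hS.E, (Polynomial.X - Polynomial.C (ψc b))) = 0 ∧
      ∀ a ∈ outSet hS.E, V.valuation (eigMat (outSet hS.E) (R (hS.y₁ : G)) a i j) = 1 := by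
  obtain ⟨n, R, hn, hR, htr, hscal⟩ := exists_integral_rep V (L.ψ 1).2
  set E := hS.E with hE
  set e := Nat.card E with he
  have he0 : 0 < e := Nat.card_pos
  have h3e : e * 3 ≤ e * t := Nat.mul_le_mul_left e h3
  set S := outSet E with hSdef
  have hnd : (n : ℂ) = (p : ℂ) - (e : ℂ) := by
    rw [← hn, L.apply_one, eq_sub_iff_add_eq]
    exact_mod_cast hd
  have hn0 : (n : ℂ) ≠ 0 := by
    rw [hnd, sub_ne_zero]
    intro h
    have : p = e := by exact_mod_cast h
    omega
  have hz : ∀ z : Subgroup.center G, R z = (lam z : ℂ) • 1 := fun z => by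
    obtain ⟨ω, hω⟩ := hscal (fun g => if g = (z : G) then 1 else 0) fun g h => by
      refine if_congr ⟨fun e => ?_, fun e => ?_⟩ rfl rfl
      · have := congrArg (fun x => h⁻¹ * x * h) e
        simp only [mul_assoc, inv_mul_cancel, mul_one, inv_mul_cancel_left] at this
        rw [this, ← Subgroup.mem_center_iff.1 z.2 h, inv_mul_cancel_left]
      · rw [e, Subgroup.mem_center_iff.1 z.2 h, mul_inv_cancel_right]
    simp only [ite_smul, one_smul, zero_smul, Finset.sum_ite_eq', Finset.mem_univ, if_true] at hω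
    have h1 := congrArg Matrix.trace hω
    rw [htr, Matrix.trace_smul, Matrix.trace_one, Fintype.card_fin, smul_eq_mul,
      show (L.ψ 1 : G → ℂ) z = (lam z : ℂ) * (n : ℂ) by
        rw [← hn]; simpa using L.central 1 z 1] at h1
    rw [hω, mul_right_cancel₀ hn0 h1]
  set Y := R (hS.y₁ : G) with hYdef
  -- the spectral idempotents
  set Q : ZMod p → Matrix (Fin n) (Fin n) ℂ := fun a =>
    (p : ℂ)⁻¹ • ∑ y : hS.P, ψc (-(a * hS.k y)) • R (y : G) with hQ
  have hp0 : (p : ℂ) ≠ 0 := Nat.cast_ne_zero.2 hp.out.ne_zero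
  have hQe : ∀ a, Y * Q a = ψc a • Q a := fun a => by
    simp only [hQ, Matrix.mul_smul, Matrix.mul_sum]
    rw [smul_comm]
    congr 1
    rw [Finset.smul_sum]
    refine Fintype.sum_equiv (Equiv.mulLeft hS.y₁) _ _ fun y => ?_
    rw [Equiv.coe_mulLeft, smul_smul, ← AddChar.map_add_eq_mul, hS.k_add, Subgroup.coe_mul,
      map_mul R]
    congr 2
    rw [Setting.y₁, Equiv.apply_symm_apply]
    ring
  have hQall : ∀ a (y : hS.P), R (y : G) * Q a = ψc (a * hS.k y) • Q a := fun a y => by
    have h := aeval_mul_eigen (hQe a) (Polynomial.X ^ (hS.k y).val)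
    rw [map_pow, Polynomial.aeval_X, Polynomial.eval_pow, Polynomial.eval_X, hYdef, ← map_pow,
      ← SubmonoidClass.coe_pow, hS.pow_y₁, ← AddChar.map_nsmul_eq_pow, nsmul_eq_mul,
      ZMod.natCast_zmod_val, mul_comm] at h
    exact h
  have hQidem : ∀ a, IsIdempotentElem (Q a) := fun a => by
    show Q a * Q a = Q a
    conv_lhs => arg 1; rw [hQ]
    simp only [Matrix.smul_mul, Finset.sum_mul, hQall, smul_smul, ← AddChar.map_add_eq_mul,
      neg_add_cancel, AddChar.map_zero_eq_one, one_smul]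
    rw [Finset.sum_const, Finset.card_univ, ← Nat.card_eq_fintype_card, hS.card, ← Nat.cast_smul_eq_nsmul ℂ,
      smul_smul, inv_mul_cancel₀ hp0, one_smul]
  have hQsum : ∑ a, Q a = 1 := by
    simp only [hQ, ← Finset.smul_sum]
    rw [Finset.sum_comm]
    simp only [← Finset.sum_smul, ← neg_mul, fun y : hS.P => (Finset.sum_congr rfl fun a _ => by
      rw [show -a * hS.k y = -(hS.k y) * a by ring] :
        ∑ a : ZMod p, ψc (-a * hS.k y) = ∑ a : ZMod p, ψc (-(hS.k y) * a)), sum_std]
    rw [Finset.sum_eq_single 1 (fun y _ hy => by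
      rw [if_neg (neg_ne_zero.2 (hS.k_ne hy)), zero_smul]) (by simp), hS.k_one, neg_zero,
      if_pos rfl, OneMemClass.coe_one, map_one, smul_smul, inv_mul_cancel₀ hp0, one_smul]
  have hQtr : ∀ a, (Q a).trace = if a ∈ S then 1 else 0 := fun a => by
    simp only [hQ, Matrix.trace_smul, Matrix.trace_sum, htr, smul_eq_mul]
    rw [← Finset.add_sum_erase _ _ (Finset.mem_univ (1 : hS.P)), hS.k_one, mul_zero, neg_zero,
      AddChar.map_zero_eq_one, one_mul, OneMemClass.coe_one, hn,
      Finset.sum_congr rfl fun y hy => by rw [L.val_P 1 (Finset.ne_of_mem_erase hy)],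
      hS.sum_P_erase (fun x => ψc (-(a * x)) * (((-1 : ℤ) : ℂ) * eta hS.E (1 : (ZMod p)ˣ) x)),
      Finset.sum_erase_eq_sub (Finset.mem_univ _), mul_zero, neg_zero, AddChar.map_zero_eq_one,
      one_mul, eta_zero]
    have hsum : ∑ x : ZMod p, ψc (-(a * x)) * (((-1 : ℤ) : ℂ) * eta hS.E (1 : (ZMod p)ˣ) x) =
        -((p : ℂ) * if a ∈ S then 0 else 1) := by
      simp only [eta, Finset.mul_sum]
      rw [Finset.sum_comm]
      simp only [Int.cast_neg, Int.cast_one, neg_one_mul, mul_neg, Finset.sum_neg_distrib,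
        ← AddChar.map_add_eq_mul, Units.val_one, one_mul]
      rw [neg_inj, Finset.sum_congr rfl fun x _ => by
        rw [Finset.sum_congr rfl fun y _ => by
          rw [show -(a * y) + val₀ hS.E x * y = (val₀ hS.E x - a) * y by ring], sum_std]]
      simp only [sub_eq_zero]
      split_ifs with ha
      · rw [mul_zero]
        exact Finset.sum_eq_zero fun x _ => if_neg fun h => mem_outSet.1 ha ⟨x, h⟩
      · rw [mul_one]
        rw [hSdef, mem_outSet, not_not] at ha
        obtain ⟨x, hx⟩ := ha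
        rw [Finset.sum_eq_single x (fun x' _ hne => if_neg fun h =>
          hne (Subtype.ext (Units.ext (h.trans hx.symm)))) (by simp), if_pos hx]
    rw [hsum, hnd]
    split_ifs <;> · field_simp; push_cast; ring
  have hQ0 : ∀ a ∉ S, Q a = 0 := fun a ha => by
    refine Matrix.toLinAlgEquiv'.injective ?_
    rw [map_zero]
    refine LinearMap.IsIdempotentElem.eq_zero_of_trace_eq_zero ((hQidem a).map _) ?_
    exact (Matrix.trace_toLin'_eq (Q a)).trans (by rw [hQtr, if_neg ha])
  have hY0 : Polynomial.aeval Y (∏ b ∈ S, (Polynomial.X - Polynomial.C (ψc b))) = 0 := by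
    rw [← Matrix.mul_one (Polynomial.aeval Y _), ← hQsum, Matrix.mul_sum]
    refine Finset.sum_eq_zero fun a _ => ?_
    by_cases ha : a ∈ S
    · rw [aeval_mul_eigen (hQe a), Polynomial.eval_prod, Finset.prod_eq_zero ha (by simp), zero_smul]
    · rw [hQ0 a ha, Matrix.mul_zero]
  set H := eigMat S Y with hH
  have hHint : ∀ i j, IsIntPoly (p := p) V fun a => H a i j :=
    eigMat_intPoly fun i j => hR _ i j
  have hHne : ∀ a ∈ S, H a ≠ 0 := fun a ha h0 => by
    have h1 : H a * Q a = (∏ c ∈ S.erase a, (ψc a - ψc c)) • Q a := by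
      rw [hH, eigMat_eq ha, aeval_mul_eigen (hQe a), Polynomial.eval_prod]
      simp
    rw [h0, Matrix.zero_mul, eq_comm, smul_eq_zero] at h1
    rcases h1 with h1 | h1
    · obtain ⟨c, hc, hc0⟩ := Finset.prod_eq_zero_iff.1 h1
      exact Finset.ne_of_mem_erase hc (std_inj (sub_eq_zero.1 hc0)).symm
    · have h2 := hQtr a
      rw [h1, if_pos ha, Matrix.trace_zero] at h2
      exact zero_ne_one h2
  refine ⟨n, R, ?_⟩
  by_contra hcon
  simp only [not_exists, not_and] at hcon
  have hlt : ∀ a i j, V.valuation (H a i j) < 1 := fun a i j => by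
    have h := hcon i j hR htr hz hY0
    push Not at h
    obtain ⟨b, hb, hb1⟩ := h
    have hb2 : V.valuation (H b i j) < 1 := lt_of_le_of_ne ((hHint i j).val_le b) hb1
    rw [show H a i j = (H a i j - H b i j) + H b i j by ring]
    exact Valuation.map_add_lt _ (lt_of_le_of_lt ((hHint i j).val_sub_le a b) (gam_lt_one V hV)) hb2
  -- a combination with a unit leading term
  have hEcard : Fintype.card (ZMod p)ˣ = e * t := by rw [ZMod.card_units]; omega
  obtain ⟨k, hk⟩ : ∃ k : (ZMod p)ˣ, k ∉ E := by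
    by_contra hc
    push Not at hc
    have hEq : Nat.card E = Fintype.card (ZMod p)ˣ := by
      rw [← Nat.card_eq_fintype_card]
      exact Nat.card_congr (Equiv.subtypeUnivEquiv hc)
    rw [hEcard, ← he] at hEq
    omega
  have hkS : (k : ZMod p) ∈ S := mem_outSet.2 fun ⟨x, hx⟩ => hk (by
    have : (x : (ZMod p)ˣ) = k := Units.ext hx
    exact this ▸ x.2)
  have h0S : (0 : ZMod p) ∈ S := mem_outSet.2 fun ⟨x, hx⟩ => val₀_ne E x hx
  have hke : (k : ZMod p) ^ e ≠ 1 := by
    intro h
    have hsub : (Finset.univ.filter fun u : (ZMod p)ˣ => u ∈ E) ⊆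
        Finset.univ.filter fun u : (ZMod p)ˣ => u ^ e = 1 := fun u hu => by
      rw [Finset.mem_filter] at hu ⊢
      refine ⟨Finset.mem_univ _, ?_⟩
      have : (⟨u, hu.2⟩ : E) ^ e = 1 := pow_card_eq_one'
      exact congrArg Subtype.val this
    have hle : (Finset.univ.filter fun u : (ZMod p)ˣ => u ^ e = 1).card ≤
        (Finset.univ.filter fun u : (ZMod p)ˣ => u ∈ E).card := by
      rw [← Fintype.card_subtype (fun u => u ∈ E), ← Nat.card_eq_fintype_card]
      exact IsCyclic.card_pow_eq_one_le he0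
    have hkm : k ∈ Finset.univ.filter fun u : (ZMod p)ˣ => u ^ e = 1 :=
      Finset.mem_filter.2 ⟨Finset.mem_univ _, Units.ext (by simpa using h)⟩
    rw [← Finset.eq_of_subset_of_card_le hsub hle] at hkm
    exact hk (Finset.mem_filter.1 hkm).2
  set c : (ZMod p)ˣ → ℂ := fun u =>
    (p : ℂ)⁻¹ * (eta E (1 : (ZMod p)ˣ) u - eta E k u) with hc
  have hc0 : ∑ u, c u = 0 := by
    simp only [hc, ← Finset.mul_sum, Finset.sum_sub_distrib]
    rw [sum_units_eq (fun x => eta E (1 : (ZMod p)ˣ) x), sum_units_eq (fun x => eta E k x),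
      sum_eta, sum_eta, sub_self, mul_zero]
  have hca : ∀ x : ZMod p, x ≠ 0 →
      V.valuation (∑ u, c u * eta hS.E (-(u : ZMod p)) x) ≤ 1 := fun x hx => by
    set x' : (ZMod p)ˣ := -Units.mk0 x hx with hx'
    have e1 : ∀ u : (ZMod p)ˣ, eta hS.E (-(u : ZMod p)) x = eta E x' u := fun u => by
      rw [hE, eta_swap hS.E, ← neg_one_mul (u : ZMod p), eta_mul_arg, hx', Units.val_neg,
        Units.val_mk0, mul_neg_one]
    simp only [e1, hc, sub_mul, mul_assoc, ← Finset.mul_sum, Finset.sum_sub_distrib]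
    rw [sum_units_eq (fun y => eta E (1 : (ZMod p)ˣ) y * eta E x' y),
      sum_units_eq (fun y => eta E k y * eta E x' y), sum_eta_mul, sum_eta_mul,
      show (p : ℂ)⁻¹ * ((p : ℂ) * (Nat.card E : ℂ) * (opp E 1 x' : ℂ) - (Nat.card E : ℂ) ^ 2 -
        ((p : ℂ) * (Nat.card E : ℂ) * (opp E k x' : ℂ) - (Nat.card E : ℂ) ^ 2)) =
        ((((Nat.card E : ℤ) * ((opp E 1 x' : ℤ) - (opp E k x' : ℤ)) : ℤ)) : ℂ) by
      push_cast; field_simp; ring]
    exact val_intCast_le V _
  obtain ⟨ω, hω⟩ := hscal (fun g => ∑ u, c u * conj ((L.ψ u : G → ℂ) g)) fun g h =>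
    Finset.sum_congr rfl fun u _ => by rw [(L.ψ u).2.isClassFunction g h]
  set K : ZMod p → ℂ := fun a => (Nat.card (Subgroup.center G) : ℂ) * ((-1 : ℤ) : ℂ) * (p : ℂ) *
    ∑ u : (ZMod p)ˣ, if ∃ x : hS.E, (u : ZMod p) * val₀ hS.E x = a then c u else 0 with hK
  have hkey : ∀ a ∈ S, V.valuation (ω - K a) < gam (p := p) V ^ e := by
    intro a ha
    haveI : Nonempty (Fin n × Fin n) := by
      by_contra hne
      exact hHne a ha (Matrix.ext fun i j => absurd ⟨(i, j)⟩ hne)
    obtain ⟨⟨i, j⟩, -, hmax⟩ := Finset.exists_max_image Finset.univ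
      (fun q : Fin n × Fin n => V.valuation (H a q.1 q.2)) Finset.univ_nonempty
    set h0 := H a i j with hh0
    have hh00 : h0 ≠ 0 := fun h => hHne a ha (Matrix.ext fun i' j' => by
      have := hmax (i', j') (Finset.mem_univ _)
      simp only [h, map_zero, le_zero_iff, map_eq_zero] at this
      simpa using this)
    obtain ⟨M, hM⟩ : ∃ M, M = h0⁻¹ • H a := ⟨_, rfl⟩
    have hMV : ∀ i' j', V.valuation (M i' j') ≤ 1 := fun i' j' => by
      rw [hM, Matrix.smul_apply, smul_eq_mul, inv_mul_eq_div, map_div₀,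
        div_le_one₀ (zero_lt_iff.2 (Valuation.ne_zero_iff _ |>.2 hh00))]
      exact hmax (i', j') (Finset.mem_univ _)
    obtain ⟨heL, heR⟩ := eigMat_eigen hY0 ha
    have h := L.pairing R hR hz M M hMV hMV a
      (by rw [hM, Matrix.smul_mul, heR, smul_comm])
      (by rw [hM, Matrix.mul_smul, heL, smul_comm]) c hc0 hca i j
    rw [hω, Matrix.mul_smul, Matrix.mul_one, Matrix.smul_mul, Matrix.smul_apply, smul_eq_mul,
      ← sub_mul] at h
    have hMM : (M * M) i j = h0⁻¹ * ∏ b ∈ S.erase a, (ψc a - ψc b) := by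
      rw [hM, Matrix.smul_mul, Matrix.mul_smul, hH, eigMat_mul hY0 ha ha, Matrix.smul_apply,
        Matrix.smul_apply, Matrix.smul_apply, smul_eq_mul, smul_eq_mul, smul_eq_mul,
        show eigMat S Y a i j = h0 from rfl]
      field_simp
    rw [hMM, map_mul, map_mul, map_inv₀, map_prod, Finset.prod_congr rfl fun b hb =>
      val_std_sub V (Finset.ne_of_mem_erase hb).symm, Finset.prod_const] at h
    have hcard : (S.erase a).card + e = p - 1 := by
      rw [Finset.card_erase_of_mem ha]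
      have h1 := Finset.card_compl S
      rw [hSdef, card_outSet_compl, ZMod.card, ← he] at h1
      have h2 : 0 < (outSet E).card := Finset.card_pos.2 ⟨a, ha⟩
      rw [hSdef]
      omega
    rw [← hcard, pow_add, mul_left_comm, mul_comm (gam (p := p) V ^ (S.erase a).card),
      ← mul_assoc] at h
    have h' := le_of_mul_le_mul_right h (zero_lt_iff.2 (pow_ne_zero _ (gam_ne_zero V)))
    have hv0 : V.valuation h0 ≠ 0 := (Valuation.ne_zero_iff _).2 hh00
    calc V.valuation (ω - K a) = ((V.valuation h0)⁻¹ * V.valuation (ω - K a)) * V.valuation h0 := by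
          rw [mul_comm (V.valuation h0)⁻¹, inv_mul_cancel_right₀ hv0]
      _ ≤ gam (p := p) V ^ e * V.valuation h0 := mul_le_mul_left h' _
      _ < gam (p := p) V ^ e := mul_lt_of_lt_one_right
          (zero_lt_iff.2 (pow_ne_zero _ (gam_ne_zero V))) (hlt a i j)
  have hd2 : V.valuation (K (k : ZMod p) - K 0) < gam (p := p) V ^ e := by
    rw [show K (k : ZMod p) - K 0 = (ω - K 0) - (ω - K k) by ring]
    exact Valuation.map_sub_lt _ (hkey 0 h0S) (hkey k hkS)
  refine (lt_irrefl _ (lt_of_le_of_lt (le_of_eq ?_) hd2) : False)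
  -- the value
  obtain ⟨C, hCv, hexp⟩ := exists_eta_expansion V hV E (by omega)
  obtain ⟨r1, hr1, he1⟩ := hexp (1 : (ZMod p)ˣ) k
  obtain ⟨r2, hr2, he2⟩ := hexp k k
  have hK0 : K 0 = 0 := by
    simp only [hK]
    rw [Finset.sum_eq_zero fun u _ => if_neg ?_, mul_zero]
    rintro ⟨x, hx⟩
    exact mul_ne_zero u.ne_zero (val₀_ne hS.E x) hx
  have hsum : (∑ u : (ZMod p)ˣ, if ∃ x : hS.E, (u : ZMod p) * val₀ hS.E x = k then c u else 0) =
      (e : ℂ) * c k := by
    rw [← Finset.sum_filter, Finset.sum_congr rfl fun u hu => ?_, Finset.sum_const, nsmul_eq_mul]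
    · congr 1
      norm_cast
      rw [he, Nat.card_eq_fintype_card, ← Finset.card_univ]
      refine (Finset.card_bij (fun (x : E) _ => k * (x : (ZMod p)ˣ)⁻¹) (fun x _ => ?_)
        (fun x _ y _ h => Subtype.ext (inv_injective (mul_left_cancel h))) fun u hu => ?_).symm
      · refine Finset.mem_filter.2 ⟨Finset.mem_univ _, x, ?_⟩
        exact inv_mul_cancel_right k _
      · obtain ⟨x, hx⟩ := (Finset.mem_filter.1 hu).2
        refine ⟨x, Finset.mem_univ _, ?_⟩
        rw [mul_inv_eq_iff_eq_mul]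
        exact hx.symm
    · obtain ⟨x, hx⟩ := (Finset.mem_filter.1 hu).2
      have e1 : ∀ b : ZMod p, eta E b u = eta E b k := fun b => by
        rw [eta_swap E b u, eta_swap E b k, ← hx, eta_mul]
      simp only [hc, e1]
  have hKk : K k - K 0 = ((-(Nat.card (Subgroup.center G) : ℤ) * (e : ℤ) : ℤ) : ℂ) *
      (C * ((((((1 : (ZMod p)ˣ) : ZMod p) * k) ^ e).val : ℂ) -
        ((((k : ZMod p) * k) ^ e).val : ℂ)) + (r1 - r2)) := by
    rw [hK0, sub_zero]
    simp only [hK]
    rw [hsum]
    simp only [hc]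
    rw [he1, he2]
    push_cast
    field_simp
    ring
  rw [hKk, map_mul, val_intCast V hV, one_mul]
  · have hlead : V.valuation (C * ((((((1 : (ZMod p)ˣ) : ZMod p) * k) ^ e).val : ℂ) -
        ((((k : ZMod p) * k) ^ e).val : ℂ))) = gam (p := p) V ^ e := by
      rw [map_mul, hCv, show ((((((1 : (ZMod p)ˣ) : ZMod p) * k) ^ e).val : ℂ) -
        ((((k : ZMod p) * k) ^ e).val : ℂ)) = ((((((((1 : (ZMod p)ˣ) : ZMod p) * k) ^ e).val : ℤ)) -
          (((((k : ZMod p) * k) ^ e).val : ℤ)) : ℤ) : ℂ) by push_cast; ring,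
        val_intCast V hV, mul_one]
      push_cast
      rw [ZMod.natCast_zmod_val, ZMod.natCast_zmod_val, one_mul, mul_pow, sub_ne_zero]
      intro h
      exact hke ((mul_eq_right₀ (pow_ne_zero _ k.ne_zero)).1 h.symm)
    rw [Valuation.map_add_eq_of_lt_left, hlead]
    rw [hlead]
    refine lt_of_le_of_lt (Valuation.map_sub_le _ hr1 hr2) ?_
    exact pow_lt_pow_right_of_lt_one₀ (zero_lt_iff.2 (gam_ne_zero V)) (gam_lt_one V hV) (by omega)
  · push_cast
    refine mul_ne_zero (neg_ne_zero.2 fun h => hS.not_dvd_center ?_) fun h => ?_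
    · exact (ZMod.natCast_eq_zero_iff _ _).1 h
    · have := Nat.le_of_dvd he0 ((ZMod.natCast_eq_zero_iff _ _).1 h)
      omega

end Cfsg.Lib.Feit
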