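import Cfsg.Agent.Lib.Feit.Local

/-!
# The setting exists when the centralizer is `P × Z`
-/

set_option autoImplicit false
set_option linter.unusedSectionVars false
set_option linter.style.haveILetI false
set_option maxHeartbeats 1000000

namespace Cfsg.Lib.Feit

open Cfsg Cfsg.Lib.Char
open scoped ComplexConjugate Classical

universe u

noncomputable local instance (priority := high) fintypeSubgroupFeitExists {A : Type u}
    [Group A] [Fintype A] (K : Subgroup A) : Fintype K := Fintype.ofFinite K

variable {p : ℕ} [Fact p.Prime] {G : Type u} [Group G] [Fintype G]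

/-- A group of order `p` is a copy of the residues. -/
theorem exists_k {P : Subgroup G} (hcard : Nat.card P = p) :
    ∃ k : P ≃ ZMod p, ∀ y z : P, k (y * z) = k y + k z := by
  haveI := NeZero.mk (Fact.out : p.Prime).ne_zero
  haveI : IsCyclic P := isCyclic_of_prime_card hcard
  let e₀ := (zmodCyclicMulEquiv (G := P) inferInstance).symm
  refine ⟨(e₀.toEquiv.trans Multiplicative.toAdd).trans (ZMod.ringEquivCongr hcard).toEquiv,
    fun y z => ?_⟩
  show ZMod.ringEquivCongr hcard (Multiplicative.toAdd (e₀ (y * z))) = _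
  rw [map_mul, toAdd_mul, map_add]
  rfl

/-- The setting attached to a centralizer `P × Z`. -/
theorem exists_setting {P : Subgroup G} (hcard : Nat.card P = p)
    (hfac : (Nat.card G).factorization p = 1) (hnn : ¬ P.Normal)
    (hcent : Subgroup.centralizer (P : Set G) = P ⊔ Subgroup.center G) :
    ∃ hS : Setting p G, hS.P = P := by
  have hpp : p.Prime := Fact.out
  obtain ⟨k, hk⟩ := exists_k hcard
  have hk1 : k 1 = 0 := by
    have h := hk 1 1
    rw [one_mul] at h
    exact left_eq_add.1 h
  have hinf : P ⊓ Subgroup.center G = ⊥ := by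
    refine eq_bot_iff.2 fun z hz => ?_
    by_contra h1
    have hle : P ≤ Subgroup.center G :=
      (Cfsg.Lib.Block.zpowers_eq_of_mem hcard hz.1 h1) ▸ Subgroup.zpowers_le.2 hz.2
    exact hnn ⟨fun w hw g => by rwa [Subgroup.mem_center_iff.1 (hle hw) g, mul_inv_cancel_right]⟩
  set N := Subgroup.normalizer (P : Set G) with hN
  have hPN : P ≤ N := Subgroup.le_normalizer
  haveI : (P.subgroupOf N).Normal := Subgroup.normal_in_normalizer
  have hcardP : Nat.card (P.subgroupOf N) = p := by
    rw [Nat.card_congr (Subgroup.subgroupOfEquivOfLe hPN).toEquiv, hcard]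
  have hidx : ¬ p ∣ (P.subgroupOf N).index := by
    intro h
    have h2 : p ^ 2 ∣ Nat.card G := by
      refine dvd_trans ?_ (Subgroup.card_subgroup_dvd_card N)
      rw [← Subgroup.card_mul_index (P.subgroupOf N), hcardP, pow_two]
      exact mul_dvd_mul_left p h
    have := (hpp.pow_dvd_iff_le_factorization Nat.card_pos.ne').1 h2
    omega
  obtain ⟨H', hH'⟩ := Subgroup.exists_right_complement'_of_coprime (N := P.subgroupOf N) (by
    rw [hcardP]
    exact (hpp.coprime_iff_not_dvd).2 hidx)
  set H := H'.map N.subtype with hH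
  have hHN : H ≤ N := Subgroup.map_subtype_le H'
  have hcompl : ∀ g ∈ N, ∃ y ∈ P, ∃ h ∈ H, g = y * h := fun g hg => by
    obtain ⟨⟨x, h⟩, hxh⟩ := hH'.2 (⟨g, hg⟩ : N)
    exact ⟨((x : N) : G), Subgroup.mem_subgroupOf.1 x.2, (h : N), ⟨_, h.2, rfl⟩,
      (congrArg Subtype.val hxh).symm⟩
  have hcardH : ¬ p ∣ Nat.card H := by
    rwa [hH, Subgroup.card_map_of_injective N.subtype_injective, ← hH'.symm.index_eq_card]
  have hHinf : P ⊓ H = ⊥ := by
    refine eq_bot_iff.2 fun z hz => ?_
    by_contra h1
    refine hcardH ?_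
    have ho : orderOf z = p := ((Nat.dvd_prime hpp).1
      (hcard ▸ Subgroup.orderOf_dvd_natCard P hz.1)).resolve_left fun h => h1 (orderOf_eq_one_iff.1 h)
    exact ho ▸ Subgroup.orderOf_dvd_natCard H hz.2
  have hcenter : Subgroup.center G ≤ H := by
    intro z hz
    obtain ⟨y, hy, h, hh, he⟩ := hcompl z (Subgroup.center_le_normalizer _ hz)
    have hc : Commute y h := by
      have e : h = y⁻¹ * z := by rw [he, inv_mul_cancel_left]
      rw [e]
      exact (Commute.refl y).inv_right.mul_right (Subgroup.mem_center_iff.1 hz y)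
    suffices y = 1 by rw [he, this, one_mul]; exact hh
    by_contra h1
    set m := Nat.card H
    have hym : y ^ m ∈ P ⊓ Subgroup.center G := by
      refine ⟨pow_mem hy m, ?_⟩
      have e : y ^ m = z ^ m := by
        rw [he, hc.mul_pow, orderOf_dvd_iff_pow_eq_one.1 (Subgroup.orderOf_dvd_natCard H hh), mul_one]
      rw [e]
      exact pow_mem hz m
    rw [hinf, Subgroup.mem_bot, ← orderOf_dvd_iff_pow_eq_one,
      ((Nat.dvd_prime hpp).1 (hcard ▸ Subgroup.orderOf_dvd_natCard P hy)).resolve_left
        fun h => h1 (orderOf_eq_one_iff.1 h)] at hym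
    exact hcardH hym
  -- the action
  let cj : H → P → P := fun h y => ⟨(h : G) * y * (h : G)⁻¹,
    (Subgroup.mem_normalizer_iff.1 (hHN h.2) (y : G)).1 y.2⟩
  have hkpow : ∀ (n : ℕ) (y : P), k (y ^ n) = (n : ZMod p) * k y := fun n y => by
    induction n with
    | zero => rw [pow_zero, hk1, Nat.cast_zero, zero_mul]
    | succ l ih => rw [pow_succ, hk, ih, Nat.cast_succ, add_mul, one_mul]
  haveI : NeZero p := ⟨hpp.ne_zero⟩
  set y₁ := k.symm 1
  have hlin : ∀ (h : H) (y : P), k (cj h y) = k (cj h y₁) * k y := fun h y => by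
    have hy : y₁ ^ (k y).val = y := k.injective (by
      rw [hkpow, show k y₁ = 1 from Equiv.apply_symm_apply _ _, mul_one, ZMod.natCast_zmod_val])
    have e : cj h y = cj h y₁ ^ (k y).val := by
      refine Subtype.ext ?_
      show (h : G) * y * (h : G)⁻¹ = (((cj h y₁) ^ (k y).val : P) : G)
      rw [SubmonoidClass.coe_pow, conj_pow, ← SubmonoidClass.coe_pow, hy]
    rw [e, hkpow, ZMod.natCast_zmod_val, mul_comm]
  let r₀ : H →* ZMod p :=
    { toFun := fun h => k (cj h y₁)
      map_one' := by
        rw [show cj 1 y₁ = y₁ from Subtype.ext (by simp [cj])]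
        exact Equiv.apply_symm_apply _ _
      map_mul' := fun a b => by
        rw [← hlin a (cj b y₁)]
        congr 1
        exact Subtype.ext (by simp [cj, mul_assoc]) }
  refine ⟨{ P := P, H := H, k := k, r := r₀.toHomUnits, card := hcard, fac := hfac, cent := hcent,
            inf := hinf, k_add := hk, H_le := hHN, compl := hcompl, H_inf := hHinf,
            center_le := hcenter, act := ?_, r_ker := ?_ }, rfl⟩
  · intro h y y' e
    rw [show y' = cj h y from Subtype.ext e, hlin]
    rfl
  · intro h
    constructor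
    · intro hr
      have hC : (h : G) ∈ Subgroup.centralizer (P : Set G) := by
        refine Subgroup.mem_centralizer_iff.2 fun w hw => ?_
        have e1 : k (cj h ⟨w, hw⟩) = k ⟨w, hw⟩ := by
          rw [hlin, show k (cj h y₁) = 1 from congrArg Units.val hr, one_mul]
        have e2 : (h : G) * w * (h : G)⁻¹ = w := congrArg Subtype.val (k.injective e1)
        exact (mul_inv_eq_iff_eq_mul.1 e2).symm
      rw [hcent, Subgroup.mem_sup_of_normal_right] at hC
      obtain ⟨y, hy, z, hz, hyz⟩ := hC
      have hy1 : y ∈ P ⊓ H := ⟨hy, by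
        rw [eq_mul_inv_of_mul_eq hyz]
        exact Subgroup.mul_mem H h.2 (Subgroup.inv_mem H (hcenter hz))⟩
      rw [hHinf, Subgroup.mem_bot] at hy1
      rwa [← hyz, hy1, one_mul]
    · intro hz
      refine Units.ext ?_
      show k (cj h y₁) = 1
      rw [show cj h y₁ = y₁ from Subtype.ext (by
        show (h : G) * y₁ * (h : G)⁻¹ = y₁
        rw [← Subgroup.mem_center_iff.1 hz (y₁ : G), mul_inv_cancel_right])]
      exact Equiv.apply_symm_apply _ _

end Cfsg.Lib.Feit
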