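import Cfsg.Agent.Lib.Feit.Setting
import Cfsg.Agent.Lib.Block.GaloisTwist

/-!
# Exceptional families

A family consists of irreducible characters indexed by the residues, agreeing on the `p`-regular
elements, whose values at `y z` are periods times a fixed linear character of the centre.
-/

set_option autoImplicit false
set_option linter.unusedSectionVars false
set_option linter.style.haveILetI false
set_option maxHeartbeats 1000000

namespace Cfsg.Lib.Feit

open Cfsg Cfsg.Lib.Char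
open scoped ComplexConjugate Classical

universe u

noncomputable local instance (priority := high) fintypeSubgroupFeitFamily {A : Type u}
    [Group A] [Fintype A] (K : Subgroup A) : Fintype K := Fintype.ofFinite K

variable {p : ℕ} [Fact p.Prime] {G : Type u} [Group G] [Fintype G] {hS : Setting p G}

/-- An exceptional family over a linear character of the centre. -/
structure Fam (hS : Setting p G) (δ : ℤ) (lam : Subgroup.center G →* ℂˣ) where
  ψ : (ZMod p)ˣ → IrrCharacter G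
  sign : δ = 1 ∨ δ = -1
  val : ∀ (u : (ZMod p)ˣ) (y : hS.P), y ≠ 1 → ∀ z : Subgroup.center G,
    (ψ u : G → ℂ) ((y : G) * z) = (δ : ℂ) * eta hS.E u (hS.k y) * (lam z : ℂ)
  reg : ∀ (u v : (ZMod p)ˣ) (g : G), ¬ p ∣ orderOf g → (ψ u : G → ℂ) g = (ψ v : G → ℂ) g

theorem norm_hom {A : Type u} [Group A] [Finite A] (lam : A →* ℂˣ) (a : A) : ‖(lam a : ℂ)‖ = 1 :=
  Complex.norm_eq_one_of_pow_eq_one (n := orderOf a)
    (by rw [← Units.val_pow_eq_pow_val, ← map_pow, pow_orderOf_eq_one, map_one, Units.val_one])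
    (orderOf_pos a).ne'

theorem hom_mul_conj {A : Type u} [Group A] [Finite A] (lam : A →* ℂˣ) (a : A) :
    (lam a : ℂ) * conj (lam a : ℂ) = 1 := by
  rw [Complex.mul_conj, Complex.normSq_eq_norm_sq, norm_hom]
  simp

theorem conj_hom {A : Type u} [Group A] [Finite A] (lam : A →* ℂˣ) (a : A) :
    conj (lam a : ℂ) = ((lam a)⁻¹ : ℂˣ) := by
  refine mul_left_cancel₀ (Units.ne_zero (lam a)) ?_
  rw [hom_mul_conj, ← Units.val_mul, mul_inv_cancel, Units.val_one]

/-- The sum over the nontrivial elements of the Sylow subgroup of a period. -/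
theorem Setting.sum_eta_P (hS : Setting p G) (u : (ZMod p)ˣ) :
    ∑ y ∈ Finset.univ.erase (1 : hS.P), eta hS.E u (hS.k y) = -(Nat.card hS.E : ℂ) := by
  rw [hS.sum_P_erase (fun x => eta hS.E u x), sum_eta]

theorem Setting.exists_eta_ne (hS : Setting p G) (u : (ZMod p)ˣ) :
    ∃ y : hS.P, y ≠ 1 ∧ eta hS.E u (hS.k y) ≠ 0 := by
  by_contra hc
  push Not at hc
  have h := hS.sum_eta_P u
  rw [Finset.sum_eq_zero fun y hy => hc y (Finset.ne_of_mem_erase hy), eq_comm, neg_eq_zero] at h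
  exact Nat.cast_ne_zero.2 Nat.card_pos.ne' h

variable {δ : ℤ} {lam : Subgroup.center G →* ℂˣ} (F : Fam hS δ lam)

theorem Fam.val_P (u : (ZMod p)ˣ) {y : hS.P} (hy : y ≠ 1) :
    (F.ψ u : G → ℂ) y = (δ : ℂ) * eta hS.E u (hS.k y) := by
  have h := F.val u y hy 1
  simpa using h

theorem Fam.sum_val (u : (ZMod p)ˣ) :
    ∑ y ∈ Finset.univ.erase (1 : hS.P), (F.ψ u : G → ℂ) y = -((δ : ℂ) * (Nat.card hS.E : ℂ)) := by
  rw [Finset.sum_congr rfl fun y hy => F.val_P u (Finset.ne_of_mem_erase hy), ← Finset.mul_sum,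
    hS.sum_eta_P]
  ring

theorem Fam.apply_one (u : (ZMod p)ˣ) :
    (F.ψ u : G → ℂ) 1 = (charDegree (F.ψ 1 : G → ℂ) : ℂ) := by
  rw [F.reg u 1 1 (by simp [(Fact.out : p.Prime).ne_one])]
  exact Cfsg.Lib.Block.apply_one_eq_charDegree _

include F in
theorem Fam.delta_ne : (δ : ℂ) ≠ 0 := by
  rcases F.sign with h | h <;> simp [h]

theorem Fam.central (u : (ZMod p)ˣ) (z : Subgroup.center G) (g : G) :
    (F.ψ u : G → ℂ) ((z : G) * g) = (lam z : ℂ) * (F.ψ u : G → ℂ) g := by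
  obtain ⟨c, -, hc⟩ := Cfsg.Lib.Block.exists_central_scalar (F.ψ u) z.2
  obtain ⟨y, hy, hne⟩ := hS.exists_eta_ne u
  have h := hc (y : G)
  rw [← Subgroup.mem_center_iff.1 z.2 (y : G), F.val u y hy z, F.val_P u hy] at h
  have hcl : c = lam z := mul_right_cancel₀ (mul_ne_zero F.delta_ne hne) (h.symm.trans (mul_comm _ _))
  rw [hc g, hcl]

theorem Fam.ext_iff' (u v : (ZMod p)ˣ) :
    F.ψ u = F.ψ v ↔ ∃ x : hS.E, (u : ZMod p) * val₀ hS.E x = v := by
  constructor
  · intro h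
    refine exists_of_eta_eq hS.E fun y hy => ?_
    have hy' : hS.k.symm y ≠ 1 := fun e => hy (by
      have := congrArg hS.k e
      rwa [Equiv.apply_symm_apply, hS.k_one] at this)
    have h1 := F.val_P u hy'
    rw [h, F.val_P v hy', Equiv.apply_symm_apply] at h1
    exact (mul_left_cancel₀ F.delta_ne h1).symm
  · rintro ⟨x, hx⟩
    refine Subtype.ext (funext fun g => ?_)
    by_cases hg : p ∣ orderOf g
    · obtain ⟨x₀, hx₀⟩ := hS.exists_conj_cent hg
      obtain ⟨y, hy, z, hz, hyz⟩ := hS.mem_cent_iff.1 hx₀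
      have hgc : g = x₀ * (y * z) * x₀⁻¹ := by rw [hyz]; group
      rw [hgc, (F.ψ u).2.isClassFunction _ x₀, (F.ψ v).2.isClassFunction _ x₀]
      have hy1 : (⟨y, hy⟩ : hS.P) ≠ 1 := fun e => by
        obtain rfl : y = 1 := congrArg Subtype.val e
        rw [hgc, one_mul, show x₀ * z * x₀⁻¹ = z by
          rw [Subgroup.mem_center_iff.1 hz x₀, mul_inv_cancel_right]] at hg
        exact hS.not_dvd_center (hg.trans (Subgroup.orderOf_dvd_natCard _ hz))
      rw [show y * z = ((⟨y, hy⟩ : hS.P) : G) * ((⟨z, hz⟩ : Subgroup.center G) : G) from rfl,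
        F.val u _ hy1, F.val v _ hy1, ← hx, eta_mul]
    · exact F.reg u v g hg

/-- The conjugate family. -/
noncomputable def Fam.bar : Fam hS δ lam⁻¹ where
  ψ u := ⟨fun g => conj ((F.ψ (-u) : G → ℂ) g), isIrrCharacter_conjFn (F.ψ (-u)).2⟩
  sign := F.sign
  val u y hy z := by
    show conj ((F.ψ (-u) : G → ℂ) ((y : G) * z)) = _
    rw [F.val (-u) y hy z, map_mul, map_mul, map_intCast, conj_eta, Units.val_neg, neg_neg,
      conj_hom, MonoidHom.inv_apply]
  reg u v g hg := by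
    show conj ((F.ψ (-u) : G → ℂ) g) = conj ((F.ψ (-v) : G → ℂ) g)
    rw [F.reg (-u) (-v) g hg]

theorem Fam.bar_ψ (u : (ZMod p)ˣ) (g : G) :
    (F.bar.ψ u : G → ℂ) g = conj ((F.ψ (-u) : G → ℂ) g) := rfl

theorem Setting.exists_galois (_hS : Setting p G) (u : (ZMod p)ˣ) :
    ∃ k : ℕ, k.Coprime (Nat.card G) ∧
      k ≡ 1 [MOD Nat.card G / p ^ (Nat.card G).factorization p] ∧ (k : ZMod p) = u := by
  have hpp : p.Prime := Fact.out
  set m := Nat.card G / p ^ (Nat.card G).factorization p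
  have hm : ¬ p ∣ m := Nat.not_dvd_ordCompl hpp Nat.card_pos.ne'
  have hcop : m.Coprime p := (hpp.coprime_iff_not_dvd.2 hm).symm
  let k := Nat.chineseRemainder hcop 1 (u : ZMod p).val
  have hku : ((k : ℕ) : ZMod p) = u := by
    rw [(ZMod.natCast_eq_natCast_iff _ _ _).2 k.2.2, ZMod.natCast_zmod_val]
  refine ⟨k, ?_, k.2.1, hku⟩
  rw [← Nat.ordProj_mul_ordCompl_eq_self (Nat.card G) p, Nat.coprime_mul_iff_right]
  refine ⟨Nat.Coprime.pow_right _ (hpp.coprime_iff_not_dvd.2 fun h => ?_).symm, ?_⟩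
  · rw [(ZMod.natCast_eq_zero_iff _ _).2 h] at hku
    exact u.ne_zero hku.symm
  · rw [Nat.coprime_comm, Nat.Coprime, Nat.gcd_comm, k.2.1.gcd_eq, Nat.gcd_one_left]

/-- A character with exceptional values generates a family. -/
theorem Setting.exists_fam (hS : Setting p G) (χ : IrrCharacter G) (u₀ : (ZMod p)ˣ) {δ : ℤ}
    (hδ : δ = 1 ∨ δ = -1) (lam : Subgroup.center G →* ℂˣ)
    (hval : ∀ y : hS.P, y ≠ 1 → ∀ z : Subgroup.center G,
      (χ : G → ℂ) ((y : G) * z) = (δ : ℂ) * eta hS.E u₀ (hS.k y) * (lam z : ℂ)) :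
    ∃ F : Fam hS δ lam, ∀ g : G, ¬ p ∣ orderOf g → (F.ψ 1 : G → ℂ) g = (χ : G → ℂ) g := by
  choose k hk hk1 hku using fun u : (ZMod p)ˣ => hS.exists_galois (u₀⁻¹ * u)
  have hreg : ∀ u g, ¬ p ∣ orderOf g →
      (Cfsg.Lib.Block.powTwist (k u) (hk u) χ : G → ℂ) g = (χ : G → ℂ) g := fun u g hg => by
    rw [Cfsg.Lib.Block.powTwist_apply, Cfsg.Lib.Block.pow_eq_self_of_regular (hk1 u) hg]
  refine ⟨⟨fun u => Cfsg.Lib.Block.powTwist (k u) (hk u) χ, hδ, fun u y hy z => ?_,
    fun u v g hg => by rw [hreg u g hg, hreg v g hg]⟩, hreg 1⟩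
  have hky : ∀ j : ℕ, hS.k (y ^ j) = (j : ZMod p) * hS.k y := fun j => by
    induction j with
    | zero => rw [pow_zero, hS.k_one, Nat.cast_zero, zero_mul]
    | succ l ih => rw [pow_succ, hS.k_add, ih, Nat.cast_succ, add_mul, one_mul]
  have hy' : y ^ k u ≠ 1 := fun h => by
    have h' := hky (k u)
    rw [h, hS.k_one, hku] at h'
    exact mul_ne_zero (Units.ne_zero _) (hS.k_ne hy) h'.symm
  have hz : (z : G) ^ k u = z := Cfsg.Lib.Block.pow_eq_self_of_regular (hk1 u)
    fun h => hS.not_dvd_center (h.trans (Subgroup.orderOf_dvd_natCard _ z.2))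
  have hc : Commute (y : G) z := Subgroup.mem_center_iff.1 z.2 y
  rw [Cfsg.Lib.Block.powTwist_apply, hc.mul_pow, hz,
    show (y : G) ^ k u = ((y ^ k u : hS.P) : G) from rfl, hval _ hy' z, hky, hku, eta_mul_arg,
    ← Units.val_mul, mul_inv_cancel_left]

/-- For a centre of odd order the family over the squared character exists with the same values on
`P`. -/
theorem Fam.exists_square (hodd : Odd (Nat.card (Subgroup.center G))) :
    ∃ F' : Fam hS δ (lam * lam), charDegree (F'.ψ 1 : G → ℂ) = charDegree (F.ψ 1 : G → ℂ) := by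
  have hpp : p.Prime := Fact.out
  set m := Nat.card (Subgroup.center G) with hm
  have hcop : p.Coprime m := hpp.coprime_iff_not_dvd.2 hS.not_dvd_center
  let c := Nat.chineseRemainder hcop 1 2
  have hc : (c : ℕ).Coprime (p * m) := by
    refine Nat.Coprime.mul_right ?_ ?_
    · rw [Nat.Coprime, c.2.1.gcd_eq, Nat.gcd_one_left]
    · rw [Nat.Coprime, c.2.2.gcd_eq]
      exact Nat.coprime_two_left.2 hodd
  have hdvd : p * m ∣ Nat.card G := by
    refine hcop.mul_dvd_of_dvd_of_dvd ?_ (Subgroup.card_subgroup_dvd_card _)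
    exact hS.card ▸ Subgroup.card_subgroup_dvd_card _
  haveI : NeZero (Nat.card G) := ⟨Nat.card_pos.ne'⟩
  obtain ⟨v, hv⟩ := ZMod.unitsMap_surjective hdvd (ZMod.unitOfCoprime c hc)
  set k := (v : ZMod (Nat.card G)).val
  have hk : k.Coprime (Nat.card G) := ZMod.val_coe_unit_coprime v
  have hkc : k ≡ c [MOD p * m] := by
    haveI : NeZero (p * m) := ⟨Nat.mul_ne_zero hpp.ne_zero Nat.card_pos.ne'⟩
    have h := congrArg Units.val hv
    rw [ZMod.unitsMap_val, ZMod.coe_unitOfCoprime, ZMod.cast_eq_val] at h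
    exact (ZMod.natCast_eq_natCast_iff _ _ _).1 h
  have hk1 : k ≡ 1 [MOD p] := (hkc.of_dvd (dvd_mul_right _ _)).trans c.2.1
  have hk2 : k ≡ 2 [MOD m] := (hkc.of_dvd (dvd_mul_left _ _)).trans c.2.2
  refine ⟨⟨fun u => Cfsg.Lib.Block.powTwist k hk (F.ψ u), F.sign, fun u y hy z => ?_,
    fun u v g hg => ?_⟩, ?_⟩
  · have hyk : (y : G) ^ k = y := by
      rw [← pow_mod_orderOf, hS.orderOf_mem y.2 fun h => hy (Subtype.ext h),
        show k % p = 1 % p from hk1, Nat.mod_eq_of_lt hpp.one_lt, pow_one]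
    have hzk : (z : G) ^ k = ((z * z : Subgroup.center G) : G) := by
      rw [← pow_mod_orderOf, show k % orderOf (z : G) = 2 % orderOf (z : G) from
        hk2.of_dvd (Subgroup.orderOf_dvd_natCard _ z.2), pow_mod_orderOf, pow_two, Subgroup.coe_mul]
    have hc : Commute (y : G) z := Subgroup.mem_center_iff.1 z.2 y
    rw [Cfsg.Lib.Block.powTwist_apply, hc.mul_pow, hyk, hzk, F.val u y hy, map_mul,
      MonoidHom.mul_apply]
  · simp only [Cfsg.Lib.Block.powTwist_apply]
    exact F.reg u v _ fun h => hg (h.trans (orderOf_pow_dvd k))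
  · simp only [charDegree, Cfsg.Lib.Block.powTwist_apply, one_pow]

/-! ## The fixed points -/

theorem Fam.fixPart_one (u : (ZMod p)ˣ) :
    hS.fixPart (F.ψ u : G → ℂ) 1 =
      (p : ℂ)⁻¹ * ((charDegree (F.ψ 1 : G → ℂ) : ℂ) - (δ : ℂ) * (Nat.card hS.E : ℂ)) := by
  rw [hS.fixPart_one, F.apply_one, F.sum_val]
  ring

theorem Fam.fixPart_center (u : (ZMod p)ˣ) (z : Subgroup.center G) (h : hS.H) :
    hS.fixPart (F.ψ u : G → ℂ) (⟨z, hS.center_le z.2⟩ * h) =
      (lam z : ℂ) * hS.fixPart (F.ψ u : G → ℂ) h := by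
  simp only [Setting.fixPart, Finset.mul_sum, Subgroup.coe_mul]
  refine Finset.sum_congr rfl fun y _ => ?_
  rw [← mul_assoc (y : G), Subgroup.mem_center_iff.1 z.2, mul_assoc, F.central]
  ring

theorem Fam.fixPart_indep (u v : (ZMod p)ˣ) (χ : hS.H → ℂ) :
    classInner (hS.fixPart (F.ψ u : G → ℂ)) χ = classInner (hS.fixPart (F.ψ v : G → ℂ)) χ := by
  refine congrArg (fun f => classInner f χ) (funext fun h => ?_)
  by_cases hh : hS.r h = 1
  · let z : Subgroup.center G := ⟨h, (hS.r_ker h).1 hh⟩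
    have e : h = ⟨z, hS.center_le z.2⟩ * 1 := (mul_one _).symm
    rw [e, F.fixPart_center, F.fixPart_center, F.fixPart_one, F.fixPart_one]
  · rw [hS.fixPart_of_ne (F.ψ u).2.isClassFunction hh, hS.fixPart_of_ne (F.ψ v).2.isClassFunction hh]
    refine F.reg u v _ fun hp => ?_
    have : p ∣ Nat.card hS.H := hp.trans (Subgroup.orderOf_dvd_natCard _ h.2)
    rw [← hS.card_E] at this
    rcases (Fact.out : p.Prime).dvd_mul.1 this with h1 | h1
    · have h2 := Subgroup.card_subgroup_dvd_card hS.E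
      rw [Nat.card_eq_fintype_card (α := (ZMod p)ˣ), ZMod.card_units] at h2
      have := (Fact.out : p.Prime).one_lt
      have := Nat.le_of_dvd (by omega) (h1.trans h2)
      omega
    · exact hS.not_dvd_center h1

/-- The fixed part decomposes into linear characters over `lam` with natural coefficients. -/
theorem Fam.exists_weight (hne : (charDegree (F.ψ 1 : G → ℂ) : ℤ) ≠ δ * Nat.card hS.E) :
    ∃ (ν : hS.H →* ℂˣ) (n : ℕ), n ≠ 0 ∧
      (∀ u, classInner (hS.fixPart (F.ψ u : G → ℂ)) (fun h => (ν h : ℂ)) = (n : ℂ)) ∧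
      ∀ z : Subgroup.center G, ν ⟨z, hS.center_le z.2⟩ = lam z := by
  set φ := hS.fixPart (F.ψ 1 : G → ℂ) with hφ
  have h1 : φ 1 ≠ 0 := by
    rw [hφ, F.fixPart_one]
    refine mul_ne_zero (inv_ne_zero (Nat.cast_ne_zero.2 (Fact.out : p.Prime).ne_zero))
      (sub_ne_zero.2 fun h => hne ?_)
    exact_mod_cast h
  obtain ⟨χ, hχ⟩ : ∃ χ : IrrCharacter hS.H, classInner φ (χ : hS.H → ℂ) ≠ 0 := by
    by_contra hc
    push Not at hc
    refine h1 ?_
    rw [hφ, congrFun (Char.eq_sum_classInner (hS.fixPart_isClassFunction (F.ψ 1 : G → ℂ))) 1]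
    simp [← hφ, hc]
  obtain ⟨n, hn⟩ := hS.exists_nat_fix (F.ψ 1).2.isCharacter χ
  obtain ⟨ν, hν⟩ := exists_hom_of_degree_one χ.2.isCharacter
    (degree_eq_one_of_comm hS.comm_H χ.2)
  rw [hν] at hn hχ
  refine ⟨ν, n, fun h => hχ (by rw [hφ, hn, h, Nat.cast_zero]),
    fun u => (F.fixPart_indep u 1 _).trans hn, fun z => ?_⟩
  by_contra hzne
  refine hχ ?_
  set z' : hS.H := ⟨z, hS.center_le z.2⟩
  have key : classInner φ (fun h => (ν h : ℂ)) =
      (lam z : ℂ) * conj (ν z' : ℂ) * classInner φ (fun h => (ν h : ℂ)) := by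
    simp only [classInner, Finset.mul_sum]
    refine (Fintype.sum_equiv (Equiv.mulLeft z') _ _ fun h => ?_).symm
    rw [Equiv.coe_mulLeft, map_mul ν, Units.val_mul, map_mul (starRingEnd ℂ),
      show φ (z' * h) = (lam z : ℂ) * φ h from F.fixPart_center 1 z h]
    ring
  rcases eq_or_ne (classInner φ (fun h => (ν h : ℂ))) 0 with h | h
  · exact h
  · exfalso
    have h' : (lam z : ℂ) * conj (ν z' : ℂ) = 1 := (mul_eq_right₀ h).1 key.symm
    refine hzne (Units.ext ?_)
    linear_combination -(ν z' : ℂ) * h' + (lam z : ℂ) * hom_mul_conj ν z'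

/-- A family of degree `p - e` is, outside the centre, a single linear character on the
complement. -/
theorem exists_mu (F : Fam hS (-1) lam) (hd : charDegree (F.ψ 1 : G → ℂ) + Nat.card hS.E = p) :
    ∃ μ : hS.H →* ℂˣ, (∀ z : Subgroup.center G, μ ⟨z, hS.center_le z.2⟩ = lam z) ∧
      ∀ (u : (ZMod p)ˣ) (h : hS.H), hS.r h ≠ 1 → (F.ψ u : G → ℂ) h = (μ h : ℂ) := by
  have hp0 : (p : ℂ) ≠ 0 := Nat.cast_ne_zero.2 (Fact.out : p.Prime).ne_zero
  set φ := hS.fixPart (F.ψ 1 : G → ℂ) with hφ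
  have h1 : φ 1 = 1 := by
    rw [hφ, F.fixPart_one, show (charDegree (F.ψ 1 : G → ℂ) : ℂ) =
      (p : ℂ) - Nat.card hS.E by
        have h := congrArg (fun n : ℕ => (n : ℂ)) hd
        simp only [Nat.cast_add] at h
        linear_combination h]
    push_cast
    field_simp
    ring
  choose n hn using hS.exists_nat_fix (f := (F.ψ 1 : G → ℂ)) (F.ψ 1).2.isCharacter
  have hlin : ∀ χ : IrrCharacter hS.H, (χ : hS.H → ℂ) 1 = 1 := fun χ =>
    degree_eq_one_of_comm hS.comm_H χ.2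
  have hexp := Char.eq_sum_classInner (hS.fixPart_isClassFunction (F.ψ 1 : G → ℂ))
  have hsum : ∑ χ : IrrCharacter hS.H, n χ = 1 := by
    have h := congrFun hexp 1
    simp only [Finset.sum_apply, Pi.smul_apply, smul_eq_mul, hn, hlin, mul_one] at h
    rw [← hφ, h1] at h
    exact_mod_cast h.symm
  obtain ⟨χ₀, -, hχ₀⟩ := Finset.exists_ne_zero_of_sum_ne_zero (hsum.trans_ne one_ne_zero)
  rw [← Finset.add_sum_erase _ _ (Finset.mem_univ χ₀)] at hsum
  have hz : ∀ χ, χ ≠ χ₀ → n χ = 0 := fun χ hχ =>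
    Finset.sum_eq_zero_iff.1 (show ∑ x ∈ Finset.univ.erase χ₀, n x = 0 by omega) χ
      (Finset.mem_erase.2 ⟨hχ, Finset.mem_univ _⟩)
  have hn1 : n χ₀ = 1 := by omega
  obtain ⟨μ, hμ⟩ := exists_hom_of_degree_one χ₀.2.isCharacter (hlin χ₀)
  have hφμ : ∀ h, φ h = (μ h : ℂ) := fun h => by
    have e := congrFun hexp h
    simp only [Finset.sum_apply, Pi.smul_apply, smul_eq_mul, hn] at e
    rw [← hφ] at e
    rw [e, Finset.sum_eq_single χ₀ (fun χ _ hχ => by simp [hz χ hχ]) (by simp), hn1, Nat.cast_one,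
      one_mul, hμ]
  refine ⟨μ, fun z => Units.ext ?_, fun u h hh => ?_⟩
  · have h2 := F.fixPart_center 1 z 1
    rw [← hφ, mul_one, hφμ, h1, mul_one] at h2
    exact h2
  · rw [← hφμ, hφ, hS.fixPart_of_ne (F.ψ 1).2.isClassFunction hh]
    refine F.reg u 1 _ fun hp => ?_
    have : p ∣ Nat.card hS.H := hp.trans (Subgroup.orderOf_dvd_natCard _ h.2)
    rw [← hS.card_E] at this
    rcases (Fact.out : p.Prime).dvd_mul.1 this with h1 | h1
    · have h2 := Subgroup.card_subgroup_dvd_card hS.E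
      rw [Nat.card_eq_fintype_card (α := (ZMod p)ˣ), ZMod.card_units] at h2
      have := (Fact.out : p.Prime).one_lt
      have := Nat.le_of_dvd (by omega) (h1.trans h2)
      omega
    · exact hS.not_dvd_center h1

end Cfsg.Lib.Feit
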