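import Mathlib

/-!
# Alternating arrays and truncated exponentials

Alternating arrays `b i j` on `i, j < d` with the shift operator
`b ↦ (i j ↦ b (i + 1) j + b i (j + 1))` and its companion for `sl₂`.
-/

set_option autoImplicit false
set_option linter.unusedSectionVars false
set_option linter.style.haveILetI false

namespace Cfsg.Lib.Feit

open Polynomial

variable {k : Type*} [Field k]

/-- The exponential truncated below `p`. -/
def texp (p : ℕ) {R : Type*} [Ring R] [Algebra k R] (x : R) : R :=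
  ∑ n ∈ Finset.range p, ((n.factorial : k))⁻¹ • x ^ n

theorem texp_map (p : ℕ) {R S : Type*} [Ring R] [Algebra k R] [Ring S] [Algebra k S]
    (f : R →ₐ[k] S) (x : R) : f (texp (k := k) p x) = texp (k := k) p (f x) := by
  simp [texp, map_sum, map_smul, map_pow]

/-- The truncated exponential inverts modulo any power of `X`. -/
theorem exists_texp_inv {p : ℕ} (hp : 3 ≤ p) {m : ℕ} (hm : 2 ≤ m) :
    ∃ q : k[X], X ∣ q ∧ X ^ m ∣ texp (k := k) p q - (1 + X) := by
  have split : ∀ q : k[X], texp (k := k) p q =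
      1 + q + ∑ n ∈ Finset.range (p - 2), (((n + 2).factorial : k))⁻¹ • q ^ (n + 2) := by
    intro q
    obtain ⟨r, rfl⟩ : ∃ r, p = r + 2 := ⟨p - 2, by omega⟩
    rw [texp, Finset.sum_range_succ', Finset.sum_range_succ']
    simp only [Nat.add_sub_cancel, Nat.factorial_zero, Nat.factorial_one, Nat.cast_one, inv_one,
      one_smul, pow_zero, pow_one, zero_add]
    abel
  induction m, hm using Nat.le_induction with
  | base =>
    refine ⟨X, dvd_rfl, ?_⟩
    rw [split, add_sub_cancel_left]
    refine Finset.dvd_sum fun n _ => ?_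
    rw [smul_eq_C_mul]
    exact (pow_dvd_pow (X : k[X]) (by omega : 2 ≤ n + 2)).mul_left _
  | succ m hm ih =>
    obtain ⟨q, hq, r, hr⟩ := ih
    refine ⟨q - C (r.coeff 0) * X ^ m, dvd_sub hq ((dvd_pow_self _ (by omega)).mul_left _), ?_⟩
    have e : texp (k := k) p (q - C (r.coeff 0) * X ^ m) - (1 + X) =
        (X ^ m * r - C (r.coeff 0) * X ^ m) +
          ∑ n ∈ Finset.range (p - 2), (((n + 2).factorial : k))⁻¹ •
            ((q - C (r.coeff 0) * X ^ m) ^ (n + 2) - q ^ (n + 2)) := by
      simp only [smul_sub, Finset.sum_sub_distrib]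
      rw [← hr, split, split]
      ring
    rw [e]
    refine dvd_add ?_ (Finset.dvd_sum fun n _ => ?_)
    · rw [pow_succ, mul_comm (C _) (X ^ m), ← mul_sub]
      refine mul_dvd_mul_left _ (X_dvd_iff.2 ?_)
      simp
    · rw [smul_eq_C_mul]
      refine Dvd.dvd.mul_left ?_ _
      rw [← geom_sum₂_mul, pow_succ']
      refine mul_dvd_mul (Finset.dvd_sum fun i hi => ?_) ?_
      · rcases Nat.eq_zero_or_pos i with rfl | hi'
        · exact Dvd.dvd.mul_left (hq.trans (dvd_pow_self _ (by omega))) _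
        · exact Dvd.dvd.mul_right ((dvd_sub hq ((dvd_pow_self _ (by omega)).mul_left _)).trans
            (dvd_pow_self _ (by omega))) _
      · rw [sub_sub_cancel_left]
        exact (dvd_mul_left _ _).neg_right

variable {M : Type*} [AddCommGroup M] [Module k M]

/-- The truncated exponential of a sum, on a vector killed by the monomials of large degree. -/
theorem texp_add_apply {p : ℕ} [hp : Fact p.Prime] [CharP k p] {x y : Module.End k M}
    (hxy : Commute x y) {v : M} (hv : ∀ a b, p ≤ a + b → (x ^ a) ((y ^ b) v) = 0) :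
    texp (k := k) p x (texp (k := k) p y v) = texp (k := k) p (x + y) v := by
  have hf : ∀ n, n < p → ((n.factorial : k)) ≠ 0 := fun n hn => by
    rw [Ne, CharP.cast_eq_zero_iff k p, hp.out.dvd_factorial]
    omega
  set f : ℕ → ℕ → M := fun a b =>
    ((a.factorial : k)⁻¹ * (b.factorial : k)⁻¹) • (x ^ a) ((y ^ b) v) with hfdef
  have h1 : texp (k := k) p x (texp (k := k) p y v) =
      ∑ a ∈ Finset.range p, ∑ b ∈ Finset.range p, f a b := by
    simp only [texp, LinearMap.sum_apply, LinearMap.smul_apply, map_sum, map_smul, Finset.smul_sum,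
      smul_smul, hfdef]
    refine Finset.sum_comm.trans (Finset.sum_congr rfl fun a _ => Finset.sum_congr rfl fun b _ => ?_)
    rw [mul_comm]
  have h2 : ∀ a ∈ Finset.range p,
      ∑ b ∈ Finset.range p, f a b = ∑ b ∈ Finset.range (p - a), f a b := fun a ha =>
    (Finset.sum_subset (Finset.range_subset_range.2 (Nat.sub_le _ _)) fun b _ hb => by
      rw [Finset.mem_range, not_lt] at hb
      simp only [hfdef]
      rw [hv a b (by omega), smul_zero]).symm
  rw [h1, Finset.sum_congr rfl h2, ← Finset.sum_range_diag_flip]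
  simp only [texp, LinearMap.sum_apply, LinearMap.smul_apply]
  refine Finset.sum_congr rfl fun n hn => ?_
  rw [hxy.add_pow, LinearMap.sum_apply, Finset.smul_sum]
  refine Finset.sum_congr rfl fun a ha => ?_
  rw [← (Nat.cast_commute (n.choose a) (x ^ a * y ^ (n - a))).eq, Module.End.mul_apply,
    Module.End.mul_apply, Module.End.natCast_apply, ← Nat.cast_smul_eq_nsmul k, smul_smul]
  simp only [hfdef]
  congr 1
  have han : a ≤ n := by have := Finset.mem_range.1 ha; omega
  have hn' := Finset.mem_range.1 hn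
  have := congrArg (Nat.cast : ℕ → k) (Nat.choose_mul_factorial_mul_factorial han)
  push_cast at this
  have := hf a (by omega)
  have := hf (n - a) (by omega)
  have := hf n hn'
  field_simp
  linear_combination -‹(n.choose a : k) * (a.factorial : k) * ((n - a).factorial : k) = _›

/-- A vector with `(1 + F H) x = 0`, `F` nilpotent on it, is zero. -/
theorem eq_zero_of_one_add {F H : Module.End k M} (hFH : Commute F H) {L : ℕ} {x : M}
    (hL : (F ^ L) x = 0) (h : (1 + F * H : Module.End k M) x = 0) : x = 0 := by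
  have h0 : (F * H) x = -x := by
    rw [LinearMap.add_apply, Module.End.one_apply] at h
    exact eq_neg_of_add_eq_zero_right h
  have h1 : ∀ n, ((F * H) ^ n) x = ((-1 : k) ^ n) • x := fun n => by
    induction n with
    | zero => simp
    | succ l ih => rw [pow_succ', Module.End.mul_apply, ih, map_smul, h0, pow_succ, mul_smul,
        neg_one_smul]
  have h2 := h1 L
  rw [hFH.mul_pow, (hFH.pow_pow L L).eq, Module.End.mul_apply, hL, map_zero, eq_comm,
    smul_eq_zero] at h2
  exact h2.resolve_left (pow_ne_zero _ (by simp))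

/-! ### Arrays -/

/-- Shift of the first index. -/
def shA : Module.End k (ℕ → ℕ → k) where
  toFun b i j := b (i + 1) j
  map_add' _ _ := rfl
  map_smul' _ _ := rfl

/-- Shift of the second index. -/
def shB : Module.End k (ℕ → ℕ → k) where
  toFun b i j := b i (j + 1)
  map_add' _ _ := rfl
  map_smul' _ _ := rfl

/-- The lowering operator. -/
def shF : Module.End k (ℕ → ℕ → k) := shA + shB

theorem shA_pow (n : ℕ) (b : ℕ → ℕ → k) (i j : ℕ) : ((shA (k := k)) ^ n) b i j = b (i + n) j := by
  induction n generalizing i with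
  | zero => rfl
  | succ l ih =>
    rw [pow_succ', Module.End.mul_apply]
    show ((shA ^ l) b) (i + 1) j = _
    rw [ih, show i + 1 + l = i + (l + 1) by omega]

theorem shB_pow (n : ℕ) (b : ℕ → ℕ → k) (i j : ℕ) : ((shB (k := k)) ^ n) b i j = b i (j + n) := by
  induction n generalizing j with
  | zero => rfl
  | succ l ih =>
    rw [pow_succ', Module.End.mul_apply]
    show ((shB ^ l) b) i (j + 1) = _
    rw [ih, show j + 1 + l = j + (l + 1) by omega]

theorem shF_apply (b : ℕ → ℕ → k) (i j : ℕ) : shF b i j = b (i + 1) j + b i (j + 1) := rfl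

/-- The coefficient of the raising operator. -/
def rc (d i : ℕ) : k := (i : k) * ((d : k) - i)

/-- The raising operator. -/
def shR (d : ℕ) : Module.End k (ℕ → ℕ → k) where
  toFun b i j := rc d i * b (i - 1) j + rc d j * b i (j - 1)
  map_add' x y := by funext i j; simp only [Pi.add_apply]; ring
  map_smul' c x := by funext i j; simp only [Pi.smul_apply, smul_eq_mul, RingHom.id_apply]; ring

/-- The part with `i + j = σ`. -/
def shP (σ : ℕ) : Module.End k (ℕ → ℕ → k) where
  toFun b i j := if i + j = σ then b i j else 0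
  map_add' x y := by funext i j; simp only [Pi.add_apply]; split_ifs <;> simp
  map_smul' c x := by funext i j; simp only [Pi.smul_apply, RingHom.id_apply]; split_ifs <;> simp

theorem shF_shP (σ : ℕ) (b : ℕ → ℕ → k) : shF (shP (σ + 1) b) = shP σ (shF b) := by
  funext i j
  show (if i + 1 + j = σ + 1 then b (i + 1) j else 0) +
    (if i + (j + 1) = σ + 1 then b i (j + 1) else 0) =
    if i + j = σ then b (i + 1) j + b i (j + 1) else 0
  simp only [show i + 1 + j = σ + 1 ↔ i + j = σ by omega,
    show i + (j + 1) = σ + 1 ↔ i + j = σ by omega]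
  split_ifs <;> simp

theorem shF_pow_shP (σ n : ℕ) (b : ℕ → ℕ → k) :
    (shF ^ n) (shP (σ + n) b) = shP σ ((shF ^ n) b) := by
  induction n generalizing σ with
  | zero => rfl
  | succ l ih =>
    rw [pow_succ', Module.End.mul_apply, Module.End.mul_apply,
      show σ + (l + 1) = σ + 1 + l by omega, ih, shF_shP]

/-- Supported on `i + j = σ`. -/
def IsHom (σ : ℤ) (b : ℕ → ℕ → k) : Prop := ∀ i j : ℕ, (i : ℤ) + j ≠ σ → b i j = 0

theorem IsHom.lower {σ : ℤ} {b : ℕ → ℕ → k} (h : IsHom σ b) : IsHom (σ - 1) (shF b) :=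
  fun i j hij => by rw [shF_apply, h _ _ (by push_cast; omega), h _ _ (by push_cast; omega), add_zero]

theorem IsHom.lower_pow {σ : ℤ} {b : ℕ → ℕ → k} (h : IsHom σ b) (n : ℕ) :
    IsHom (σ - n) ((shF ^ n) b) := by
  induction n with
  | zero => simpa using h
  | succ l ih =>
    rw [pow_succ', Module.End.mul_apply, show σ - ((l + 1 : ℕ) : ℤ) = σ - l - 1 by push_cast; ring]
    exact ih.lower

theorem IsHom.raise {σ : ℤ} {b : ℕ → ℕ → k} (h : IsHom σ b) (d : ℕ) : IsHom (σ + 1) (shR d b) := by
  intro i j hij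
  show rc d i * b (i - 1) j + rc d j * b i (j - 1) = 0
  have h1 : rc d i * b (i - 1) j = 0 := by
    rcases i with _ | i
    · simp [rc]
    · rw [h _ _ (by push_cast at *; omega), mul_zero]
  have h2 : rc d j * b i (j - 1) = 0 := by
    rcases j with _ | j
    · simp [rc]
    · rw [h _ _ (by push_cast at *; omega), mul_zero]
  rw [h1, h2, add_zero]

theorem shFR_sub {σ : ℤ} {b : ℕ → ℕ → k} (h : IsHom σ b) (d : ℕ) :
    shF (shR d b) = shR d (shF b) + (((2 * ((d : ℤ) - 1 - σ)) : ℤ) : k) • b := by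
  funext i j
  have e1 : rc (k := k) d i * b (i - 1 + 1) j = rc d i * b i j := by
    rcases i with _ | i <;> simp [rc]
  have e2 : rc (k := k) d j * b i (j - 1 + 1) = rc d j * b i j := by
    rcases j with _ | j <;> simp [rc]
  show (rc d (i + 1) * b (i + 1 - 1) j + rc d j * b (i + 1) (j - 1)) +
    (rc d i * b (i - 1) (j + 1) + rc d (j + 1) * b i (j + 1 - 1)) =
    (rc d i * (b (i - 1 + 1) j + b (i - 1) (j + 1)) +
      rc d j * (b (i + 1) (j - 1) + b i (j - 1 + 1))) +
        (((2 * ((d : ℤ) - 1 - σ)) : ℤ) : k) • b i j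
  rw [mul_add, mul_add, e1, e2, Nat.add_sub_cancel, Nat.add_sub_cancel, smul_eq_mul]
  by_cases hij : (i : ℤ) + j = σ
  · subst hij
    simp only [rc]
    push_cast
    ring
  · rw [h i j hij]
    ring

/-- Alternating and supported below `d`. -/
def IsAlt (d : ℕ) (b : ℕ → ℕ → k) : Prop :=
  (∀ i j, d ≤ i → b i j = 0) ∧ (∀ i, b i i = 0) ∧ ∀ i j, b j i = -b i j

variable {d : ℕ} {b : ℕ → ℕ → k}

theorem IsAlt.right (h : IsAlt d b) {i j : ℕ} (hj : d ≤ j) : b i j = 0 := by
  rw [h.2.2 j i, h.1 j i hj, neg_zero]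

theorem IsAlt.zero : IsAlt d (0 : ℕ → ℕ → k) :=
  ⟨fun _ _ _ => rfl, fun _ => rfl, fun _ _ => neg_zero.symm⟩

theorem IsAlt.add {c : ℕ → ℕ → k} (h : IsAlt d b) (h' : IsAlt d c) : IsAlt d (b + c) :=
  ⟨fun i j hi => by simp [h.1 i j hi, h'.1 i j hi], fun i => by simp [h.2.1, h'.2.1],
    fun i j => by simp [h.2.2 i j, h'.2.2 i j]; ring⟩

theorem IsAlt.smul (r : k) (h : IsAlt d b) : IsAlt d (r • b) :=
  ⟨fun i j hi => by simp [h.1 i j hi], fun i => by simp [h.2.1],
    fun i j => by simp [h.2.2 i j]⟩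

theorem IsAlt.lower (h : IsAlt d b) : IsAlt d (shF b) := by
  refine ⟨fun i j hi => ?_, fun i => ?_, fun i j => ?_⟩
  · rw [shF_apply, h.1 _ _ (by omega), h.1 _ _ hi, add_zero]
  · rw [shF_apply, h.2.2 i (i + 1), neg_add_cancel]
  · rw [shF_apply, shF_apply, h.2.2 i (j + 1), h.2.2 (i + 1) j]; ring

theorem IsAlt.lower_pow (h : IsAlt d b) (n : ℕ) : IsAlt d ((shF ^ n) b) := by
  induction n with
  | zero => exact h
  | succ l ih => rw [pow_succ', Module.End.mul_apply]; exact ih.lower

theorem IsAlt.raise (h : IsAlt d b) : IsAlt d (shR d b) := by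
  refine ⟨fun i j hi => ?_, fun i => ?_, fun i j => ?_⟩
  · show rc d i * b (i - 1) j + rc d j * b i (j - 1) = 0
    rw [h.1 i (j - 1) hi, mul_zero, add_zero]
    rcases eq_or_lt_of_le hi with rfl | hlt
    · simp [rc]
    · rw [h.1 _ _ (by omega), mul_zero]
  · show rc d i * b (i - 1) i + rc d i * b i (i - 1) = 0
    rw [h.2.2 (i - 1) i]; ring
  · show rc d j * b (j - 1) i + rc d i * b j (i - 1) =
      -(rc d i * b (i - 1) j + rc d j * b i (j - 1))
    rw [h.2.2 i (j - 1), h.2.2 (i - 1) j]; ring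

theorem IsAlt.proj (h : IsAlt d b) (σ : ℕ) : IsAlt d (shP σ b) := by
  refine ⟨fun i j hi => ?_, fun i => ?_, fun i j => ?_⟩
  · show (if i + j = σ then b i j else 0) = _
    rw [h.1 i j hi, ite_self]
  · show (if i + i = σ then b i i else 0) = _
    rw [h.2.1, ite_self]
  · show (if j + i = σ then b j i else 0) = -(if i + j = σ then b i j else 0)
    simp only [add_comm j i]
    split_ifs
    · exact h.2.2 i j
    · exact neg_zero.symm

theorem IsAlt.eq_zero_of_large (h : IsAlt d b) {i j : ℕ} (hij : 2 * d ≤ i + j + 2) :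
    b i j = 0 := by
  by_cases hi : d ≤ i
  · exact h.1 i j hi
  by_cases hj : d ≤ j
  · exact h.right hj
  rw [show i = j by omega]
  exact h.2.1 j

theorem IsAlt.pow_eq_zero (h : IsAlt d b) {n : ℕ} (hn : 2 * d ≤ n + 3) : (shF ^ n) b = 0 := by
  have key : ∀ n i j, 2 * d ≤ i + j + n + 2 → ((shF ^ n) b) i j = 0 := by
    intro n
    induction n with
    | zero => exact fun i j hij => h.eq_zero_of_large hij
    | succ l ih =>
      intro i j hij
      rw [pow_succ', Module.End.mul_apply, shF_apply, ih _ _ (by omega), ih _ _ (by omega), add_zero]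
  funext i j
  rcases Nat.eq_zero_or_pos (i + j) with h0 | h0
  · rw [show i = 0 by omega, show j = 0 by omega]
    exact (h.lower_pow n).2.1 0
  · exact key n i j (by omega)

theorem shF_pow_shR {σ : ℤ} (hb : IsHom σ b) (n : ℕ) :
    ∃ r : k, (shF ^ (n + 1)) (shR d b) = shR d ((shF ^ (n + 1)) b) + r • (shF ^ n) b := by
  induction n with
  | zero => exact ⟨_, by simpa using shFR_sub hb d⟩
  | succ l ih =>
    obtain ⟨r, hr⟩ := ih
    refine ⟨(((2 * ((d : ℤ) - 1 - (σ - ((l + 1 : ℕ) : ℤ)))) : ℤ) : k) + r, ?_⟩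
    rw [pow_succ' _ (l + 1), Module.End.mul_apply, hr, map_add, map_smul,
      shFR_sub (hb.lower_pow (l + 1)) d, add_smul,
      show shF ((shF ^ l) b) = (shF ^ (l + 1)) b by rw [pow_succ']; rfl,
      Module.End.mul_apply]
    abel

/-- The string above a vector killed by `shF`. -/
theorem shF_shR_pow {σ : ℕ} {m : ℕ} (hb : IsHom (σ : ℤ) b) (h0 : shF b = 0)
    (hm : 2 * d = m + 2 * σ + 2) (n : ℕ) :
    IsHom ((σ + n : ℕ) : ℤ) ((shR d ^ n) b) ∧
      shF ((shR d ^ (n + 1)) b) =
        ((((n + 1 : ℕ) : ℤ) * ((m : ℤ) - n) : ℤ) : k) • (shR d ^ n) b := by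
  induction n with
  | zero =>
    refine ⟨hb, ?_⟩
    rw [pow_one, pow_zero, Module.End.one_apply, shFR_sub hb, h0, map_zero, zero_add]
    congr 2
    push_cast
    omega
  | succ l ih =>
    obtain ⟨hh, hf⟩ := ih
    have hh' : IsHom ((σ + (l + 1) : ℕ) : ℤ) ((shR d ^ (l + 1)) b) := by
      rw [pow_succ', Module.End.mul_apply,
        show ((σ + (l + 1) : ℕ) : ℤ) = ((σ + l : ℕ) : ℤ) + 1 by push_cast; ring]
      exact hh.raise d
    refine ⟨hh', ?_⟩
    rw [pow_succ' _ (l + 1), Module.End.mul_apply, shFR_sub hh', hf, map_smul,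
      ← Module.End.mul_apply (shR d), ← pow_succ', ← add_smul]
    congr 1
    rw [← Int.cast_add]
    congr 1
    push_cast
    rw [show (m : ℤ) = 2 * d - 2 * σ - 2 by omega]
    ring

theorem shF_pow_shR_pow {p : ℕ} [hp : Fact p.Prime] [CharP k p] {σ m : ℕ} (hmp : m < p)
    (hb : IsHom (σ : ℤ) b) (h0 : shF b = 0) (hm : 2 * d = m + 2 * σ + 2) :
    ∀ n ≤ m, ∃ r : k, r ≠ 0 ∧ (shF ^ n) ((shR d ^ m) b) = r • (shR d ^ (m - n)) b := by
  intro n hn
  induction n with
  | zero => exact ⟨1, one_ne_zero, by simp⟩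
  | succ l ih =>
    obtain ⟨r, hr, e⟩ := ih (by omega)
    obtain ⟨a, ha⟩ : ∃ a, m - l = a + 1 := ⟨m - l - 1, by omega⟩
    refine ⟨r * ((((a + 1 : ℕ) : ℤ) * ((m : ℤ) - a) : ℤ) : k), mul_ne_zero hr ?_, ?_⟩
    · rw [show (((a + 1 : ℕ) : ℤ) * ((m : ℤ) - a)) = (((a + 1) * (m - a) : ℕ) : ℤ) by
        push_cast [Nat.cast_sub (show a ≤ m by omega)]; ring, Int.cast_natCast, Ne,
        CharP.cast_eq_zero_iff k p, hp.out.dvd_mul]
      rintro (h | h) <;> have := Nat.le_of_dvd (by omega) h <;> omega
    · rw [pow_succ', Module.End.mul_apply, e, map_smul, ha,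
        (shF_shR_pow hb h0 hm a).2, smul_smul, show m - (l + 1) = a by omega]

/-- A vector of weight at most `-M` killed by the `M`-th power is zero. -/
theorem eq_zero_of_weight {p : ℕ} [hp : Fact p.Prime] [CharP k p] (hdp : 2 * d ≤ p + 3)
    {σ M : ℕ} (hM : 1 ≤ M) (hσ : 2 * σ + 2 = 2 * d + M) :
    ∀ (n j : ℕ) (x : ℕ → ℕ → k), 2 * d ≤ σ + j + n + 2 → IsAlt d x →
      IsHom ((σ + j : ℕ) : ℤ) x → (shF ^ (M + j)) x = 0 → x = 0 := by
  intro n
  induction n with
  | zero =>
    intro j x hj hx hh _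
    funext a c
    by_cases hac : a + c = σ + j
    · exact hx.eq_zero_of_large (by omega)
    · exact hh a c (by omega)
  | succ l ih =>
    intro j x hj hx hh hF
    by_cases hbig : 2 * d ≤ σ + j + 2
    · funext a c
      by_cases hac : a + c = σ + j
      · exact hx.eq_zero_of_large (by omega)
      · exact hh a c (by omega)
    obtain ⟨r, hr⟩ := shF_pow_shR (d := d) hh (M + j)
    have hR : shR d x = 0 := by
      refine ih (j + 1) _ (by omega) hx.raise ?_ ?_
      · rw [show ((σ + (j + 1) : ℕ) : ℤ) = ((σ + j : ℕ) : ℤ) + 1 by push_cast; ring]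
        exact hh.raise d
      · rw [← add_assoc, hr, hF, smul_zero, add_zero, pow_succ', Module.End.mul_apply, hF,
          map_zero, map_zero]
    set N := M + 2 * j with hN
    have key : ∀ i, shR d ((shF ^ (i + 1)) x) =
        ((((i + 1 : ℕ) : ℤ) * ((N : ℤ) - i) : ℤ) : k) • (shF ^ i) x := by
      intro i
      induction i with
      | zero =>
        have e := shFR_sub hh d
        rw [hR, map_zero] at e
        rw [pow_one, pow_zero, Module.End.one_apply, eq_neg_of_add_eq_zero_left e.symm, ← neg_smul,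
          ← Int.cast_neg]
        congr 2
        push_cast
        omega
      | succ a iha =>
        have e := shFR_sub (hh.lower_pow (a + 1)) d
        rw [iha, map_smul, ← Module.End.mul_apply shF, ← pow_succ', ← Module.End.mul_apply shF,
          ← pow_succ'] at e
        rw [eq_sub_of_add_eq e.symm, ← sub_smul, ← Int.cast_sub]
        congr 2
        push_cast
        rw [show (N : ℤ) = M + 2 * j by omega,
          show (M : ℤ) = 2 * σ + 2 - 2 * d by omega]
        ring
    have hdown : ∀ i, i ≤ M + j → (shF ^ (M + j - i)) x = 0 := by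
      intro i hi
      induction i with
      | zero => simpa using hF
      | succ a iha =>
        obtain ⟨c, hc⟩ : ∃ c, M + j - a = c + 1 := ⟨M + j - a - 1, by omega⟩
        have h1 := iha (by omega)
        rw [hc] at h1
        have h2 := key c
        rw [h1, map_zero, eq_comm, smul_eq_zero] at h2
        rw [show M + j - (a + 1) = c by omega]
        refine h2.resolve_left ?_
        rw [show (((c + 1 : ℕ) : ℤ) * ((N : ℤ) - c)) = (((c + 1) * (N - c) : ℕ) : ℤ) by
          push_cast [Nat.cast_sub (show c ≤ N by omega)]; ring, Int.cast_natCast,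
          CharP.cast_eq_zero_iff k p, hp.out.dvd_mul]
        rintro (h | h) <;> have := Nat.le_of_dvd (by omega) h <;> omega
    simpa using hdown (M + j) le_rfl

/-- The sum over the alternating string. -/
def altVec (σ : ℕ) : ℕ → ℕ → k := fun i j => if i + j = σ then (-1) ^ i else 0

theorem altVec_isHom (σ : ℕ) : IsHom (σ : ℤ) (altVec (k := k) σ) := fun i j h => by
  simp only [altVec]
  rw [if_neg]
  omega

theorem shF_altVec (σ : ℕ) : shF (altVec (k := k) σ) = 0 := by
  funext i j
  rw [shF_apply]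
  simp only [altVec, show i + (j + 1) = i + 1 + j by omega, pow_succ]
  split_ifs <;> simp

theorem altVec_isAlt {σ : ℕ} (hσ : Odd σ) (hd : σ < d) : IsAlt d (altVec (k := k) σ) := by
  obtain ⟨a, rfl⟩ := hσ
  refine ⟨fun i j hi => ?_, fun i => ?_, fun i j => ?_⟩
  · simp only [altVec]; rw [if_neg]; omega
  · simp only [altVec]; rw [if_neg]; omega
  · simp only [altVec, add_comm j i]
    split_ifs with h
    · rcases Nat.even_or_odd i with hi | hi
      · have hj : Odd j := by
          obtain ⟨c, rfl⟩ := hi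
          exact ⟨a - c, by omega⟩
        rw [hi.neg_one_pow, hj.neg_one_pow]
      · have hj : Even j := by
          obtain ⟨c, rfl⟩ := hi
          exact ⟨a - c, by omega⟩
        rw [hi.neg_one_pow, hj.neg_one_pow, neg_neg]
    · exact neg_zero.symm

end Cfsg.Lib.Feit
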