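import Cfsg.Agent.Lib.Feit.Family
import Cfsg.Agent.Lib.Block.DegreePSubTwo
import Cfsg.Agent.Lib.Block.CyclicPrimeCount

/-!
# Exceptional families from blocks

In the setting `C(P) = P × Z` the members of a root block are linear, indexed by the residues; every
linear character of the centre has an exceptional family.
-/

set_option autoImplicit false
set_option linter.unusedSectionVars false
set_option linter.style.haveILetI false
set_option maxHeartbeats 1000000

namespace Cfsg.Lib.Feit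

open Cfsg Cfsg.Lib.Char
open Cfsg.Lib.Block hiding trivChar
open scoped ComplexConjugate Classical

universe u

noncomputable local instance (priority := high) fintypeSubgroupFeitLocal {A : Type u}
    [Group A] [Fintype A] (K : Subgroup A) : Fintype K := Fintype.ofFinite K

local notation "C[" P "]" => Subgroup.centralizer (SetLike.coe P)

variable {p : ℕ} [Fact p.Prime] {G : Type u} [Group G] [Fintype G] (hS : Setting p G)

theorem Setting.fixes_exp (n : ℕ) (y : hS.P) :
    hS.k (y ^ n) = (n : ZMod p) * hS.k y := by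
  induction n with
  | zero => rw [pow_zero, hS.k_one, Nat.cast_zero, zero_mul]
  | succ l ih => rw [pow_succ, hS.k_add, ih, Nat.cast_succ, add_mul, one_mul]

/-- A linear character of `P` is given by an exponent. -/
theorem Setting.exists_exponent (l : hS.P →* ℂˣ) :
    ∃ x : ZMod p, ∀ y : hS.P, (l y : ℂ) = ZMod.stdAddChar (x * hS.k y) := by
  have hpp : p.Prime := Fact.out
  haveI : NeZero p := ⟨hpp.ne_zero⟩
  set y₁ := hS.k.symm 1
  have hroot : (l y₁ : ℂ) ^ p = 1 := by
    have hy1 : y₁ ^ p = 1 := orderOf_dvd_iff_pow_eq_one.1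
      ((orderOf_dvd_natCard y₁).trans hS.card.dvd)
    rw [← Units.val_pow_eq_pow_val, ← map_pow, hy1, map_one, Units.val_one]
  obtain ⟨i, -, hi⟩ := (Complex.isPrimitiveRoot_exp p hpp.ne_zero).eq_pow_of_pow_eq_one hroot
  refine ⟨(i : ZMod p), fun y => ?_⟩
  have hy : y₁ ^ (hS.k y).val = y := hS.k.injective (by
    rw [hS.fixes_exp, show hS.k y₁ = 1 from Equiv.apply_symm_apply _ _, mul_one,
      ZMod.natCast_zmod_val])
  have h1 : (l y₁ : ℂ) = ZMod.stdAddChar (i : ZMod p) := by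
    rw [show ((i : ℕ) : ZMod p) = ((i : ℤ) : ZMod p) by norm_cast, ZMod.stdAddChar_coe, ← hi,
      ← Complex.exp_nat_mul]
    congr 1
    push_cast
    ring
  conv_lhs => rw [← hy]
  rw [map_pow, Units.val_pow_eq_pow_val, h1, ← AddChar.map_nsmul_eq_pow, nsmul_eq_mul,
    ZMod.natCast_zmod_val, mul_comm]

/-- A set of exponents of size `|E|` with a sum invariant under `E` is a coset. -/
theorem Setting.exists_eta_of_set (S : Finset (ZMod p)) (h0 : (0 : ZMod p) ∉ S)
    (hcard : S.card = Nat.card hS.E)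
    (hinv : ∀ (c : hS.E) (y : ZMod p),
      ∑ x ∈ S, ZMod.stdAddChar (x * (val₀ hS.E c * y)) = ∑ x ∈ S, ZMod.stdAddChar (x * y)) :
    ∃ u : (ZMod p)ˣ, ∀ y : ZMod p, ∑ x ∈ S, ZMod.stdAddChar (x * y) = eta hS.E u y := by
  haveI : NeZero p := ⟨(Fact.out : p.Prime).ne_zero⟩
  have hind : ∀ w : ZMod p, ∑ y : ZMod p, (∑ x ∈ S, ZMod.stdAddChar (x * y)) *
      ZMod.stdAddChar (-w * y) = if w ∈ S then (p : ℂ) else 0 := by
    intro w
    simp only [Finset.sum_mul, ← AddChar.map_add_eq_mul, ← add_mul]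
    rw [Finset.sum_comm]
    simp only [sum_std, ← sub_eq_add_neg, sub_eq_zero]
    rw [Finset.sum_ite_eq']
  have hmul : ∀ (c : hS.E) (w : ZMod p), w ∈ S → w * val₀ hS.E c ∈ S := by
    intro c w hw
    have h := hind (w * val₀ hS.E c)
    have hc : val₀ hS.E c ≠ 0 := val₀_ne _ c
    have e : ∑ y : ZMod p, (∑ x ∈ S, ZMod.stdAddChar (x * y)) *
        ZMod.stdAddChar (-(w * val₀ hS.E c) * y) =
        ∑ y : ZMod p, (∑ x ∈ S, ZMod.stdAddChar (x * y)) * ZMod.stdAddChar (-w * y) := by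
      refine Fintype.sum_equiv (Equiv.mulLeft₀ (val₀ hS.E c) hc) _ _ fun y => ?_
      rw [Equiv.mulLeft₀_apply, hinv c y]
      congr 2
      ring
    rw [e, hind w, if_pos hw] at h
    by_contra hcon
    rw [if_neg hcon] at h
    exact Nat.cast_ne_zero.2 (Fact.out : p.Prime).ne_zero h
  obtain ⟨w, hw⟩ : S.Nonempty := Finset.card_pos.1 (hcard ▸ Nat.card_pos)
  have hw0 : w ≠ 0 := fun h => h0 (h ▸ hw)
  refine ⟨Units.mk0 w hw0, fun y => ?_⟩
  have himg : (Finset.univ.image fun c : hS.E => w * val₀ hS.E c) = S := by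
    refine Finset.eq_of_subset_of_card_le (fun x hx => ?_) ?_
    · obtain ⟨c, -, rfl⟩ := Finset.mem_image.1 hx
      exact hmul c w hw
    · rw [Finset.card_image_of_injective, hcard, Finset.card_univ, Nat.card_eq_fintype_card]
      intro a b h
      exact Subtype.ext (Units.ext (mul_left_cancel₀ hw0 h))
  rw [← himg, Finset.sum_image fun a _ b _ h =>
    Subtype.ext (Units.ext (mul_left_cancel₀ hw0 h))]
  simp only [eta, Units.val_mk0]

/-- A character with the values of a set of exponents generates a family. -/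
theorem Setting.exists_fam_of_set (χ : IrrCharacter G) (S : Finset (ZMod p)) (h0 : (0 : ZMod p) ∉ S)
    (hcard : S.card = Nat.card hS.E) {δ : ℤ} (hδ : δ = 1 ∨ δ = -1)
    (lam : Subgroup.center G →* ℂˣ)
    (hval : ∀ y : hS.P, y ≠ 1 → ∀ z : Subgroup.center G, (χ : G → ℂ) ((y : G) * z) =
      (δ : ℂ) * (∑ x ∈ S, ZMod.stdAddChar (x * hS.k y)) * (lam z : ℂ)) :
    ∃ F : Fam hS δ lam, ∀ g : G, ¬ p ∣ orderOf g → (F.ψ 1 : G → ℂ) g = (χ : G → ℂ) g := by
  have hd : (δ : ℂ) ≠ 0 := by rcases hδ with h | h <;> simp [h]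
  obtain ⟨u, hu⟩ := hS.exists_eta_of_set S h0 hcard fun c y => by
    rcases eq_or_ne y 0 with rfl | hy
    · simp
    obtain ⟨h, hh⟩ := c.2
    set y' := hS.k.symm y
    have hy' : y' ≠ 1 := fun e => hy (by
      have := congrArg hS.k e
      rwa [Equiv.apply_symm_apply, hS.k_one] at this)
    let w : hS.P := ⟨(h : G) * y' * (h : G)⁻¹,
      (Subgroup.mem_normalizer_iff.1 (hS.H_le h.2) (y' : G)).1 y'.2⟩
    have hw : hS.k w = val₀ hS.E c * y := by
      rw [hS.act h y' w rfl, hh, Equiv.apply_symm_apply]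
    have hw1 : w ≠ 1 := fun e => by
      rw [e, hS.k_one] at hw
      exact mul_ne_zero (val₀_ne _ c) hy hw.symm
    have h1 := hval w hw1 1
    have h2 := hval y' hy' 1
    rw [hw] at h1
    rw [show hS.k y' = y from Equiv.apply_symm_apply _ _] at h2
    simp only [OneMemClass.coe_one, mul_one, map_one, Units.val_one] at h1 h2
    rw [show (w : G) = (h : G) * y' * (h : G)⁻¹ from rfl, (χ.2.isClassFunction (y' : G) h), h2]
      at h1
    exact (mul_left_cancel₀ hd h1).symm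
  exact hS.exists_fam χ u hδ lam fun y hy z => by rw [hval y hy z, hu]

/-- An element `y z` with `y ≠ 1` in the centralizer. -/
def Setting.inZ (y : hS.P) (z : Subgroup.center G) : C[hS.P] :=
  ⟨(y : G) * z, hS.mem_cent_iff.2 ⟨y, y.2, z, z.2, rfl⟩⟩

theorem Setting.pPt_inZ {y : hS.P} (hy : y ≠ 1) (z : Subgroup.center G) :
    pPt p ((hS.inZ y z : C[hS.P]) : G) ∈ hS.P ∧ ¬ IsPRegular p ((hS.inZ y z : C[hS.P]) : G) := by
  refine ⟨?_, fun h => h (hS.singular_mul hy z)⟩
  have hz : ¬ p ∣ orderOf (z : G) := fun h =>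
    hS.not_dvd_center (h.trans (Subgroup.orderOf_dvd_natCard _ z.2))
  have hy1 : (y : G) ≠ 1 := fun h => hy (Subtype.ext h)
  rw [show ((hS.inZ y z : C[hS.P]) : G) = (y : G) * z from rfl,
    ← eq_pPt (p := p) (x := (y : G)) (y := (z : G)) (g := (y : G) * z) rfl
    (Subgroup.mem_center_iff.1 z.2 y) (k := 1) (by rw [pow_one, hS.orderOf_mem y.2 hy1]) hz]
  exact y.2

variable {M : Ideal AlgInt} (hM : IsPModular p M) {B : Set (IrrCharacter G)}
  {b : Set (IrrCharacter C[hS.P])} (hB : IsPBlock M B) (hD : IsDefectGroup p M B hS.P)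
  (hind : IsInducedBlock M C[hS.P] b B)

include hM hB hD hind

/-- The members of a root block with a linear member are indexed by their exponents. -/
theorem Setting.root_exponents {θ : IrrCharacter C[hS.P]} (hθ : θ ∈ b)
    (hθP : ∀ z : C[hS.P], (z : G) ∈ hS.P → (θ : C[hS.P] → ℂ) z = (θ : C[hS.P] → ℂ) 1)
    (lam : Subgroup.center G →* ℂˣ)
    (hlam : ∀ z : Subgroup.center G, (θ : C[hS.P] → ℂ) (hS.inZ 1 z) = (lam z : ℂ)) :
    ∃ x : IrrCharacter C[hS.P] → ZMod p, x θ = 0 ∧ Set.InjOn x b ∧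
      ∀ ξ ∈ b, ∀ (y : hS.P) (z : Subgroup.center G),
        (ξ : C[hS.P] → ℂ) (hS.inZ y z) = ZMod.stdAddChar (x ξ * hS.k y) * (lam z : ℂ) := by
  haveI : NeZero p := ⟨(Fact.out : p.Prime).ne_zero⟩
  have hθ1 : (θ : C[hS.P] → ℂ) 1 = 1 := by
    have h := hlam 1
    rw [map_one, Units.val_one] at h
    rw [← h, show hS.inZ 1 1 = 1 from Subtype.ext (mul_one 1)]
  have hreg : ∀ ξ ∈ b, ∀ z : Subgroup.center G, (ξ : C[hS.P] → ℂ) (hS.inZ 1 z) = (lam z : ℂ) :=
    fun ξ hξ z => by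
      rw [← hlam z]
      refine root_reg hM hB hD hS.card hind hξ hθ ?_
      show ¬ p ∣ orderOf (hS.inZ 1 z)
      rw [← Subgroup.orderOf_coe, show ((hS.inZ 1 z : C[hS.P]) : G) = (z : G) by
        simp [Setting.inZ]]
      exact fun h => hS.not_dvd_center (h.trans (Subgroup.orderOf_dvd_natCard _ z.2))
  have hlin : ∀ ξ ∈ b, ∃ l : C[hS.P] →* ℂˣ, (ξ : C[hS.P] → ℂ) = fun g => (l g : ℂ) := fun ξ hξ =>
    exists_hom_of_degree_one ξ.2.isCharacter (by
      rw [root_apply_one hM hB hD hS.card hind hξ hθ, hθ1])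
  have hex : ∀ ξ : IrrCharacter C[hS.P], ∃ x : ZMod p, ξ ∈ b → ∀ (y : hS.P)
      (z : Subgroup.center G), (ξ : C[hS.P] → ℂ) (hS.inZ y z) =
        ZMod.stdAddChar (x * hS.k y) * (lam z : ℂ) := fun ξ => by
    by_cases hξ : ξ ∈ b
    swap
    · exact ⟨0, fun h => absurd h hξ⟩
    obtain ⟨l, hl⟩ := hlin ξ hξ
    obtain ⟨x, hx⟩ := hS.exists_exponent (l.comp
      (MonoidHom.mk' (inC hS.card) fun a b => inC_mul hS.card a b))
    refine ⟨x, fun _ y z => ?_⟩
    rw [← hx, ← hreg ξ hξ z, hl, show hS.inZ y z = inC hS.card y * hS.inZ 1 z from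
      Subtype.ext (by simp [Setting.inZ, inC_coe])]
    simp only [map_mul, Units.val_mul]
    rfl
  choose x hx using hex
  refine ⟨x, ?_, fun ξ hξ ξ' hξ' he => ?_, hx⟩
  · have h := hx θ hθ (hS.k.symm 1) 1
    rw [Equiv.apply_symm_apply, mul_one, map_one lam, Units.val_one, mul_one,
      show hS.inZ (hS.k.symm 1) 1 = inC hS.card (hS.k.symm 1) from
        Subtype.ext (by simp [Setting.inZ, inC_coe]), hθP _ (hS.k.symm 1).2, hθ1] at h
    refine ZMod.injective_stdAddChar ?_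
    rw [← h, AddChar.map_zero_eq_one]
  · refine Subtype.ext (funext fun c => ?_)
    obtain ⟨⟨y, z⟩, rfl⟩ := hS.bijective_prod.2 c
    show (ξ : C[hS.P] → ℂ) (hS.inZ y z) = (ξ' : C[hS.P] → ℂ) (hS.inZ y z)
    rw [hx ξ hξ, hx ξ' hξ', he]

omit hM hB hD hind in
/-- Every linear character of the centre has a family. -/
theorem Setting.exists_family (lam : Subgroup.center G →* ℂˣ) :
    ∃ δ : ℤ, Nonempty (Fam hS δ lam) := by
  have hpp : p.Prime := Fact.out
  obtain ⟨M, hM⟩ := exists_isPModular hpp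
  let S0 : Sylow p G := Sylow.ofCard hS.P (by rw [hS.fac, hS.card, pow_one])
  let e := Equiv.ofBijective _ hS.bijective_prod
  have he : ∀ c, ((c : C[hS.P]) : G) = ((e.symm c).1 : G) * ((e.symm c).2 : G) := fun c => by
    conv_lhs => rw [← e.apply_symm_apply c]
    rfl
  let l : C[hS.P] →* ℂˣ := MonoidHom.mk' (fun c => lam (e.symm c).2) fun a b => by
    rw [← map_mul]
    congr 1
    have : e.symm (a * b) = ((e.symm a).1 * (e.symm b).1, (e.symm a).2 * (e.symm b).2) := by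
      rw [Equiv.symm_apply_eq]
      refine Subtype.ext ?_
      show ((a * b : C[hS.P]) : G) = _
      rw [Subgroup.coe_mul, he a, he b]
      show _ = ((e.symm a).1 : G) * (e.symm b).1 * (((e.symm a).2 : G) * (e.symm b).2)
      have hc := Subgroup.mem_center_iff.1 (e.symm a).2.2 ((e.symm b).1 : G)
      calc ((e.symm a).1 : G) * (e.symm a).2 * (((e.symm b).1 : G) * (e.symm b).2)
          = ((e.symm a).1 : G) * ((((e.symm a).2 : G) * (e.symm b).1) * (e.symm b).2) := by group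
        _ = ((e.symm a).1 : G) * ((((e.symm b).1 : G) * (e.symm a).2) * (e.symm b).2) := by rw [hc]
        _ = _ := by group
    rw [this]
  have hlval : ∀ (y : hS.P) (z : Subgroup.center G), l (hS.inZ y z) = lam z := fun y z => by
    show lam (e.symm (hS.inZ y z)).2 = lam z
    rw [show hS.inZ y z = e (y, z) from rfl, e.symm_apply_apply]
  let θ : IrrCharacter C[hS.P] := ⟨_, isIrrCharacter_linear l⟩
  have hθP : ∀ z : C[hS.P], (z : G) ∈ hS.P → (θ : C[hS.P] → ℂ) z = (θ : C[hS.P] → ℂ) 1 :=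
    fun c hc => by
      show ((l c : ℂˣ) : ℂ) = (l 1 : ℂ)
      rw [map_one, show c = hS.inZ ⟨c, hc⟩ 1 from Subtype.ext (by simp [Setting.inZ]), hlval, map_one]
  obtain ⟨B, hind, hD⟩ := exists_block_of_trivial hM S0 hS.card ⟨θ, hθP⟩
  change IsInducedBlock M C[hS.P] (blockOf M (θ : C[hS.P] → ℂ)) B at hind
  change IsDefectGroup p M B hS.P at hD
  set b := blockOf M (θ : C[hS.P] → ℂ)
  have hB : IsPBlock M B := hind.2.1
  have hθb : θ ∈ b := self_mem_blockOf hM θ
  set N := Subgroup.normalizer (hS.P : Set G)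
  -- the normalizer stabilizes the root
  have hT : ∀ g : G, g ∈ N ↔ g ∈ N ∧ StabilizesBlock C[hS.P] b g := fun g =>
    ⟨fun hg => ⟨hg, (stabilizes_iff_fix hM hB hD hS.card hind hθb hθP hg).2 fun c c' ec => by
      obtain ⟨⟨y, z⟩, rfl⟩ := hS.bijective_prod.2 c
      show ((l c' : ℂˣ) : ℂ) = (l (hS.inZ y z) : ℂ)
      rw [show c' = hS.inZ ⟨g * y * g⁻¹, (Subgroup.mem_normalizer_iff.1 hg _).1 y.2⟩ z from
        Subtype.ext (by
          rw [ec]
          show g * ((y : G) * z) * g⁻¹ = g * y * g⁻¹ * z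
          rw [mul_assoc (g * (y : G)) g⁻¹, Subgroup.mem_center_iff.1 z.2 g⁻¹]
          group), hlval, hlval]⟩, And.left⟩
  obtain ⟨X, Y, δ', δ₀, -, hBXY, hdisj, -, -, hY, -, -, hδ₀, -, -, -, -, -, hcY, hlast⟩ :=
    prime_structure hM hB hD hS.card hind hθb hθP N hT
  obtain ⟨φ, hφ⟩ := hY
  have hφB : φ ∈ B := hBXY ▸ Or.inr hφ
  obtain ⟨x, hxθ, hxinj, hxval⟩ := hS.root_exponents hM hB hD hind hθb hθP lam fun z => by
    show ((l (hS.inZ 1 z) : ℂˣ) : ℂ) = _
    rw [hlval]
  set a : IrrCharacter C[hS.P] → ℂ := fun ξ =>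
    classInner (fun k : C[hS.P] => (φ : G → ℂ) k) (ξ : C[hS.P] → ℂ) with ha
  have hd0 : (δ₀ : ℂ) ≠ 0 := by rcases hδ₀ with h | h <;> simp [h]
  have hstep : ∀ ξ ∈ b, a ξ - a θ = 0 ∨ (a ξ - a θ = (δ₀ : ℂ) ∧ ξ ≠ θ) := by
    intro ξ hξ
    by_cases hne : ξ = θ
    · exact Or.inl (by rw [hne, sub_self])
    obtain ⟨ψ, hψ, heq⟩ := hlast ξ hξ hne
    obtain ⟨n₁, hn₁⟩ := (φ.2.isCharacter.comp (C[hS.P]).subtype).exists_nat_classInner
      ξ.2.isCharacter
    obtain ⟨n₂, hn₂⟩ := (φ.2.isCharacter.comp (C[hS.P]).subtype).exists_nat_classInner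
      θ.2.isCharacter
    simp only [Subgroup.coe_subtype] at hn₁ hn₂
    have e1 : a ξ = n₁ := hn₁
    have e2 : a θ = n₂ := hn₂
    have h1 : classInner (indFun C[hS.P] ((ξ : C[hS.P] → ℂ) - (θ : C[hS.P] → ℂ))) (φ : G → ℂ) =
        a ξ - a θ := by
      rw [classInner_indFun C[hS.P] _ φ.2.isCharacter.isClassFunction, classInner_sub_left,
        ← classInner_conj_symm, ← classInner_conj_symm (φ := fun h : C[hS.P] => (φ : G → ℂ) h)
          (ψ := (θ : C[hS.P] → ℂ)), show classInner (fun h : C[hS.P] => (φ : G → ℂ) h)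
            (ξ : C[hS.P] → ℂ) = a ξ from rfl, e1, show classInner
            (fun h : C[hS.P] => (φ : G → ℂ) h) (θ : C[hS.P] → ℂ) = a θ from rfl, e2,
        Complex.conj_natCast, Complex.conj_natCast]
    have h2 : classInner (indFun C[hS.P] ((ξ : C[hS.P] → ℂ) - (θ : C[hS.P] → ℂ))) (φ : G → ℂ) =
        (δ₀ : ℂ) * classInner (ψ : G → ℂ) (φ : G → ℂ) := by
      rw [show indFun C[hS.P] ((ξ : C[hS.P] → ℂ) - (θ : C[hS.P] → ℂ)) =
        (δ₀ : ℂ) • (ψ : G → ℂ) + ∑ χ ∈ X.toFinset, (δ' χ : ℂ) • (χ : G → ℂ) from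
        funext fun g => by simp [heq g, Finset.sum_apply, finsum_mem_eq_toFinset_sum]]
      rw [classInner_add_left, classInner_smul_left, classInner_sum_left, Finset.sum_eq_zero,
        add_zero]
      intro χ hχ
      rw [classInner_smul_left, classInner_irr_ne χ.2 φ.2, mul_zero]
      exact fun h => Set.disjoint_left.1 hdisj
        ((Subtype.ext h : χ = φ) ▸ Set.mem_toFinset.1 hχ) hφ
    rw [h1, classInner_irr ψ.2 φ.2] at h2
    split_ifs at h2
    · exact Or.inr ⟨by rw [h2, mul_one], hne⟩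
    · exact Or.inl (by rw [h2, mul_zero])
  set S := b.toFinset.filter fun ξ => a ξ - a θ ≠ 0 with hSdef
  have hSval : ∀ ξ ∈ b.toFinset, a ξ = a θ + if ξ ∈ S then (δ₀ : ℂ) else 0 := by
    intro ξ hξ
    by_cases h : a ξ - a θ = 0
    · rw [if_neg fun (h' : ξ ∈ S) => (Finset.mem_filter.1 h').2 h, add_zero]
      exact sub_eq_zero.1 h
    · rw [if_pos (Finset.mem_filter.2 ⟨hξ, h⟩),
        ← ((hstep ξ (Set.mem_toFinset.1 hξ)).resolve_left h).1]
      ring
  have hEc : (C[hS.P]).relIndex N = Nat.card hS.E := by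
    have hCN : C[hS.P] ≤ N := Subgroup.centralizer_le_normalizer _
    have h1 := hS.card_normalizer
    have h2 : Nat.card N = (C[hS.P]).relIndex N * Nat.card C[hS.P] := by
      rw [Subgroup.relIndex, ← Nat.card_congr (Subgroup.subgroupOfEquivOfLe hCN).toEquiv, mul_comm,
        Subgroup.card_mul_index]
    exact Nat.eq_of_mul_eq_mul_right Nat.card_pos (h2.symm.trans h1)
  have hScard : S.card = Nat.card hS.E := by
    have h := hcY φ hφ
    change ∑ ξ ∈ b.toFinset, (a ξ - a θ) = _ at h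
    rw [Finset.sum_congr rfl fun ξ hξ => by rw [hSval ξ hξ, add_sub_cancel_left],
      Finset.sum_ite_mem, Finset.sum_const, nsmul_eq_mul,
      Finset.inter_eq_right.2 (Finset.filter_subset _ _), hEc] at h
    exact_mod_cast mul_right_cancel₀ hd0 h
  have hSinj : Set.InjOn x S := fun ξ hξ ξ' hξ' h =>
    hxinj (Set.mem_toFinset.1 (Finset.mem_filter.1 hξ).1)
      (Set.mem_toFinset.1 (Finset.mem_filter.1 hξ').1) h
  suffices h : ∃ F : Fam hS δ₀ lam, ∀ g : G, ¬ p ∣ orderOf g →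
      (F.ψ 1 : G → ℂ) g = (φ : G → ℂ) g from ⟨δ₀, ⟨h.choose⟩⟩
  refine hS.exists_fam_of_set φ (S.image x) ?_ ?_ hδ₀ lam fun y hy z => ?_
  · intro h0
    obtain ⟨ξ, hξ, hx0⟩ := Finset.mem_image.1 h0
    obtain ⟨hξb, hne⟩ := Finset.mem_filter.1 hξ
    rw [← hxθ] at hx0
    exact hne (by rw [hxinj (Set.mem_toFinset.1 hξb) hθb hx0, sub_self])
  · rw [Finset.card_image_of_injOn hSinj, hScard]
  · obtain ⟨hk, hk1⟩ := hS.pPt_inZ hy z
    have hv := apply_section_eq hM hB hD hS.card hind φ hφB (hS.inZ y z) hk hk1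
    have hUb : (indSet M C[hS.P] B).toFinset = b.toFinset := by
      have D := cycSystem hM hB hD hS.card hind
      refine (Finset.eq_of_subset_of_card_le (fun η h =>
        Set.mem_toFinset.2 (D.mem_indSet hM (Set.mem_toFinset.1 h))) ?_).symm
      have h := sum_indSet_of_inv hM hB hD hS.card hind hθb N hT (fun _ => (1 : ℂ))
        fun _ _ _ _ => rfl
      rw [Subgroup.relIndex_self, Nat.cast_one, one_mul, Finset.sum_const, Finset.sum_const,
        nsmul_one, nsmul_one, Nat.cast_inj] at h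
      exact h.le
    change (φ : G → ℂ) ((hS.inZ y z : C[hS.P]) : G) = _
    rw [hv, hUb]
    have hy0 : hS.k y ≠ 0 := hS.k_ne hy
    have hall : ∑ ξ ∈ b.toFinset, ZMod.stdAddChar (x ξ * hS.k y) = 0 := by
      have himg : b.toFinset.image x = Finset.univ := by
        refine Finset.eq_univ_of_card _ ?_
        rw [Finset.card_image_of_injOn (by simpa using hxinj), Set.toFinset_card,
          ← Nat.card_eq_fintype_card, root_card hM hB hD hS.card hind, ZMod.card]
      rw [← Finset.sum_image (f := fun w => ZMod.stdAddChar (w * hS.k y)) (by simpa using hxinj),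
        himg]
      simp only [mul_comm _ (hS.k y)]
      rw [sum_std, if_neg hy0]
    rw [Finset.sum_image hSinj, Finset.sum_congr rfl fun ξ hξ => by
      rw [show classInner (fun h : C[hS.P] => (φ : G → ℂ) h) (ξ : C[hS.P] → ℂ) = a ξ from rfl,
        hSval ξ hξ, hxval ξ (Set.mem_toFinset.1 hξ) y z, add_mul, ite_mul, zero_mul],
      Finset.sum_add_distrib, Finset.sum_ite_mem, Finset.inter_eq_right.2 (Finset.filter_subset _ _),
      ← Finset.mul_sum, ← Finset.sum_mul, hall, zero_mul, mul_zero, zero_add, ← Finset.mul_sum,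
      ← Finset.sum_mul]
    ring

end Cfsg.Lib.Feit
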