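import Cfsg.Agent.Lib.Feit.Exists
import Cfsg.Agent.Lib.Feit.Small

/-!
# The structure for a faithful character of degree below `p - 1`

Either the central quotient is `PSL(2, p)` and the degree is `(p - 1) / 2`, or `C(P) = P × Z` and
the character belongs to an exceptional family of degree `p - e`.
-/

set_option autoImplicit false
set_option linter.unusedSectionVars false
set_option linter.style.haveILetI false
set_option maxHeartbeats 2000000

namespace Cfsg.Lib.Feit

open Cfsg Cfsg.Lib.Char
open Cfsg.Lib.Block hiding trivChar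
open scoped ComplexConjugate Classical

universe u

noncomputable local instance (priority := high) fintypeSubgroupFeitStructure {A : Type u}
    [Group A] [Fintype A] (K : Subgroup A) : Fintype K := Fintype.ofFinite K

local notation "C[" P "]" => Subgroup.centralizer (SetLike.coe P)

variable {p : ℕ} [Fact p.Prime] {G : Type u} [Group G] [Fintype G]

/-- The possible coefficients. -/
theorem coeff_cases (p e r t s aθ m k d : ℕ) (hp : p.Prime) (hd0 : 0 < d) (hdp : d + 1 < p)
    (he : e * r ∣ p - 1) (hk : k = p - 1 ∨ k = e) (ht : 1 ≤ t) (hr : 1 ≤ r)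
    (hc : (s : ℤ) - p * aθ = k ∨ (s : ℤ) - p * aθ = -(k : ℤ))
    (hle : r * t * s ≤ d) (hm : (p : ℤ) * m = (d : ℤ) - r * t * ((s : ℤ) - p * aθ)) :
    (r * t * s = d ∧ s = e ∧ m = 0 ∧ e * r ≤ d) ∨
      (aθ = 1 ∧ r = 1 ∧ t = 1 ∧ s = d ∧ d + e = p ∧ e + 1 < p) ∨ m = d := by
  have hp2 := hp.two_le
  have he0 : 1 ≤ e := by
    rcases Nat.eq_zero_or_pos e with h | h
    · rw [h, zero_mul, zero_dvd_iff] at he; omega
    · exact h
  have hee : e ∣ p - 1 := (dvd_mul_right e r).trans he
  have hrt : 1 ≤ r * t := Nat.one_le_iff_ne_zero.2 (Nat.mul_ne_zero (by omega) (by omega))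
  have hs : s ≤ d := le_trans (Nat.le_mul_of_pos_left s (by omega)) hle
  rcases hc with hc | hc
  · have ha : aθ = 0 := by
      by_contra h
      have : (p : ℤ) * 1 ≤ p * aθ := mul_le_mul_of_nonneg_left (by omega) (by positivity)
      have : 0 ≤ (k : ℤ) := by positivity
      omega
    subst ha
    simp only [Nat.cast_zero, mul_zero, sub_zero] at hc hm
    have hsk : s = k := by exact_mod_cast hc
    have hke : k = e := hk.resolve_left (by omega)
    have hdiv : (p : ℤ) ∣ ((d - r * t * s : ℕ) : ℤ) := ⟨m, by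
      rw [Nat.cast_sub hle]; push_cast; linarith⟩
    have heq := Nat.eq_zero_of_dvd_of_lt (Int.natCast_dvd_natCast.1 hdiv) (by omega)
    have heq' : r * t * s = d := by omega
    refine Or.inl ⟨heq', by omega, ?_, ?_⟩
    · have : (p : ℤ) * m = 0 := by rw [hm, ← heq']; push_cast; ring
      rcases mul_eq_zero.1 this with h | h <;> omega
    · rw [← heq', hsk, hke]
      calc e * r = r * 1 * e := by ring
        _ ≤ r * t * e := Nat.mul_le_mul_right e (Nat.mul_le_mul_left r ht)
  · have hk1 : k ≤ p - 1 := by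
      rcases hk with h | h
      · omega
      · exact h ▸ Nat.le_of_dvd (by omega) hee
    have ha : aθ = 1 := by
      rcases Nat.lt_or_ge aθ 2 with h | h
      · by_contra h1
        have : aθ = 0 := by omega
        subst this
        have hkpos : 1 ≤ k := by rcases hk with h | h <;> omega
        simp at hc
        omega
      · exfalso
        have : (p : ℤ) * 2 ≤ p * aθ := mul_le_mul_of_nonneg_left (by omega) (by positivity)
        omega
    subst ha
    simp only [Nat.cast_one, mul_one] at hc hm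
    rw [hc] at hm
    by_cases hkp : k = p - 1
    · right; right
      have hs1 : s = 1 := by omega
      subst hs1
      simp only [mul_one] at hle
      have hk' : (k : ℤ) = p - 1 := by omega
      rw [hk'] at hm
      have hdiv : (p : ℤ) ∣ ((d - r * t : ℕ) : ℤ) := ⟨(m : ℤ) - r * t, by
        rw [Nat.cast_sub hle]; push_cast; linear_combination -hm⟩
      have heq := Nat.eq_zero_of_dvd_of_lt (Int.natCast_dvd_natCast.1 hdiv) (by omega)
      have heq' : r * t = d := by omega
      have : (p : ℤ) * m = p * d := by rw [hm, ← heq']; push_cast; ring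
      exact_mod_cast mul_left_cancel₀ (by omega) this
    · right; left
      obtain rfl : k = e := hk.resolve_left hkp
      have h2k : 2 * k ≤ p - 1 := by
        obtain ⟨c, hc'⟩ := hee
        rcases c with _ | _ | c
        · omega
        · omega
        · rw [hc']
          have : k * 2 ≤ k * (c + 1 + 1) := Nat.mul_le_mul_left k (by omega)
          linarith
      have hrt1 : r * t = 1 := by
        by_contra h
        have := Nat.mul_le_mul_right s (show 2 ≤ r * t by omega)
        omega
      obtain ⟨hr1, ht1⟩ := mul_eq_one.1 hrt1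
      subst hr1; subst ht1
      simp only [Nat.cast_one, one_mul] at hm
      have hdk : ((d + k : ℕ) : ℤ) = p * m := by push_cast; linarith
      have hdk' : d + k = p * m := by exact_mod_cast hdk
      have hm1 : m = 1 := by
        rcases m with _ | _ | m
        · omega
        · rfl
        · exfalso
          have : p * 2 ≤ p * (m + 1 + 1) := Nat.mul_le_mul_left p (by omega)
          omega
      subst hm1
      refine ⟨rfl, rfl, rfl, ?_, by omega, by omega⟩
      omega

/-- Conjugate exponents are bounded by the index of the centralizer in the normalizer. -/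
theorem index_ge {P : Subgroup G} (hcard : Nat.card P = p) {u : G} (huP : u ∈ P) (hu1 : u ≠ 1)
    {m : ℕ} (f : Fin m → ℕ) (hf : Function.Injective fun i => (f i : ZMod p))
    (hconj : ∀ i, ∃ g, g * u * g⁻¹ = u ^ f i) :
    m ≤ (C[P]).relIndex (Subgroup.normalizer (P : Set G)) := by
  set N := Subgroup.normalizer (P : Set G) with hN
  have hord : orderOf u = p := ((Nat.dvd_prime (Fact.out : p.Prime)).1
    (hcard ▸ Subgroup.orderOf_dvd_natCard P huP)).resolve_left fun h => hu1 (orderOf_eq_one_iff.1 h)
  have hz : Subgroup.zpowers u = P := zpowers_eq_of_mem hcard huP hu1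
  choose g hg using hconj
  have hgN : ∀ i, g i ∈ N := fun i => by
    have hle : P.map (MulAut.conj (g i)).toMonoidHom ≤ P := by
      conv_lhs => rw [← hz]
      rw [MonoidHom.map_zpowers, Subgroup.zpowers_le]
      show g i * u * (g i)⁻¹ ∈ P
      rw [hg]
      exact pow_mem huP _
    have heq : P.map (MulAut.conj (g i)).toMonoidHom = P :=
      Subgroup.eq_of_le_of_card_ge hle
        (Nat.card_congr (P.equivMapOfInjective _ (MulAut.conj (g i)).injective).toEquiv).le
    rw [Subgroup.mem_normalizer_iff]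
    intro w
    constructor
    · intro hw
      rw [← heq]
      exact ⟨w, hw, rfl⟩
    · intro hw
      rw [← heq] at hw
      obtain ⟨v, hv, hvw⟩ := hw
      exact (mul_left_cancel (mul_right_cancel hvw) : v = w) ▸ hv
  let φ : Fin m → N ⧸ (C[P]).subgroupOf N := fun i => QuotientGroup.mk ⟨g i, hgN i⟩
  have hφ : Function.Injective φ := fun i j h => by
    refine hf ?_
    have hc : (g i)⁻¹ * g j ∈ C[P] := Subgroup.mem_subgroupOf.1 (QuotientGroup.eq.1 h)
    have e1 := Subgroup.mem_centralizer_iff.1 hc u huP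
    have e2 : g i * u * (g i)⁻¹ = g j * u * (g j)⁻¹ := by
      calc g i * u * (g i)⁻¹ = g i * (u * ((g i)⁻¹ * g j)) * (g j)⁻¹ := by group
        _ = g i * ((g i)⁻¹ * g j * u) * (g j)⁻¹ := by rw [e1]
        _ = g j * u * (g j)⁻¹ := by group
    rw [hg, hg, pow_inj_mod, hord] at e2
    exact (ZMod.natCast_eq_natCast_iff' _ _ p).2 e2
  calc m = Nat.card (Fin m) := (Nat.card_fin m).symm
    _ ≤ Nat.card (N ⧸ (C[P]).subgroupOf N) := Nat.card_le_card_of_injective φ hφ

/-- The structure for a faithful character of degree below `p - 1`. -/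
theorem structure_small {P : Subgroup G} (h5 : 5 < p) (hcard : Nat.card P = p)
    (hfac : (Nat.card G).factorization p = 1) (hnn : ¬ P.Normal)
    {ζ : G → ℂ} (hζ : IsIrrCharacter G ζ) (hfaith : ∀ g : G, ζ g = ζ 1 → g = 1) {d : ℕ}
    (hdeg : ζ 1 = (d : ℂ)) (hdp : d + 1 < p) :
    (Nonempty ((G ⧸ Subgroup.center G) ≃* Matrix.ProjectiveSpecialLinearGroup (Fin 2) (ZMod p)) ∧
        (∃ u ∈ P, orderOf u = p ∧ ∀ c : ℕ, ¬ p ∣ c → ∃ g, g * u * g⁻¹ = u ^ (c * c)) ∧
        2 * d + 1 = p) ∨
      ∃ (hS : Setting p G) (lam : Subgroup.center G →* ℂˣ) (F : Fam hS (-1) lam),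
        hS.P = P ∧ d + Nat.card hS.E = p ∧ charDegree (F.ψ 1 : G → ℂ) = d := by
  have hpp : p.Prime := Fact.out
  obtain ⟨M, hM⟩ := exists_isPModular hpp
  let φ : IrrCharacter G := ⟨ζ, hζ⟩
  have hcd : charDegree (φ : G → ℂ) = d := charDegree_eq_of_apply_one hdeg
  have hd0 : 0 < d := by
    rw [← hcd]; exact charDegree_pos φ
  have hnd : ¬ p ∣ charDegree (φ : G → ℂ) := by
    rw [hcd]; exact fun h => absurd (Nat.le_of_dvd hd0 h) (by omega)
  have hD := isDefectGroup_of_degree hcard hfac hM hnd
  have hB : IsPBlock M (blockOf M (φ : G → ℂ)) := isPBlock_blockOf φ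
  have hPp : IsPGroup p P := IsPGroup.of_card (n := 1) (by rw [hcard, pow_one])
  obtain ⟨b, hb⟩ := (exists_pair_iff hM hB hD hPp).2 ⟨1, by
    rintro _ ⟨z, hz, rfl⟩; simpa using hz⟩
  have hind := isInducedBlock_of_isBrauerPairOf hM (le_centralizer_self hcard) hb
  obtain ⟨θ, hθ, hθP⟩ := root_exists_trivial hM hB hD hcard hind
  obtain ⟨T, hT⟩ := exists_stabilizer_subgroup hM hB hD hcard hind
  choose a ha using fun η : IrrCharacter C[P] =>
    (hζ.isCharacter.comp (C[P]).subtype).exists_nat_classInner η.2.isCharacter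
  have ha' : ∀ η : IrrCharacter C[P],
      classInner (fun k : C[P] => (φ : G → ℂ) k) (η : C[P] → ℂ) = (a η : ℂ) := ha
  obtain ⟨hsum, hind_sum⟩ := sum_P_block hcard hM hB hD hind hθ hθP T hT a
    (self_mem_blockOf hM φ) ha'
  obtain ⟨k, hkd, hk, hc⟩ := root_coeff_cases hcard hM hB hD hind hθ hθP T hT a
    (self_mem_blockOf hM φ) ha'
  obtain ⟨t, ht0, ht⟩ := θ.2.exists_degree
  set r := T.relIndex (Subgroup.normalizer (P : Set G)) with hr
  have hTN : T ≤ Subgroup.normalizer (P : Set G) := fun g hg => ((hT g).1 hg).1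
  have hCT : C[P] ≤ T := fun g hg => (hT g).2 ⟨Subgroup.centralizer_le_normalizer _ hg,
    (stabilizes_iff_fix hM hB hD hcard hind hθ hθP (Subgroup.centralizer_le_normalizer _ hg)).2
      fun c c' e => by
        rw [show c' = ⟨g, hg⟩ * c * ⟨g, hg⟩⁻¹ from Subtype.ext e]
        exact θ.2.isClassFunction c _⟩
  have htower : (C[P]).relIndex T * r = (C[P]).relIndex (Subgroup.normalizer (P : Set G)) :=
    Subgroup.relIndex_mul_relIndex _ _ _ hCT hTN
  have hr0 : 1 ≤ r := Nat.one_le_iff_ne_zero.2 Subgroup.index_ne_zero_of_finite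
  set s := ∑ ξ ∈ b.toFinset, a ξ with hs
  have hsc : (∑ ξ ∈ b.toFinset, (a ξ : ℂ)) = (s : ℂ) := by rw [hs, Nat.cast_sum]
  rw [hsc, ht] at hsum hind_sum
  have hsz : (∑ ξ ∈ b.toFinset, (a ξ : ℤ)) = (s : ℤ) := by rw [hs, Nat.cast_sum]
  rw [hsz] at hc
  choose dg hdg0 hdg using fun η : IrrCharacter C[P] => η.2.exists_degree
  have hexp : ∀ c : C[P], ζ c = ∑ η : IrrCharacter C[P], (a η : ℂ) * (η : C[P] → ℂ) c := by
    intro c
    have h := congrFun (Char.eq_sum_classInner (f := fun k : C[P] => (φ : G → ℂ) k)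
      (hζ.isCharacter.comp (C[P]).subtype).isClassFunction) c
    simp only [Finset.sum_apply, Pi.smul_apply, smul_eq_mul, ha'] at h
    exact h
  have hnexp : d = ∑ η, a η * dg η := by
    have h := hexp 1
    rw [OneMemClass.coe_one, hdeg] at h
    simp only [hdg] at h
    exact_mod_cast h
  have hindN : ∑ η ∈ (indSet M C[P] (blockOf M (φ : G → ℂ))).toFinset, a η * dg η = r * t * s := by
    simp only [hdg] at hind_sum
    exact_mod_cast hind_sum
  have hle : r * t * s ≤ d := by
    rw [← hindN, hnexp]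
    exact Finset.sum_le_univ_sum_of_nonneg fun _ => Nat.zero_le _
  obtain ⟨m, hm⟩ := (hζ.isCharacter.comp P.subtype).exists_nat_classInner
    (Char.isIrrCharacter_one (G := P)).isCharacter
  have hm' : ∑ z : P, ζ z = (p : ℂ) * m := by
    have h : classInner (fun z : P => ζ z) (fun _ => 1) = (m : ℂ) := hm
    rw [Char.classInner_one_right, hcard] at h
    rw [← h, ← mul_assoc, mul_inv_cancel₀ (Nat.cast_ne_zero.2 hpp.ne_zero), one_mul]
  have hmz : (p : ℤ) * m = d - r * t * ((s : ℤ) - p * a θ) := by
    have h : (p : ℂ) * m = (d : ℂ) + -((r : ℂ) * t * ((s : ℂ) - p * a θ)) := by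
      rw [← hm', ← Finset.add_sum_erase _ _ (Finset.mem_univ (1 : P)), hsum, OneMemClass.coe_one,
        hdeg]
    have h' : ((p : ℤ) * m : ℤ) = (d : ℤ) + -((r : ℤ) * t * ((s : ℤ) - p * a θ)) := by exact_mod_cast h
    linarith
  have hEdvd : (C[P]).relIndex T * r ∣ p - 1 := htower ▸ relIndex_centralizer_dvd hcard
  obtain ⟨z₀, hz₀, hz₀1⟩ : ∃ z ∈ P, z ≠ (1 : G) := by
    have hne : P ≠ ⊥ := fun h => by
      rw [h, Subgroup.card_bot] at hcard
      exact hpp.ne_one hcard.symm
    obtain ⟨⟨y, hyP⟩, hy⟩ := (Subgroup.ne_bot_iff_exists_ne_one (H := P)).1 hne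
    exact ⟨y, hyP, fun h => hy (Subtype.ext h)⟩
  have hordz : orderOf z₀ = p := ((Nat.dvd_prime hpp).1
    (hcard ▸ Subgroup.orderOf_dvd_natCard P hz₀)).resolve_left fun h => hz₀1 (orderOf_eq_one_iff.1 h)
  have hzP : Subgroup.zpowers z₀ = P := zpowers_eq_of_mem hcard hz₀ hz₀1
  rcases coeff_cases p _ r t s (a θ) m k d hpp hd0 hdp hEdvd hk ht0 hr0 hc hle hmz with
    ⟨hrts, hse, -, her⟩ | ⟨haθ, hr1, ht1, hsd, hde, hep⟩ | hmd
  · -- no fixed points
    left
    obtain ⟨N, σ, hσ, hσχ⟩ := id hζ
    have hNd : Module.finrank ℂ (Fin N → ℂ) = d := by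
      rw [← hσχ, Representation.char_one] at hdeg
      exact_mod_cast hdeg
    have hσu : σ z₀ ≠ 1 := fun h => hz₀1 (hfaith z₀ (by
      rw [← hσχ]
      show LinearMap.trace ℂ _ (σ z₀) = LinearMap.trace ℂ _ (σ 1)
      rw [h, map_one σ]))
    have hnn' : ¬ (Subgroup.zpowers z₀).Normal := by rw [hzP]; exact hnn
    have hsmall : 2 * N < p ∨ ∃ (S : Finset ℕ) (c : ℕ → ℂ), 2 * S.card < p ∧
        (∀ x ∈ S, c x ^ p = 1) ∧
        Polynomial.aeval (σ z₀) (∏ x ∈ S, (Polynomial.X - Polynomial.C (c x))) = 0 := by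
      right
      set U := (indSet M C[P] (blockOf M (φ : G → ℂ))).toFinset with hU
      set supp := U.filter fun η => a η ≠ 0 with hsupp
      have hout : ∀ η, η ∉ U → a η = 0 := by
        intro η hη
        have h := Finset.sum_add_sum_compl U fun η => a η * dg η
        rw [← hnexp, hindN, hrts, add_eq_left, Finset.sum_eq_zero_iff] at h
        exact (mul_eq_zero.1 (h η (Finset.mem_compl.2 hη))).resolve_right fun h2 => (hdg0 η).ne' h2
      have hcard_supp : supp.card ≤ r * (C[P]).relIndex T := by
        have h := sum_indSet_coeff hM hB hD hcard hind hθ T hT hζ.isClassFunction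
        rw [show (fun k : C[P] => ζ k) = (fun k : C[P] => (φ : G → ℂ) k) from rfl] at h
        simp only [ha'] at h
        rw [hsc, ← Nat.cast_sum, ← Nat.cast_mul, Nat.cast_inj] at h
        rw [← hse, ← h]
        refine le_trans ?_ (Finset.sum_le_sum_of_subset (Finset.filter_subset (fun η => a η ≠ 0) U))
        rw [Finset.card_eq_sum_ones]
        exact Finset.sum_le_sum fun η hη => Nat.one_le_iff_ne_zero.2 (Finset.mem_filter.1 hη).2
      set z : P := ⟨z₀, hz₀⟩
      let ev : IrrCharacter C[P] → ℂ := fun η =>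
        (η : C[P] → ℂ) (inC hcard z) / (η : C[P] → ℂ) 1
      set T₀ := supp.image ev with hT₀
      have hevp : ∀ (η : IrrCharacter C[P]) (j : ℕ), (η : C[P] → ℂ) (inC hcard (z ^ j)) =
          ev η ^ j * (η : C[P] → ℂ) 1 := by
        intro η j
        induction j with
        | zero => rw [pow_zero, inC_one, pow_zero, one_mul]
        | succ l ih => rw [pow_succ', inC_mul, scalar_on_P hcard η z, ih, pow_succ']; ring
      have hzp : z ^ p = 1 := Subtype.ext (by
        rw [SubmonoidClass.coe_pow, show (z : G) = z₀ from rfl, ← hordz, pow_orderOf_eq_one]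
        rfl)
      have hTp : ∀ w ∈ T₀, w ^ p = 1 := fun w hw => by
        obtain ⟨η, -, rfl⟩ := Finset.mem_image.1 hw
        have h := hevp η p
        rw [hzp, inC_one] at h
        exact ((mul_eq_right₀ η.2.apply_one_ne_zero).1 h.symm)
      obtain ⟨bas, μ, hbas, hμ⟩ := exists_eigenbasis σ z₀
      have hμT : ∀ i, μ i ∈ T₀ := by
        intro i₀
        by_contra hmem
        set ω := μ i₀
        have hωp : ω ^ p = 1 := hordz ▸ hμ i₀
        have hω0 : ω ≠ 0 := fun h => by
          rw [h, zero_pow hpp.ne_zero] at hωp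
          exact zero_ne_one hωp
        have hchar : ∀ j : ℕ, ∑ i, μ i ^ j = ∑ η ∈ supp, (a η : ℂ) * (η : C[P] → ℂ) 1 * ev η ^ j := by
          intro j
          have h1 : σ.character (z₀ ^ j) = ∑ i, μ i ^ j := by
            refine trace_eq_sum_of_eigenbasis _ bas _ fun i => ?_
            induction j with
            | zero => simp
            | succ l ih => rw [pow_succ', map_mul, Module.End.mul_apply, ih, map_smul, hbas,
                smul_smul, ← pow_succ]
          have h2 : ζ (z₀ ^ j) = ζ ((inC hcard (z ^ j) : C[P]) : G) := by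
            rw [inC_coe, SubmonoidClass.coe_pow]
          rw [← h1, hσχ, h2, hexp, ← Finset.sum_subset (Finset.subset_univ supp) fun η _ hη => ?_]
          · exact Finset.sum_congr rfl fun η _ => by rw [hevp]; ring
          · have : a η = 0 := by
              by_cases hU' : η ∈ U
              · by_contra h0
                exact hη (Finset.mem_filter.2 ⟨hU', h0⟩)
              · exact hout η hU'
            rw [this, Nat.cast_zero, zero_mul]
        have hgeom : ∀ w : ℂ, w ^ p = 1 → ∑ j ∈ Finset.range p, (w / ω) ^ j =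
            if w = ω then (p : ℂ) else 0 := by
          intro w hw
          split_ifs with h
          · simp [h, div_self hω0]
          · rw [geom_sum_eq (fun e => h ((div_eq_one_iff_eq hω0).1 e)), div_pow, hw, hωp, div_one,
              sub_self, zero_div]
        have key : ∑ j ∈ Finset.range p, (∑ i, μ i ^ j) / ω ^ j =
            (p : ℂ) * ((Finset.univ.filter fun i => μ i = ω).card : ℂ) := by
          simp only [Finset.sum_div, ← div_pow]
          rw [Finset.sum_comm, Finset.sum_congr rfl fun i _ => hgeom (μ i) (hordz ▸ hμ i),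
            Finset.sum_ite, Finset.sum_const, Finset.sum_const_zero, add_zero, nsmul_eq_mul,
            mul_comm]
        simp only [hchar, Finset.sum_div, mul_div_assoc, ← div_pow] at key
        rw [Finset.sum_comm, Finset.sum_eq_zero fun η hη => by
          rw [← Finset.mul_sum, hgeom _ (hTp _ (Finset.mem_image_of_mem ev hη)),
            if_neg fun h => hmem (by rw [← h]; exact Finset.mem_image_of_mem ev hη), mul_zero], eq_comm,
          mul_eq_zero, Nat.cast_eq_zero, Nat.cast_eq_zero, Finset.card_eq_zero] at key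
        exact (Finset.eq_empty_iff_forall_notMem.1 (key.resolve_left hpp.ne_zero)) i₀
          (Finset.mem_filter.2 ⟨Finset.mem_univ _, rfl⟩)
      let e₀ := T₀.equivFin.symm
      let c : ℕ → ℂ := fun i => if h : i < T₀.card then ((e₀ ⟨i, h⟩ : T₀) : ℂ) else 1
      refine ⟨Finset.range T₀.card, c, ?_, fun i hi => ?_, ?_⟩
      · rw [Finset.card_range]
        have h1 : T₀.card ≤ d :=
          le_trans Finset.card_image_le (le_trans hcard_supp (le_of_eq_of_le (mul_comm _ _) her))
        have h2 : T₀.card ≤ (C[P]).relIndex T * r :=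
          le_trans Finset.card_image_le (le_trans hcard_supp (le_of_eq (mul_comm _ _)))
        obtain ⟨q, hq⟩ := hEdvd
        rcases q with _ | _ | q
        · omega
        · rw [zero_add, mul_one] at hq
          omega
        · have : (C[P]).relIndex T * r * 2 ≤ (C[P]).relIndex T * r * (q + 1 + 1) :=
            Nat.mul_le_mul_left _ (by omega)
          omega
      · rw [show c i = _ from dif_pos (Finset.mem_range.1 hi)]
        exact hTp _ (e₀ _).2
      · refine bas.ext fun i => ?_
        rw [Module.End.aeval_apply_of_hasEigenvector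
          (Module.End.hasEigenvector_iff.2 ⟨Module.End.mem_eigenspace_iff.2 (hbas i), bas.ne_zero i⟩),
          Polynomial.eval_prod, LinearMap.zero_apply]
        rw [Finset.prod_eq_zero (i := ((e₀.symm ⟨μ i, hμT i⟩ : Fin T₀.card) : ℕ))
          (Finset.mem_range.2 (Fin.is_lt _)) ?_, zero_smul]
        simp [c]
    obtain ⟨hiso, hsq, hd2⟩ := psl_of_complex (by omega) hfac hordz hnn' hζ hfaith hdeg hdp σ hσu
      hsmall
    refine ⟨hiso, ⟨z₀, hz₀, hordz, hsq⟩, ?_⟩
    -- the degree
    obtain ⟨h, hh⟩ := hpp.odd_of_ne_two (by omega)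
    have hidx : h ≤ (C[P]).relIndex (Subgroup.normalizer (P : Set G)) := by
      refine index_ge hcard hz₀ hz₀1 (fun i : Fin h => ((i : ℕ) + 1) * ((i : ℕ) + 1))
        (fun i j e => ?_) fun i => hsq _ fun hd => by
          have := Nat.le_of_dvd (by omega) hd; omega
      simp only [Nat.cast_mul] at e
      have hfac' : ((((i : ℕ) + 1 : ℕ) : ZMod p) - (((j : ℕ) + 1 : ℕ) : ZMod p)) *
          ((((i : ℕ) + 1 : ℕ) : ZMod p) + (((j : ℕ) + 1 : ℕ) : ZMod p)) = 0 := by
        linear_combination e
      rcases mul_eq_zero.1 hfac' with h' | h'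
      · have h'' := (ZMod.natCast_eq_natCast_iff' _ _ p).1 (sub_eq_zero.1 h')
        rw [Nat.mod_eq_of_lt (by omega), Nat.mod_eq_of_lt (by omega)] at h''
        exact Fin.ext (by omega)
      · rw [← Nat.cast_add, CharP.cast_eq_zero_iff (ZMod p) p] at h'
        have := Nat.le_of_dvd (by omega) h'
        omega
    rw [← htower] at hidx
    have hdre : d = t * ((C[P]).relIndex T * r) := by rw [← hrts, hse]; ring
    have ht1 : t = 1 := by
      by_contra hne
      have := Nat.mul_le_mul (show 2 ≤ t by omega) hidx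
      omega
    rw [ht1, one_mul] at hdre
    obtain ⟨q, hq⟩ := hEdvd
    rcases q with _ | _ | _ | q
    · omega
    · rw [zero_add, mul_one] at hq; omega
    · rw [← hdre] at hq; omega
    · have := Nat.mul_le_mul_left ((C[P]).relIndex T * r) (show 3 ≤ q + 1 + 1 + 1 by omega)
      omega
  · -- fixed points
    right
    subst ht1
    have hts : r * 1 * s = d := by rw [hr1, hsd]; omega
    have hroot1 : ∀ ξ ∈ b, dg ξ = 1 := fun ξ hξ => by
      have h := (root_apply_one hM hB hD hcard hind hξ hθ).trans ht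
      rw [hdg] at h
      exact_mod_cast h
    have hsupp : ∀ η, η ∉ b → a η = 0 := by
      intro η hη
      have h := Finset.sum_add_sum_compl b.toFinset fun η => a η * dg η
      rw [Finset.sum_congr rfl fun ξ hξ => by rw [hroot1 ξ (Set.mem_toFinset.1 hξ), mul_one],
        ← hs, hsd, ← hnexp, add_eq_left, Finset.sum_eq_zero_iff] at h
      have h1 := h η (Finset.mem_compl.2 fun h => hη (Set.mem_toFinset.1 h))
      exact (mul_eq_zero.1 h1).resolve_right fun h2 => (hdg0 η).ne' h2
    have hexpb : ∀ c : C[P], ζ c = ∑ η ∈ b.toFinset, (a η : ℂ) * (η : C[P] → ℂ) c := fun c => by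
      rw [hexp c]
      exact (Finset.sum_subset (Finset.subset_univ _) fun η _ hη => by
        rw [hsupp η (fun h => hη (Set.mem_toFinset.2 h)), Nat.cast_zero, zero_mul]).symm
    obtain ⟨l, hl⟩ := Char.exists_hom_of_degree_one θ.2.isCharacter (by
      rw [ht, Nat.cast_one])
    have hCeq : C[P] = P ⊔ Subgroup.center G := by
      refine le_antisymm (fun c hc => ?_)
        (sup_le (le_centralizer_self hcard) (Subgroup.center_le_centralizer _))
      have hpp' : ((pPt p (⟨c, hc⟩ : C[P]) : C[P]) : G) ∈ P := by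
        rw [coe_pPt]
        refine root_pPt_mem hM hB hD hcard hind hθ (k := (⟨c, hc⟩ : C[P])) ?_
        rw [hl]
        exact Units.ne_zero _
      have hreg : IsPRegular p (pReg p (⟨c, hc⟩ : C[P])) := not_dvd_orderOf_pReg _
      set v := pReg p (⟨c, hc⟩ : C[P]) with hv
      have hval : ζ v = (d : ℂ) * (θ : C[P] → ℂ) v := by
        rw [hexpb v, Finset.sum_congr rfl fun η hη => by
          rw [root_reg hM hB hD hcard hind (Set.mem_toFinset.1 hη) hθ hreg], ← Finset.sum_mul,
          ← Nat.cast_sum, ← hs, hsd]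
      have hnorm : ‖(θ : C[P] → ℂ) v‖ = 1 := by
        rw [hl]
        exact norm_hom l v
      have hcen := mem_center_of_norm_eq hζ hfaith hdeg (g := (v : G)) (by
        rw [hval, norm_mul, hnorm, mul_one, Complex.norm_natCast])
      have hdec : ((pPt p (⟨c, hc⟩ : C[P]) : C[P]) : G) * (v : G) = c := by
        rw [← Subgroup.coe_mul, hv, pPt_mul_pReg]
      exact hdec ▸ Subgroup.mul_mem_sup hpp' hcen
    obtain ⟨hS, hSP⟩ := exists_setting hcard hfac hnn hCeq
    subst hSP
    have hEc : (C[hS.P]).relIndex T = Nat.card hS.E := by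
      have hCN : C[hS.P] ≤ Subgroup.normalizer (hS.P : Set G) := Subgroup.centralizer_le_normalizer _
      have h1 := hS.card_normalizer
      have h2 : Nat.card (Subgroup.normalizer (hS.P : Set G)) =
          (C[hS.P]).relIndex (Subgroup.normalizer (hS.P : Set G)) * Nat.card C[hS.P] := by
        rw [Subgroup.relIndex, ← Nat.card_congr (Subgroup.subgroupOfEquivOfLe hCN).toEquiv, mul_comm,
          Subgroup.card_mul_index]
      have h3 := Nat.eq_of_mul_eq_mul_right Nat.card_pos (h2.symm.trans h1)
      rwa [← htower, hr1, mul_one] at h3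
    let lam : Subgroup.center G →* ℂˣ := l.comp
      { toFun := fun z => hS.inZ 1 z
        map_one' := Subtype.ext (mul_one 1)
        map_mul' := fun z w => Subtype.ext (by simp [Setting.inZ]) }
    have hlam : ∀ z : Subgroup.center G, (θ : C[hS.P] → ℂ) (hS.inZ 1 z) = (lam z : ℂ) := fun z => by
      rw [hl]; rfl
    obtain ⟨x, hxθ, hxinj, hxval⟩ := hS.root_exponents hM hB hD hind hθ hθP lam hlam
    obtain ⟨X, Y, δ, δ₀, -, hBXY, hdisj, -, -, -, -, hδ, hδ₀, -, -, -, -, hcX, -, hlast⟩ :=
      prime_structure hM hB hD hcard hind hθ hθP T hT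
    have hcardb : b.toFinset.card = p := by
      rw [Set.toFinset_card, ← Nat.card_eq_fintype_card, root_card hM hB hD hcard hind]
    set e := (C[hS.P]).relIndex T with he
    have he1 : 1 ≤ e := by rw [hEc]; exact Nat.card_pos
    have hsum_erase : ∑ ξ ∈ b.toFinset.erase θ, (a ξ : ℤ) = (p : ℤ) - 1 - e := by
      have h := Finset.add_sum_erase b.toFinset (fun ξ => (a ξ : ℤ)) (Set.mem_toFinset.2 hθ)
      rw [hsz, hsd, haθ] at h
      push_cast at h
      omega
    have hcarderase : (b.toFinset.erase θ).card = p - 1 := by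
      rw [Finset.card_erase_of_mem (Set.mem_toFinset.2 hθ), hcardb]
    have hφX : φ ∉ X := by
      intro hX
      have hall : ∀ ξ ∈ b.toFinset.erase θ, (a ξ : ℤ) = 1 + δ φ := by
        intro ξ hξ
        have h := hcX φ hX ξ (Set.mem_toFinset.1 (Finset.mem_of_mem_erase hξ))
          (Finset.ne_of_mem_erase hξ)
        rw [ha', ha', haθ] at h
        exact_mod_cast h
      rw [Finset.sum_congr rfl hall, Finset.sum_const, hcarderase, nsmul_eq_mul,
        Nat.cast_sub hpp.one_le] at hsum_erase
      rcases hδ φ hX with h | h <;> rw [h] at hsum_erase <;> push_cast at hsum_erase <;> omega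
    have hcases : ∀ ξ ∈ b.toFinset.erase θ, (a ξ : ℤ) = 1 ∨ (a ξ : ℤ) = 1 + δ₀ := by
      intro ξ hξ
      obtain ⟨ψ, hψ, heq⟩ := hlast ξ (Set.mem_toFinset.1 (Finset.mem_of_mem_erase hξ))
        (Finset.ne_of_mem_erase hξ)
      have h1 : classInner (indFun C[hS.P] ((ξ : C[hS.P] → ℂ) - (θ : C[hS.P] → ℂ))) ζ =
          (a ξ : ℂ) - 1 := by
        rw [Char.classInner_indFun C[hS.P] _ hζ.isCharacter.isClassFunction, Char.classInner_sub_left,
          ← Char.classInner_conj_symm, ← Char.classInner_conj_symm (φ := fun h : C[hS.P] => ζ h)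
            (ψ := (θ : C[hS.P] → ℂ)), ha', ha', haθ, Complex.conj_natCast, Complex.conj_natCast,
          Nat.cast_one]
      have h2 : classInner (indFun C[hS.P] ((ξ : C[hS.P] → ℂ) - (θ : C[hS.P] → ℂ))) ζ =
          (δ₀ : ℂ) * classInner (ψ : G → ℂ) ζ := by
        rw [show indFun C[hS.P] ((ξ : C[hS.P] → ℂ) - (θ : C[hS.P] → ℂ)) =
          (δ₀ : ℂ) • (ψ : G → ℂ) + ∑ χ ∈ X.toFinset, (δ χ : ℂ) • (χ : G → ℂ) from
          funext fun g => by
            simp [heq g, Finset.sum_apply, finsum_mem_eq_toFinset_sum]]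
        rw [Char.classInner_add_left, Char.classInner_smul_left, Char.classInner_sum_left,
          Finset.sum_eq_zero, add_zero]
        intro χ hχ
        rw [Char.classInner_smul_left, Char.classInner_irr_ne χ.2 hζ, mul_zero]
        exact fun h => hφX ((Subtype.ext h : χ = φ) ▸ Set.mem_toFinset.1 hχ)
      rw [h1, Char.classInner_irr ψ.2 hζ] at h2
      split_ifs at h2 with h
      · right
        have h3 : (a ξ : ℂ) = 1 + (δ₀ : ℂ) := by rw [mul_one] at h2; linear_combination h2
        exact_mod_cast h3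
      · left
        have h3 : (a ξ : ℂ) = 1 := by rw [mul_zero] at h2; linear_combination h2
        exact_mod_cast h3
    have hδneg : δ₀ = -1 := by
      rcases hδ₀ with h | h
      · exfalso
        have hge : ∑ ξ ∈ b.toFinset.erase θ, (1 : ℤ) ≤ ∑ ξ ∈ b.toFinset.erase θ, (a ξ : ℤ) :=
          Finset.sum_le_sum fun ξ hξ => by rcases hcases ξ hξ with e' | e' <;> rw [e'] <;> omega
        rw [hsum_erase, Finset.sum_const, hcarderase, nsmul_eq_mul, mul_one,
          Nat.cast_sub hpp.one_le] at hge
        push_cast at hge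
        omega
      · exact h
    set Z := (b.toFinset.erase θ).filter fun ξ => a ξ = 0 with hZ
    have haZ : ∀ ξ ∈ b.toFinset, (a ξ : ℂ) = 1 - (if ξ ∈ Z then 1 else 0) := by
      intro ξ hξ
      by_cases hne : ξ = θ
      · subst hne; simp [hZ, haθ]
      · have hmem : ξ ∈ b.toFinset.erase θ := Finset.mem_erase.2 ⟨hne, hξ⟩
        rcases hcases ξ hmem with h | h
        · have h' : a ξ = 1 := by exact_mod_cast h
          simp [hZ, h']
        · rw [hδneg] at h
          have h' : a ξ = 0 := by omega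
          simp [hZ, hmem, h']
    have hZb : Z ⊆ b.toFinset := fun ξ hξ => Finset.mem_of_mem_erase (Finset.mem_filter.1 hξ).1
    have hZe : Z.card = e := by
      have h : (s : ℂ) = (p : ℂ) - (Z.card : ℂ) := by
        rw [hs, Nat.cast_sum, Finset.sum_congr rfl haZ, Finset.sum_sub_distrib, Finset.sum_const,
          Finset.sum_ite_mem, Finset.inter_eq_right.2 hZb, Finset.sum_const, hcardb, nsmul_eq_mul,
          nsmul_eq_mul, mul_one, mul_one]
      rw [hsd] at h
      have h' : (Z.card : ℂ) = (e : ℂ) := by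
        have h'' : (d : ℂ) + e = p := by exact_mod_cast hde
        linear_combination h - h''
      exact_mod_cast h'
    have hxb : Set.InjOn x (b.toFinset : Set (IrrCharacter C[hS.P])) := by simpa using hxinj
    have hZinj : Set.InjOn x (Z : Set (IrrCharacter C[hS.P])) :=
      fun ξ hξ ξ' hξ' h => hxb (hZb hξ) (hZb hξ') h
    obtain ⟨F, hF⟩ := hS.exists_fam_of_set φ (Z.image x) (fun h0 => by
        obtain ⟨ξ, hξ, hx0⟩ := Finset.mem_image.1 h0
        rw [← hxθ] at hx0
        exact Finset.ne_of_mem_erase (Finset.mem_filter.1 hξ).1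
          (hxinj (Set.mem_toFinset.1 (hZb hξ)) hθ hx0))
      (by rw [Finset.card_image_of_injOn hZinj, hZe, hEc]) (δ := -1) (Or.inr rfl) lam
      fun y hy z => by
        have hy0 : hS.k y ≠ 0 := hS.k_ne hy
        have hall : ∑ ξ ∈ b.toFinset, ZMod.stdAddChar (x ξ * hS.k y) = 0 := by
          have himg : b.toFinset.image x = Finset.univ := by
            refine Finset.eq_univ_of_card _ ?_
            rw [Finset.card_image_of_injOn hxb, hcardb, ZMod.card]
          rw [← Finset.sum_image (f := fun w => ZMod.stdAddChar (w * hS.k y)) hxb, himg]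
          simp only [mul_comm _ (hS.k y)]
          rw [sum_std, if_neg hy0]
        show ζ ((hS.inZ y z : C[hS.P]) : G) = _
        rw [hexpb, Finset.sum_image hZinj, Finset.sum_congr rfl fun ξ hξ => by
          rw [haZ ξ hξ, hxval ξ (Set.mem_toFinset.1 hξ) y z, sub_mul, one_mul, ite_mul, one_mul,
            zero_mul], Finset.sum_sub_distrib, ← Finset.sum_mul, hall, zero_mul, Finset.sum_ite_mem,
          Finset.inter_eq_right.2 hZb, ← Finset.sum_mul]
        push_cast
        ring
    refine ⟨hS, lam, F, rfl, by rw [← hEc]; exact hde, ?_⟩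
    have h1 : (F.ψ 1 : G → ℂ) 1 = (φ : G → ℂ) 1 := hF 1 (by simp [hpp.ne_one])
    exact (charDegree_eq_of_apply_one (h1.trans hdeg))
  · -- a trivial action
    exfalso
    rw [hmd] at hm'
    obtain ⟨N, σ, hσ, hσχ⟩ := id hζ
    have hre : ∑ w : P, ((d : ℝ) - (ζ w).re) = 0 := by
      rw [Finset.sum_sub_distrib, ← Complex.re_sum, hm', Finset.sum_const, Finset.card_univ,
        ← Nat.card_eq_fintype_card, hcard, nsmul_eq_mul]
      simp
    have hbd : ∀ w : P, (ζ w).re ≤ d := fun w => by
      refine (Complex.re_le_norm _).trans ?_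
      have h := hζ.isCharacter.norm_le (w : G)
      rwa [hdeg, Complex.natCast_re] at h
    have h0 := (Finset.sum_eq_zero_iff_of_nonneg fun w _ => sub_nonneg.2 (hbd w)).1 hre
      ⟨z₀, hz₀⟩ (Finset.mem_univ _)
    have hle' : ‖ζ z₀‖ ≤ d := by
      have h := hζ.isCharacter.norm_le z₀
      rwa [hdeg, Complex.natCast_re] at h
    have hre' : (ζ z₀).re = d := by simp only at h0; linarith
    have hn : ‖ζ z₀‖ = d := le_antisymm hle' (hre' ▸ Complex.re_le_norm _)
    refine hz₀1 (hfaith z₀ ?_)
    rw [hdeg]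
    refine Complex.ext (by rw [hre', Complex.natCast_re]) ?_
    have h3 := Complex.sq_norm (ζ z₀)
    rw [hn, Complex.normSq_apply, hre'] at h3
    rw [Complex.natCast_im]
    nlinarith

end Cfsg.Lib.Feit
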