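import Cfsg.Agent.Lib.Feit.Core
import Cfsg.Agent.Lib.Feit.Structure
import Cfsg.Agent.Lib.Feit.AltRep

/-!
# Faithful characters of degree below `p - 1`

With two classes of elements of order `p` the central quotient is `PSL(2, p)`; with at least three
the degree is `p - 2` when the index of the centralizer in the normalizer is even, and that index is
one when the centre has odd order and the index is odd.
-/

set_option autoImplicit false
set_option linter.unusedSectionVars false
set_option linter.style.haveILetI false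
set_option maxHeartbeats 1000000

namespace Cfsg.Lib.Feit

open Cfsg Cfsg.Lib.Char
open scoped ComplexConjugate Classical

universe u

noncomputable local instance (priority := high) fintypeSubgroupFeitMain {A : Type u}
    [Group A] [Fintype A] (K : Subgroup A) : Fintype K := Fintype.ofFinite K

local notation "C[" P "]" => Subgroup.centralizer (SetLike.coe P)

variable {p : ℕ} [hp : Fact p.Prime] {G : Type u} [Group G] [Fintype G] (hS : Setting p G)

theorem Setting.relIndex_eq :
    (C[hS.P]).relIndex (Subgroup.normalizer (hS.P : Set G)) = Nat.card hS.E := by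
  have hCN : C[hS.P] ≤ Subgroup.normalizer (hS.P : Set G) := Subgroup.centralizer_le_normalizer _
  have h1 := hS.card_normalizer
  have h2 : Nat.card (Subgroup.normalizer (hS.P : Set G)) =
      (C[hS.P]).relIndex (Subgroup.normalizer (hS.P : Set G)) * Nat.card C[hS.P] := by
    rw [Subgroup.relIndex, ← Nat.card_congr (Subgroup.subgroupOfEquivOfLe hCN).toEquiv, mul_comm,
      Subgroup.card_mul_index]
  exact Nat.eq_of_mul_eq_mul_right Nat.card_pos (h2.symm.trans h1)

theorem Setting.exists_t : ∃ t, p = Nat.card hS.E * t + 1 ∧ 1 ≤ t := by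
  have h2 := Subgroup.card_subgroup_dvd_card hS.E
  rw [Nat.card_eq_fintype_card (α := (ZMod p)ˣ), ZMod.card_units] at h2
  obtain ⟨t, ht⟩ := h2
  have := hp.out.two_le
  refine ⟨t, by omega, ?_⟩
  rcases Nat.eq_zero_or_pos t with rfl | h
  · omega
  · exact h

theorem Setting.neg_one_mem (heven : Even (Nat.card hS.E)) : -1 ∈ hS.E := by
  obtain ⟨x, hx⟩ := exists_prime_orderOf_dvd_card' (G := hS.E) 2 (even_iff_two_dvd.1 heven)
  have h2 : x ^ 2 = 1 := hx ▸ pow_orderOf_eq_one x
  have h3 : ((x : (ZMod p)ˣ) : ZMod p) * ((x : (ZMod p)ˣ) : ZMod p) = 1 := by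
    rw [← Units.val_mul, ← Subgroup.coe_mul, ← pow_two, h2]
    rfl
  rcases mul_self_eq_one_iff.1 h3 with h | h
  · exfalso
    have : x = 1 := Subtype.ext (Units.ext h)
    rw [this, orderOf_one] at hx
    omega
  · have : (x : (ZMod p)ˣ) = -1 := Units.ext (by rw [h, Units.val_neg, Units.val_one])
    exact this ▸ x.2

/-- A faithful character of degree one makes the group abelian. -/
theorem degree_ne_one {G : Type u} [Group G] [Fintype G] {ζ : G → ℂ} (hζ : IsIrrCharacter G ζ)
    (hfaith : ∀ g : G, ζ g = ζ 1 → g = 1) {P : Subgroup G} (hnn : ¬ P.Normal) : ζ 1 ≠ 1 := by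
  intro h1
  obtain ⟨l, hl⟩ := exists_hom_of_degree_one hζ.isCharacter h1
  refine hnn ⟨fun y hy g => ?_⟩
  have e : g * y * g⁻¹ * y⁻¹ = 1 := hfaith _ (by simp [hl])
  rw [mul_inv_eq_one] at e
  rwa [e]

variable {ζ : G → ℂ} (hζ : IsIrrCharacter G ζ) (hfaith : ∀ g : G, ζ g = ζ 1 → g = 1) {d : ℕ}
  (hdeg : ζ 1 = (d : ℂ)) (hdp : d + 1 < p) (hnn : ¬ hS.P.Normal) {t : ℕ}
  (ht : p = Nat.card hS.E * t + 1)

include hζ hfaith hdeg hdp hnn ht in
/-- With two classes the central quotient is `PSL(2, p)`. -/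
theorem Setting.psl_of_two (hp11 : 11 ≤ p) (h2 : t = 2) (hde : d + Nat.card hS.E = p) :
    Nonempty ((G ⧸ Subgroup.center G) ≃* Matrix.ProjectiveSpecialLinearGroup (Fin 2) (ZMod p)) ∧
      2 * d = p + 1 := by
  subst h2
  have h2d : 2 * d = p + 1 := by omega
  refine ⟨?_, h2d⟩
  obtain ⟨⟨z, hz⟩, hzo⟩ := exists_prime_orderOf_dvd_card' (G := hS.P) p (by rw [hS.card])
  rw [Subgroup.orderOf_mk] at hzo
  have hz1 : z ≠ 1 := fun h => by rw [h, orderOf_one] at hzo; exact hp.out.ne_one hzo.symm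
  have hzP : Subgroup.zpowers z = hS.P := Cfsg.Lib.Block.zpowers_eq_of_mem hS.card hz hz1
  obtain ⟨N, σ, hσ, hσχ⟩ := id hζ
  have hN : N = d := by
    rw [← hσχ, Representation.char_one, Module.finrank_fin_fun] at hdeg
    exact_mod_cast hdeg
  subst hN
  have hσinj : Function.Injective σ := fun a b h => by
    have h1 : σ (a⁻¹ * b) = 1 := by
      rw [map_mul σ, ← h, ← map_mul σ, inv_mul_cancel, map_one σ]
    refine (inv_mul_eq_one.1 (hfaith _ ?_))
    rw [← hσχ]
    show LinearMap.trace ℂ _ (σ (a⁻¹ * b)) = LinearMap.trace ℂ _ (σ 1)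
    rw [h1, map_one σ]
  obtain ⟨k, _, _, _, ρ, hker, -⟩ := exists_modp_rep (p := p) σ hσinj
  have hρ : ρ z ≠ 1 := by
    intro h1
    refine hnn ?_
    have hK : IsPGroup p ρ.ker := fun x => by
      obtain ⟨j, hj⟩ := hker x x.2
      exact ⟨j, Subtype.ext hj⟩
    obtain ⟨m, hm⟩ := IsPGroup.iff_card.1 hK
    have hm1 : m ≤ 1 := by
      by_contra hlt
      refine not_sq_dvd hS.fac ((pow_dvd_pow p (by omega : 2 ≤ m)).trans ?_)
      rw [← hm]
      exact Subgroup.card_subgroup_dvd_card _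
    have hP : hS.P = ρ.ker := by
      refine Subgroup.eq_of_le_of_card_ge (hzP ▸ Subgroup.zpowers_le.2 (MonoidHom.mem_ker.2 h1)) ?_
      rw [hm, hS.card]
      exact (Nat.pow_le_pow_right hp.out.pos hm1).trans_eq (pow_one p)
    rw [hP]
    exact MonoidHom.normal_ker ρ
  exact (psl_of_half hp11 hS.fac hzo (hzP ▸ hnn) hζ hfaith hdeg hdp ρ hρ h2d
    (Module.finrank_fin_fun k)).1

include hζ hfaith hdeg hdp hnn ht in
/-- With at least three classes no family has degree `δ e`. -/
theorem Setting.family_degree_ne (h7 : 7 < p) (h3 : 3 ≤ t) {δ : ℤ}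
    {lam : Subgroup.center G →* ℂˣ} (F : Fam hS δ lam) :
    (charDegree (F.ψ 1 : G → ℂ) : ℤ) ≠ δ * Nat.card hS.E := by
  intro hbad
  have he : 0 < Nat.card hS.E := Nat.card_pos
  have hδ : δ = 1 := by
    rcases F.sign with h | h
    · exact h
    · subst h; omega
  subst hδ
  have hN : charDegree (F.ψ 1 : G → ℂ) = Nat.card hS.E := by omega
  obtain ⟨N, σ, hσ, hσχ⟩ := id (F.ψ 1).2
  have hNe : N = Nat.card hS.E := by
    have h := F.apply_one 1
    rw [hN, ← hσχ, Representation.char_one, Module.finrank_fin_fun] at h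
    exact_mod_cast h
  obtain ⟨y, hy, hσy⟩ : ∃ y : hS.P, y ≠ 1 ∧ σ y ≠ 1 := by
    by_contra hc
    push Not at hc
    have h := F.sum_val 1
    rw [Finset.sum_congr rfl (g := fun _ => (N : ℂ)) fun y hy => ?_, Finset.sum_const,
      Finset.card_erase_of_mem (Finset.mem_univ _), Finset.card_univ, ← Nat.card_eq_fintype_card,
      hS.card, nsmul_eq_mul, hNe] at h
    · have h' : ((p - 1 : ℕ) : ℂ) * (Nat.card hS.E : ℂ) + (Nat.card hS.E : ℂ) = 0 := by
        rw [h]; push_cast; ring
      have h'' : (p - 1) * Nat.card hS.E + Nat.card hS.E = 0 := by exact_mod_cast h'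
      omega
    · rw [← hσχ]
      show LinearMap.trace ℂ _ (σ y) = _
      rw [hc y (Finset.ne_of_mem_erase hy)]
      simp
  have hy1 : (y : G) ≠ 1 := fun h => hy (Subtype.ext h)
  have h3e : Nat.card hS.E * 3 ≤ Nat.card hS.E * t := Nat.mul_le_mul_left _ h3
  obtain ⟨-, hsq, -⟩ := psl_of_complex (by omega) hS.fac (hS.orderOf_mem y.2 hy1)
    (by rw [Cfsg.Lib.Block.zpowers_eq_of_mem hS.card y.2 hy1]; exact hnn) hζ hfaith hdeg hdp σ hσy
    (Or.inl (by omega))
  obtain ⟨h, hh⟩ := hp.out.odd_of_ne_two (by omega)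
  have hidx : h ≤ (C[hS.P]).relIndex (Subgroup.normalizer (hS.P : Set G)) := by
    refine index_ge hS.card y.2 hy1 (fun i : Fin h => ((i : ℕ) + 1) * ((i : ℕ) + 1))
      (fun i j e => ?_) fun i => hsq _ fun hd => by
        have := Nat.le_of_dvd (by omega) hd; omega
    simp only [Nat.cast_mul] at e
    have hfac' : ((((i : ℕ) + 1 : ℕ) : ZMod p) - (((j : ℕ) + 1 : ℕ) : ZMod p)) *
        ((((i : ℕ) + 1 : ℕ) : ZMod p) + (((j : ℕ) + 1 : ℕ) : ZMod p)) = 0 := by
      linear_combination e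
    rcases mul_eq_zero.1 hfac' with h' | h'
    · have h'' := (ZMod.natCast_eq_natCast_iff' _ _ p).1 (sub_eq_zero.1 h')
      rw [Nat.mod_eq_of_lt (by omega), Nat.mod_eq_of_lt (by omega)] at h''
      exact Fin.ext (by omega)
    · rw [← Nat.cast_add, CharP.cast_eq_zero_iff (ZMod p) p] at h'
      have := Nat.le_of_dvd (by omega) h'
      omega
  rw [hS.relIndex_eq] at hidx
  omega

variable {lam : Subgroup.center G →* ℂˣ} (L : Fam hS (-1) lam)
  (hL : charDegree (L.ψ 1 : G → ℂ) + Nat.card hS.E = p)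

include hζ hfaith hdeg hdp hnn ht L hL in
/-- An even index is two. -/
theorem Setting.card_E_even (h7 : 7 < p) (h3 : 3 ≤ t) (heven : Even (Nat.card hS.E)) :
    Nat.card hS.E = 2 := by
  obtain ⟨δ, ⟨F⟩⟩ := hS.exists_family (lam * lam)
  exact L.card_E_eq_two ht (by omega) h3 hL (hS.neg_one_mem heven) F
    (hS.family_degree_ne hζ hfaith hdeg hdp hnn ht h7 h3 F)

include hζ hfaith hdeg hdp hnn ht L hL in
/-- An odd index is one when the centre has odd order. -/
theorem Setting.card_E_odd (h7 : 7 < p) (h3 : 3 ≤ t) (hodd : Odd (Nat.card hS.E))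
    (hZ : Odd (Nat.card (Subgroup.center G))) : Nat.card hS.E = 1 := by
  by_contra hne
  obtain ⟨F2, -⟩ := L.exists_square hZ
  obtain ⟨δ, ⟨F1⟩⟩ := hS.exists_family 1
  have he : 0 < Nat.card hS.E := Nat.card_pos
  exact L.odd_false ht (by omega) h3 hL hodd (by omega) F2 F1
    (hS.family_degree_ne hζ hfaith hdeg hdp hnn ht h7 h3 F1)

end Cfsg.Lib.Feit
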