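import Cfsg.Agent.Lib.Feit.Main

/-!
# The odd order with a positive sign over the squared central character

The weights of the symmetric and exterior squares bound the multiplicities in such a family: their
row total is at most `t - 3`.
-/

set_option autoImplicit false
set_option linter.unusedSectionVars false
set_option linter.style.haveILetI false
set_option maxHeartbeats 1000000

namespace Cfsg.Lib.Feit

open Cfsg Cfsg.Lib.Char
open scoped ComplexConjugate Classical

universe u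

noncomputable local instance (priority := high) fintypeSubgroupFeitOddPlus {A : Type u}
    [Group A] [Fintype A] (K : Subgroup A) : Fintype K := Fintype.ofFinite K

variable {p : ℕ} [hp : Fact p.Prime]

theorem neg_one_not_mem {E : Subgroup (ZMod p)ˣ} (hp2 : p ≠ 2)
    (heo : Odd (Nat.card E)) : -1 ∉ E := by
  intro h
  have h2 : orderOf (⟨-1, h⟩ : E) = 2 := by
    refine orderOf_eq_prime (Subtype.ext (by simp)) fun h1 => ?_
    have h' : (-1 : ZMod p) = 1 := by
      have := congrArg (fun x : E => ((x : (ZMod p)ˣ) : ZMod p)) h1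
      simpa using this
    have hc : ((2 : ℕ) : ZMod p) = 0 := by push_cast; linear_combination -h'
    rw [ZMod.natCast_eq_zero_iff] at hc
    exact hp2 ((Nat.prime_dvd_prime_iff_eq Fact.out Nat.prime_two).1 hc)
  exact (Nat.not_even_iff_odd.2 heo) (even_iff_two_dvd.2 (h2 ▸ orderOf_dvd_natCard _))

theorem opp_self_zero {E : Subgroup (ZMod p)ˣ} (hp2 : p ≠ 2) (heo : Odd (Nat.card E))
    (a : (ZMod p)ˣ) : opp E a a = 0 := by
  refine if_neg ?_
  rintro ⟨x, hx⟩
  refine neg_one_not_mem hp2 heo ?_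
  have h : (x : (ZMod p)ˣ) = -1 := Units.ext (mul_left_cancel₀ a.ne_zero (by
    rw [Units.val_neg, Units.val_one, show ((x : (ZMod p)ˣ) : ZMod p) = val₀ E x from rfl]
    linear_combination hx))
  exact h ▸ x.2

variable {G : Type u} [Group G] [Fintype G] {hS : Setting p G}
  {lam1 : Subgroup.center G →* ℂˣ} (L1 : Fam hS (-1) lam1) {t : ℕ}
  (ht : p = Nat.card hS.E * t + 1)

include ht in
/-- The weights of the symmetric and exterior squares for an odd order. -/
theorem Fam.weight_square_odd (hp2 : p ≠ 2) (heo : Odd (Nat.card hS.E))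
    (hd1 : charDegree (L1.ψ 1 : G → ℂ) + Nat.card hS.E = p) {μ1 : hS.H →* ℂˣ}
    (hμ1 : ∀ z : Subgroup.center G, μ1 ⟨z, hS.center_le z.2⟩ = lam1 z)
    (h1 : ∀ u (h : hS.H), hS.r h ≠ 1 → (L1.ψ u : G → ℂ) h = (μ1 h : ℂ))
    (q : ℤ) (ν : hS.H →* ℂˣ)
    (hν : ∀ z : Subgroup.center G, ν ⟨z, hS.center_le z.2⟩ = (lam1 * lam1) z) :
    classInner (hS.fixPart fun g => ((L1.ψ 1 : G → ℂ) g * (L1.ψ 1 : G → ℂ) g +
        (q : ℂ) * (L1.ψ 1 : G → ℂ) (g * g)) / 2) (fun h => (ν h : ℂ)) =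
      (1 + (q : ℂ)) / 2 * (if ν = μ1 * μ1 then 1 else 0) + ((t : ℂ) - 2) / 2 := by
  have hp : (p : ℂ) ≠ 0 := Nat.cast_ne_zero.2 (Fact.out : p.Prime).ne_zero
  have he : (Nat.card hS.E : ℂ) ≠ 0 := Nat.cast_ne_zero.2 Nat.card_pos.ne'
  have hm : (Nat.card (Subgroup.center G) : ℂ) ≠ 0 := Nat.cast_ne_zero.2 Nat.card_pos.ne'
  set f : G → ℂ := fun g => ((L1.ψ 1 : G → ℂ) g * (L1.ψ 1 : G → ℂ) g +
    (q : ℂ) * (L1.ψ 1 : G → ℂ) (g * g)) / 2 with hf
  have hcl : IsClassFunction G f := fun g h => by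
    simp only [hf]
    rw [show h * g * h⁻¹ * (h * g * h⁻¹) = h * (g * g) * h⁻¹ by group,
      (L1.ψ 1).2.isClassFunction g h, (L1.ψ 1).2.isClassFunction (g * g) h]
  have hcz : ∀ (z : Subgroup.center G) (g : G),
      f ((z : G) * g) = ((lam1 * lam1) z : ℂ) * f g := fun z g => by
    simp only [hf]
    rw [show (z : G) * g * ((z : G) * g) = ((z * z : Subgroup.center G) : G) * (g * g) by
      rw [Subgroup.coe_mul]
      calc (z : G) * g * ((z : G) * g) = (z : G) * (g * (z : G)) * g := by group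
        _ = (z : G) * ((z : G) * g) * g := by rw [Subgroup.mem_center_iff.1 z.2 g]
        _ = (z : G) * (z : G) * (g * g) := by group,
      L1.central, L1.central, map_mul, MonoidHom.mul_apply, Units.val_mul]
    ring
  have e1 : (charDegree (L1.ψ 1 : G → ℂ) : ℂ) = p - Nat.card hS.E := by
    rw [eq_sub_iff_add_eq]; exact_mod_cast hd1
  have e3 : (p : ℂ) = Nat.card hS.E * t + 1 := by exact_mod_cast ht
  have eH : (Nat.card hS.H : ℂ) = Nat.card hS.E * Nat.card (Subgroup.center G) := by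
    exact_mod_cast hS.card_E.symm
  have h2 : (2 : ZMod p) ≠ 0 := by
    intro h
    rw [show (2 : ZMod p) = ((2 : ℕ) : ZMod p) by norm_num, ZMod.natCast_eq_zero_iff] at h
    exact hp2 ((Nat.prime_dvd_prime_iff_eq Fact.out Nat.prime_two).1 h)
  -- the value at one
  have hone : hS.fixPart f 1 = ((p : ℂ) - 2 * Nat.card hS.E + q) / 2 := by
    have hval : ∀ y ∈ Finset.univ.erase (1 : hS.P), f y =
        (eta hS.E (1 : (ZMod p)ˣ) (hS.k y) * eta hS.E (1 : (ZMod p)ˣ) (hS.k y) -
          (q : ℂ) * eta hS.E (1 : (ZMod p)ˣ) (2 * hS.k y)) / 2 := fun y hy => by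
      have hy := Finset.ne_of_mem_erase hy
      have hy2 : y * y ≠ 1 := fun h => by
        have h' := hS.k_add y y
        rw [h, hS.k_one, ← two_mul, eq_comm, mul_eq_zero] at h'
        exact h'.elim h2 (hS.k_ne hy)
      simp only [hf]
      rw [← Subgroup.coe_mul, L1.val_P _ hy, L1.val_P _ hy2, hS.k_add, ← two_mul]
      push_cast
      ring
    have hs : ∑ x ∈ Finset.univ.erase (0 : ZMod p),
        eta hS.E (1 : (ZMod p)ˣ) (2 * x) = -(Nat.card hS.E : ℂ) := by
      simp only [eta_mul_arg, Units.val_one, one_mul]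
      exact sum_eta hS.E (Units.mk0 2 h2)
    rw [hS.fixPart_one, Finset.sum_congr rfl hval,
      hS.sum_P_erase (fun x => (eta hS.E (1 : (ZMod p)ˣ) x * eta hS.E (1 : (ZMod p)ˣ) x -
        (q : ℂ) * eta hS.E (1 : (ZMod p)ˣ) (2 * x)) / 2),
      ← Finset.sum_div, Finset.sum_sub_distrib, ← Finset.mul_sum, sum_eta_mul, hs,
      opp_self_zero hp2 heo]
    simp only [hf, mul_one, L1.apply_one, e1, Nat.cast_zero, mul_zero, zero_sub]
    field_simp
    ring
  -- the values outside the centre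
  have hval : ∀ h : hS.H, hS.r h ≠ 1 → f h * conj (ν h : ℂ) =
      (1 + (q : ℂ)) / 2 * ((μ1 h : ℂ) * μ1 h * conj (ν h : ℂ)) := fun h hh => by
    simp only [hf]
    have hh2 : hS.r (h * h) ≠ 1 := fun e => by
      have e' := congrArg Units.val e
      rw [map_mul, Units.val_mul, Units.val_one, mul_self_eq_one_iff] at e'
      rcases e' with e' | e'
      · exact hh (Units.ext e')
      · refine neg_one_not_mem hp2 heo ⟨h, Units.ext ?_⟩
        rw [e', Units.val_neg, Units.val_one]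
    rw [h1 1 h hh, ← Subgroup.coe_mul, h1 1 (h * h) hh2, map_mul, Units.val_mul]
    ring
  have hsum := hS.sum_linear (μ1 * μ1) ν fun z => by
    rw [MonoidHom.mul_apply, hμ1, hν, MonoidHom.mul_apply]
  simp only [MonoidHom.mul_apply, Units.val_mul] at hsum
  rw [hS.classInner_fixPart hcl hcz ν hν, hone,
    Finset.sum_congr rfl fun h hh => hval h (Finset.mem_filter.1 hh).2,
    ← Finset.mul_sum, hsum, eH]
  field_simp
  linear_combination e3

include ht in
/-- The row total of a family with positive sign is at most `t - 3`. -/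
theorem Fam.odd_plus_bound (hp2 : p ≠ 2) (h3 : 3 ≤ t) (heo : Odd (Nat.card hS.E))
    (hd : charDegree (L1.ψ 1 : G → ℂ) + Nat.card hS.E = p) (F3 : Fam hS 1 (lam1 * lam1))
    (hw : (charDegree (F3.ψ 1 : G → ℂ) : ℤ) ≠ 1 * Nat.card hS.E) :
    ∃ A : ℤ, (∀ u : (ZMod p)ˣ, classInner (L1.prod L1 1 1) (F3.ψ u : G → ℂ) =
        ((A + cnt hS.E 1 1 u : ℤ) : ℂ)) ∧
      (∀ b u : (ZMod p)ˣ, 0 ≤ A + cnt hS.E 1 b u) ∧
      0 ≤ (t : ℤ) * A + Nat.card hS.E ∧ (t : ℤ) * A + Nat.card hS.E ≤ t - 3 := by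
  obtain ⟨μ, hμ, h1⟩ := exists_mu L1 hd
  obtain ⟨A, hA⟩ := L1.mult_prod L1 F3
  obtain ⟨B, hB⟩ := L1.mult_square F3 hp2
  obtain ⟨ν, n, hn0, hn, hν⟩ := F3.exists_weight hw
  have hn1 : (1 : ℤ) ≤ n := by exact_mod_cast Nat.pos_of_ne_zero hn0
  set e := Nat.card hS.E with he
  have he0 : (0 : ℤ) < e := by exact_mod_cast Nat.card_pos
  obtain ⟨a, hte⟩ : Even t := by
    have : Even (e * t) := by
      obtain ⟨c, hc⟩ := (Fact.out : p.Prime).odd_of_ne_two hp2
      exact ⟨c, by omega⟩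
    exact (Nat.even_mul.1 this).resolve_left (Nat.not_even_iff_odd.2 heo)
  have h11 : opp hS.E 1 1 = 0 := opp_self_zero hp2 heo 1
  set M := (t : ℤ) * A + e with hM
  have hiota : ∑ u : (ZMod p)ˣ, (iota hS.E 1 u : ℤ) = e := by
    exact_mod_cast sum_iota hS.E hp2 1
  have hrow : ∑ u : (ZMod p)ˣ, (A + cnt hS.E 1 1 u : ℤ) = e * M := by
    have h := row_total hS.E ht A 1 1
    simp only [one_mul, h11, Nat.cast_zero, sub_zero] at h
    exact h
  -- the bound for each square
  have key : ∀ (q : ℤ) (w : ℤ), q = 1 ∨ q = -1 → 0 ≤ w →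
      (1 + (q : ℂ)) / 2 * (if ν = μ * μ then 1 else 0) = (w : ℂ) →
      0 ≤ M + q * (t * B - 1) ∧ M + q * (t * B - 1) ≤ (t : ℤ) - 2 + 2 * w := by
    intro q w hq hw0 hwq
    have hf : IsCharacter G (fun g => ((L1.ψ 1 : G → ℂ) g * (L1.ψ 1 : G → ℂ) g +
        (q : ℂ) * (L1.ψ 1 : G → ℂ) (g * g)) / 2) := by
      rcases hq with rfl | rfl
      · simpa using isCharacter_symSquare (L1.ψ 1).2.isCharacter
      · simpa [← sub_eq_add_neg] using isCharacter_altSquare (L1.ψ 1).2.isCharacter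
    choose m hm using fun u : (ZMod p)ˣ => hf.exists_nat_classInner (F3.ψ u).2.isCharacter
    have hW := L1.weight_square_odd ht hp2 heo hd hμ h1 q ν hν
    rw [hwq, show (w : ℂ) + ((t : ℂ) - 2) / 2 = ((w + ((a : ℤ) - 1) : ℤ) : ℂ) by
      rw [hte]; push_cast; ring] at hW
    have h := F3.row_le hf (m := fun u => (m u : ℤ)) (fun u => by rw [hm u, Int.cast_natCast]) hn
      hW ∅ (by simp) (by simp)
    rw [Finset.card_empty, Nat.cast_zero, sub_zero] at h
    have hsum : 2 * ∑ u, (m u : ℤ) = e * (M + q * (t * B - 1)) := by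
      have hu : ∀ u, (2 * (m u : ℤ)) = (A + cnt hS.E 1 1 u) + q * (B - iota hS.E 1 u) := fun u => by
        have e1 : classInner (fun g => ((L1.ψ 1 : G → ℂ) g * (L1.ψ 1 : G → ℂ) g +
            (q : ℂ) * (L1.ψ 1 : G → ℂ) (g * g)) / 2) (F3.ψ u : G → ℂ) =
            (2 : ℂ)⁻¹ * classInner (L1.prod L1 1 1) (F3.ψ u : G → ℂ) + (q : ℂ) / 2 *
              classInner (fun g : G => (L1.ψ 1 : G → ℂ) (g * g)) (F3.ψ u : G → ℂ) := by
          rw [← classInner_smul_left, ← classInner_smul_left, ← classInner_add_left]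
          congr 1
          funext g
          simp only [Pi.add_apply, Pi.smul_apply, smul_eq_mul, Fam.prod]
          ring
        rw [hm u, (hA 1 1 u).1, hB u] at e1
        have : ((2 * (m u : ℤ) : ℤ) : ℂ) =
            (((A + cnt hS.E 1 1 u) + q * (B - iota hS.E 1 u) : ℤ) : ℂ) := by
          push_cast at e1 ⊢
          linear_combination 2 * e1
        exact_mod_cast this
      rw [Finset.mul_sum, Finset.sum_congr rfl fun u _ => hu u, Finset.sum_add_distrib,
        hrow, ← Finset.mul_sum, Finset.sum_sub_distrib, Finset.sum_const, Finset.card_univ,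
        nsmul_eq_mul, card_units_eq hS.E ht, hiota]
      ring
    have hs0 : 0 ≤ ∑ u, (m u : ℤ) := Finset.sum_nonneg fun u _ => Int.natCast_nonneg _
    have hle : ∑ u, (m u : ℤ) ≤ e * (w + ((a : ℤ) - 1)) :=
      le_trans (le_mul_of_one_le_left hs0 hn1) h
    constructor
    · exact nonneg_of_mul_nonneg_right (hsum ▸ mul_nonneg zero_le_two hs0) he0
    · refine le_of_mul_le_mul_left (a := (e : ℤ)) ?_ he0
      rw [← hsum, show (t : ℤ) = a + a by exact_mod_cast hte]
      nlinarith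
  have hK : ∀ b u : (ZMod p)ˣ, 0 ≤ A + cnt hS.E 1 b u := fun b u => by simpa using (hA 1 b u).2
  have hM0 : 0 ≤ M := by
    have h := Finset.sum_nonneg fun u (_ : u ∈ Finset.univ) => hK 1 u
    rw [hrow] at h
    exact nonneg_of_mul_nonneg_right h he0
  refine ⟨A, fun u => by simpa using (hA 1 1 u).1, hK, hM0, ?_⟩
  obtain ⟨ha0, ha1⟩ := key (-1) 0 (Or.inr rfl) le_rfl (by push_cast; ring)
  obtain ⟨hs0', hs1'⟩ : 0 ≤ M + 1 * (t * B - 1) ∧ M + 1 * (t * B - 1) ≤ (t : ℤ) - 2 + 2 * 1 := by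
    by_cases hνμ : ν = μ * μ
    · exact key 1 1 (Or.inl rfl) zero_le_one (by rw [if_pos hνμ]; push_cast; ring)
    · have := key 1 0 (Or.inl rfl) le_rfl (by rw [if_neg hνμ]; push_cast; ring)
      exact ⟨this.1, by linarith [this.2]⟩
  rw [one_mul] at hs0' hs1'
  have h3' : (3 : ℤ) ≤ t := by exact_mod_cast h3
  have hB0 : B = 0 := by
    rcases lt_trichotomy B 0 with hB | hB | hB
    · nlinarith
    · exact hB
    · have : (t : ℤ) ≤ t * B := le_mul_of_one_le_right (Int.natCast_nonneg t) hB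
      linarith
  subst hB0
  linarith

end Cfsg.Lib.Feit
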