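import Cfsg.Agent.Lib.Feit.Arith
import Cfsg.Agent.Lib.Feit.Family
import Cfsg.Agent.Lib.Char.SymSquare

/-!
# Products of exceptional characters of degree `p - e`

The multiplicities of a family in a product of two exceptional characters are read off the counts,
and the multiplicities in the fixed points of the Sylow subgroup bound their totals.
-/

set_option autoImplicit false
set_option linter.unusedSectionVars false
set_option linter.style.haveILetI false
set_option maxHeartbeats 1000000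

namespace Cfsg.Lib.Feit

open Cfsg Cfsg.Lib.Char
open scoped ComplexConjugate Classical

universe u

noncomputable local instance (priority := high) fintypeSubgroupFeitProducts {A : Type u}
    [Group A] [Fintype A] (K : Subgroup A) : Fintype K := Fintype.ofFinite K

variable {p : ℕ} [Fact p.Prime] {G : Type u} [Group G] [Fintype G] {hS : Setting p G}

/-! ## Multiplicities against weights -/

theorem Setting.fixPart_sum {ι : Type*} (s : Finset ι) (c : ι → ℂ) (f : ι → G → ℂ) :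
    hS.fixPart (∑ i ∈ s, c i • f i) = ∑ i ∈ s, c i • hS.fixPart (f i) := by
  funext h
  simp only [Setting.fixPart, Finset.sum_apply, Pi.smul_apply, smul_eq_mul, Finset.mul_sum]
  rw [Finset.sum_comm]
  exact Finset.sum_congr rfl fun i _ => Finset.sum_congr rfl fun y _ => by ring

/-- A weighted total of multiplicities is at most the weight of a character. -/
theorem Setting.fix_le {f : G → ℂ} (hf : IsCharacter G f) (ν : hS.H →* ℂˣ) {W : ℕ}
    (hW : classInner (hS.fixPart f) (fun h => (ν h : ℂ)) = (W : ℂ))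
    (s : Finset (IrrCharacter G)) (m w : IrrCharacter G → ℕ)
    (hm : ∀ χ ∈ s, classInner f (χ : G → ℂ) = (m χ : ℂ))
    (hw : ∀ χ ∈ s, classInner (hS.fixPart (χ : G → ℂ)) (fun h => (ν h : ℂ)) = (w χ : ℂ)) :
    ∑ χ ∈ s, m χ * w χ ≤ W := by
  choose M hM using fun χ : IrrCharacter G => hf.exists_nat_classInner χ.2.isCharacter
  choose V hV using fun χ : IrrCharacter G =>
    hS.exists_nat_fix χ.2.isCharacter ⟨_, isIrrCharacter_linear ν⟩
  have e : (W : ℂ) = ∑ χ : IrrCharacter G, ((M χ * V χ : ℕ) : ℂ) := by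
    rw [← hW]
    conv_lhs => rw [eq_sum_classInner hf.isClassFunction, hS.fixPart_sum, classInner_sum_left]
    refine Finset.sum_congr rfl fun χ _ => ?_
    rw [classInner_smul_left, hM, hV χ, Nat.cast_mul]
  rw [← Nat.cast_sum, Nat.cast_inj] at e
  rw [e]
  refine le_trans (le_of_eq (Finset.sum_congr rfl fun χ hχ => ?_))
    (Finset.sum_le_univ_sum_of_nonneg (s := s) fun χ => Nat.zero_le _)
  have e1 : (m χ : ℂ) = M χ := (hm χ hχ).symm.trans (hM χ)
  have e2 : (w χ : ℂ) = V χ := (hw χ hχ).symm.trans (hV χ)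
  rw [Nat.cast_inj] at e1 e2
  rw [e1, e2]

variable {δ : ℤ} {lam : Subgroup.center G →* ℂˣ} (F : Fam hS δ lam)

/-- Every member of a family occurs once for each element of `E`. -/
theorem Fam.sum_image (g : IrrCharacter G → ℕ) :
    ∑ u : (ZMod p)ˣ, g (F.ψ u) =
      Nat.card hS.E * ∑ χ ∈ Finset.univ.image F.ψ, g χ := by
  rw [Finset.sum_comp, Finset.mul_sum]
  refine Finset.sum_congr rfl fun χ hχ => ?_
  obtain ⟨u, -, rfl⟩ := Finset.mem_image.1 hχ
  rw [smul_eq_mul, Nat.card_eq_fintype_card, ← Finset.card_univ (α := hS.E)]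
  congr 1
  symm
  refine Finset.card_bij (fun x _ => u * (x : (ZMod p)ˣ)) (fun x _ => ?_)
    (fun x _ y _ h => Subtype.ext (mul_left_cancel h)) fun v hv => ?_
  · exact Finset.mem_filter.2 ⟨Finset.mem_univ _, ((F.ext_iff' u _).2 ⟨x, rfl⟩).symm⟩
  · obtain ⟨x, hx⟩ := (F.ext_iff' u v).1 (Finset.mem_filter.1 hv).2.symm
    exact ⟨x, Finset.mem_univ _, Units.ext hx⟩

/-- The weights of a family bound the total of its multiplicities. -/
theorem Fam.row_le {f : G → ℂ} (hf : IsCharacter G f) {m : (ZMod p)ˣ → ℤ}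
    (hm : ∀ u, classInner f (F.ψ u : G → ℂ) = (m u : ℂ)) {ν : hS.H →* ℂˣ} {n : ℕ}
    (hn : ∀ u, classInner (hS.fixPart (F.ψ u : G → ℂ)) (fun h => (ν h : ℂ)) = (n : ℂ))
    {W : ℤ} (hW : classInner (hS.fixPart f) (fun h => (ν h : ℂ)) = (W : ℂ))
    (s : Finset (IrrCharacter G)) (hs : ∀ χ ∈ s, ∀ u, F.ψ u ≠ χ)
    (hs1 : ∀ χ ∈ s, classInner f (χ : G → ℂ) = 1 ∧
      classInner (hS.fixPart (χ : G → ℂ)) (fun h => (ν h : ℂ)) = 1) :
    (n : ℤ) * ∑ u, m u ≤ (Nat.card hS.E : ℤ) * (W - s.card) := by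
  choose M hM using fun χ : IrrCharacter G => hf.exists_nat_classInner χ.2.isCharacter
  choose V hV using fun χ : IrrCharacter G =>
    hS.exists_nat_fix χ.2.isCharacter ⟨_, isIrrCharacter_linear ν⟩
  obtain ⟨W', hW'⟩ := hS.exists_nat_fix hf ⟨_, isIrrCharacter_linear ν⟩
  have hWW : W = (W' : ℤ) := by exact_mod_cast hW.symm.trans hW'
  have hmu : ∀ u, m u = (M (F.ψ u) : ℤ) := fun u => by
    exact_mod_cast (hm u).symm.trans (hM (F.ψ u))
  have hnu : ∀ u, n = V (F.ψ u) := fun u => by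
    exact_mod_cast (hn u).symm.trans (hV (F.ψ u))
  have hdis : Disjoint (Finset.univ.image F.ψ) s := Finset.disjoint_right.2 fun χ hχ h => by
    obtain ⟨u, -, hu⟩ := Finset.mem_image.1 h
    exact hs χ hχ u hu
  have hle := Setting.fix_le hf ν hW' (Finset.univ.image F.ψ ∪ s) M V (fun χ _ => hM χ)
    fun χ _ => hV χ
  rw [Finset.sum_union hdis, Finset.sum_congr rfl (g := fun _ => 1) (fun χ hχ => ?_ :
    ∀ χ ∈ s, M χ * V χ = 1), Finset.sum_const, smul_eq_mul, mul_one] at hle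
  · have h := F.sum_image fun χ => M χ * V χ
    simp only [← hnu] at h
    rw [hWW, Finset.mul_sum, Finset.sum_congr rfl fun u (_ : u ∈ Finset.univ) => by
      rw [hmu u, mul_comm (n : ℤ), ← Nat.cast_mul], ← Nat.cast_sum, h]
    push_cast
    refine mul_le_mul_of_nonneg_left ?_ (Int.natCast_nonneg _)
    rw [le_sub_iff_add_le]
    exact_mod_cast hle
  · have e1 : M χ = 1 := by exact_mod_cast (hM χ).symm.trans (hs1 χ hχ).1
    have e2 : V χ = 1 := by exact_mod_cast (hV χ).symm.trans (hs1 χ hχ).2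
    rw [e1, e2]

/-- Multiplicities of a family differ by an average over the Sylow subgroup. -/
theorem Fam.inner_diff {f f' : G → ℂ} (hf : IsClassFunction G f) (hf' : IsClassFunction G f')
    (hreg : ∀ g, ¬ p ∣ orderOf g → f g = f' g)
    (hz : ∀ (z : Subgroup.center G) (g : G), f ((z : G) * g) = (lam z : ℂ) * f g)
    (hz' : ∀ (z : Subgroup.center G) (g : G), f' ((z : G) * g) = (lam z : ℂ) * f' g)
    {a a' : ZMod p → ℂ} (ha : ∀ y : hS.P, y ≠ 1 → f y = a (hS.k y))
    (ha' : ∀ y : hS.P, y ≠ 1 → f' y = a' (hS.k y)) (u u' : (ZMod p)ˣ) :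
    classInner f (F.ψ u : G → ℂ) - classInner f' (F.ψ u' : G → ℂ) =
      (δ : ℂ) * ((Nat.card hS.E : ℂ) * p)⁻¹ *
        ((∑ x ∈ Finset.univ.erase (0 : ZMod p), a x * conj (eta hS.E u x)) -
          ∑ x ∈ Finset.univ.erase (0 : ZMod p), a' x * conj (eta hS.E u' x)) := by
  set D : G → ℂ := fun g => f g * conj ((F.ψ u : G → ℂ) g) - f' g * conj ((F.ψ u' : G → ℂ) g)
    with hD
  have h0 : ∀ g, ¬ p ∣ orderOf g → D g = 0 := fun g hg => by
    simp only [hD, hreg g hg, F.reg u u' g hg, sub_self]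
  have hDc : IsClassFunction G D := fun g h => by
    simp only [hD, hf g h, hf' g h, (F.ψ u).2.isClassFunction g h, (F.ψ u').2.isClassFunction g h]
  have hDz : ∀ (y : hS.P) (z : Subgroup.center G), D ((y : G) * z) = D y := fun y z => by
    simp only [hD, Subgroup.mem_center_iff.1 z.2 (y : G), hz, hz', F.central, map_mul]
    linear_combination (f y * conj ((F.ψ u : G → ℂ) y) - f' y * conj ((F.ψ u' : G → ℂ) y)) *
      hom_mul_conj lam z
  have hval : ∀ y : hS.P, y ≠ 1 → D y =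
      (δ : ℂ) * (a (hS.k y) * conj (eta hS.E u (hS.k y)) -
        a' (hS.k y) * conj (eta hS.E u' (hS.k y))) := fun y hy => by
    simp only [hD, ha y hy, ha' y hy, F.val_P _ hy, map_mul, map_intCast]
    ring
  have hsum := hS.sum_singular hDc h0 hDz
  rw [← Finset.add_sum_erase _ _ (Finset.mem_univ (1 : hS.P)), OneMemClass.coe_one,
    h0 1 (by simp [(Fact.out : p.Prime).ne_one]), zero_add,
    Finset.sum_congr rfl fun y hy => hval y (Finset.ne_of_mem_erase hy), ← Finset.mul_sum,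
    hS.sum_P_erase (fun x => a x * conj (eta hS.E u x) - a' x * conj (eta hS.E u' x))] at hsum
  simp only [classInner]
  rw [← mul_sub, ← Finset.sum_sub_distrib, ← Finset.sum_sub_distrib, hsum]
  ring

/-! ## Two exceptional characters of degree `p - e` -/

variable {lam1 lam2 : Subgroup.center G →* ℂˣ} (L1 : Fam hS (-1) lam1) (L2 : Fam hS (-1) lam2)

/-- The product of two members. -/
noncomputable def Fam.prod (a b : (ZMod p)ˣ) (g : G) : ℂ :=
  (L1.ψ a : G → ℂ) g * (L2.ψ b : G → ℂ) g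

theorem Fam.isCharacter_prod (a b : (ZMod p)ˣ) : IsCharacter G (L1.prod L2 a b) :=
  (L1.ψ a).2.isCharacter.mul (L2.ψ b).2.isCharacter

theorem Fam.prod_central (a b : (ZMod p)ˣ) (z : Subgroup.center G) (g : G) :
    L1.prod L2 a b ((z : G) * g) = ((lam1 * lam2) z : ℂ) * L1.prod L2 a b g := by
  simp only [Fam.prod, L1.central, L2.central, MonoidHom.mul_apply, Units.val_mul]
  ring

theorem Fam.prod_P (a b : (ZMod p)ˣ) {y : hS.P} (hy : y ≠ 1) :
    L1.prod L2 a b y = eta hS.E a (hS.k y) * eta hS.E b (hS.k y) := by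
  simp only [Fam.prod, L1.val_P _ hy, L2.val_P _ hy]
  push_cast
  ring

/-- The multiplicities in the products are the counts up to a constant and a sign. -/
theorem Fam.mult_prod (F3 : Fam hS δ (lam1 * lam2)) :
    ∃ A : ℤ, ∀ a b u : (ZMod p)ˣ,
      classInner (L1.prod L2 a b) (F3.ψ u : G → ℂ) = ((A + δ * cnt hS.E a b u : ℤ) : ℂ) ∧
      0 ≤ A + δ * cnt hS.E a b u := by
  choose m hm using fun a b u : (ZMod p)ˣ =>
    (L1.isCharacter_prod L2 a b).exists_nat_classInner (F3.ψ u).2.isCharacter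
  refine ⟨(m 1 1 1 : ℤ) - δ * cnt hS.E 1 1 1, fun a b u => ?_⟩
  have hd := F3.inner_diff (L1.isCharacter_prod L2 a b).isClassFunction
    (L1.isCharacter_prod L2 1 1).isClassFunction
    (fun g hg => by simp only [Fam.prod, L1.reg a 1 g hg, L2.reg b 1 g hg])
    (L1.prod_central L2 a b) (L1.prod_central L2 1 1)
    (a := fun x => eta hS.E a x * eta hS.E b x)
    (a' := fun x => eta hS.E (1 : (ZMod p)ˣ) x * eta hS.E (1 : (ZMod p)ˣ) x)
    (fun y hy => L1.prod_P L2 a b hy) (fun y hy => L1.prod_P L2 1 1 hy) u 1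
  rw [sum_eta_triple, sum_eta_triple, hm, hm] at hd
  have he : (Nat.card hS.E : ℂ) ≠ 0 := Nat.cast_ne_zero.2 Nat.card_pos.ne'
  have hp : (p : ℂ) ≠ 0 := Nat.cast_ne_zero.2 (Fact.out : p.Prime).ne_zero
  have heq : (m a b u : ℂ) = ((m 1 1 1 : ℤ) - δ * cnt hS.E 1 1 1 + δ * cnt hS.E a b u : ℤ) := by
    push_cast
    field_simp at hd
    refine mul_left_cancel₀ hp ?_
    linear_combination hd
  refine ⟨(hm a b u).trans heq, ?_⟩
  have : (m a b u : ℤ) = (m 1 1 1 : ℤ) - δ * cnt hS.E 1 1 1 + δ * cnt hS.E a b u := by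
    exact_mod_cast heq
  omega

/-- The multiplicities in the values at squares are constants up to the indicators. -/
theorem Fam.mult_square (F3 : Fam hS δ (lam1 * lam1)) (hp2 : p ≠ 2) :
    ∃ B : ℤ, ∀ u : (ZMod p)ˣ,
      classInner (fun g : G => (L1.ψ 1 : G → ℂ) (g * g)) (F3.ψ u : G → ℂ) =
        ((B - δ * iota hS.E 1 u : ℤ) : ℂ) := by
  set f : G → ℂ := fun g => (L1.ψ 1 : G → ℂ) (g * g) with hf
  have hc := (L1.ψ 1).2.isCharacter
  obtain ⟨a, ha⟩ := (isCharacter_symSquare hc).exists_nat_classInner (F3.ψ 1).2.isCharacter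
  obtain ⟨b, hb⟩ := (isCharacter_altSquare hc).exists_nat_classInner (F3.ψ 1).2.isCharacter
  have h1 : classInner f (F3.ψ 1 : G → ℂ) = (((a : ℤ) - b : ℤ) : ℂ) := by
    push_cast
    rw [← ha, ← hb, ← classInner_sub_left]
    congr 1
    funext g
    simp only [hf, Pi.sub_apply]
    ring
  refine ⟨(a : ℤ) - b + δ * iota hS.E 1 1, fun u => ?_⟩
  have hcl : IsClassFunction G f := fun g h => by
    simp only [hf]
    rw [show h * g * h⁻¹ * (h * g * h⁻¹) = h * (g * g) * h⁻¹ by group]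
    exact (L1.ψ 1).2.isClassFunction _ _
  have hcz : ∀ (z : Subgroup.center G) (g : G),
      f ((z : G) * g) = ((lam1 * lam1) z : ℂ) * f g := fun z g => by
    simp only [hf]
    rw [show (z : G) * g * ((z : G) * g) = ((z * z : Subgroup.center G) : G) * (g * g) by
      rw [Subgroup.coe_mul]
      calc (z : G) * g * ((z : G) * g) = (z : G) * (g * (z : G)) * g := by group
        _ = (z : G) * ((z : G) * g) * g := by rw [Subgroup.mem_center_iff.1 z.2 g]
        _ = (z : G) * (z : G) * (g * g) := by group,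
      L1.central, map_mul, MonoidHom.mul_apply]
  have hval : ∀ y : hS.P, y ≠ 1 → f y = -eta hS.E (1 : (ZMod p)ˣ) (2 * hS.k y) := fun y hy => by
    have hy2 : y * y ≠ 1 := fun h => by
      have h' := hS.k_add y y
      rw [h, hS.k_one, ← two_mul, eq_comm, mul_eq_zero] at h'
      rcases h' with h' | h'
      · rw [show (2 : ZMod p) = ((2 : ℕ) : ZMod p) by norm_num, ZMod.natCast_eq_zero_iff] at h'
        exact hp2 ((Nat.prime_dvd_prime_iff_eq Fact.out Nat.prime_two).1 h')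
      · exact hS.k_ne hy h'
    simp only [hf]
    rw [← Subgroup.coe_mul, L1.val_P _ hy2, hS.k_add, two_mul]
    push_cast
    ring
  have hd := F3.inner_diff hcl hcl (fun _ _ => rfl) hcz hcz
    (a := fun x => -eta hS.E (1 : (ZMod p)ˣ) (2 * x))
    (a' := fun x => -eta hS.E (1 : (ZMod p)ˣ) (2 * x)) hval hval u 1
  simp only [neg_mul, Finset.sum_neg_distrib] at hd
  rw [sum_eta_two hS.E hp2, sum_eta_two hS.E hp2, h1] at hd
  have he : (Nat.card hS.E : ℂ) ≠ 0 := Nat.cast_ne_zero.2 Nat.card_pos.ne'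
  have hp : (p : ℂ) ≠ 0 := Nat.cast_ne_zero.2 (Fact.out : p.Prime).ne_zero
  push_cast at hd ⊢
  field_simp at hd
  refine mul_left_cancel₀ hp ?_
  linear_combination hd

/-! ## The capacities -/

theorem Setting.card_r_eq {τ : hS.H} :
    (Finset.univ.filter fun h : hS.H => hS.r h = hS.r τ).card =
      Nat.card (Subgroup.center G) := by
  rw [← Fintype.card_subtype, ← Nat.card_eq_fintype_card]
  exact Nat.card_congr
    { toFun := fun h => ⟨((τ⁻¹ * h.1 : hS.H) : G), (hS.r_ker _).1 (by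
        rw [map_mul, map_inv, h.2, inv_mul_cancel])⟩
      invFun := fun z => ⟨τ * ⟨z, hS.center_le z.2⟩, by
        rw [map_mul, (hS.r_ker ⟨z, hS.center_le z.2⟩).2 z.2, mul_one]⟩
      left_inv := fun h => Subtype.ext (mul_inv_cancel_left τ h.1)
      right_inv := fun z => Subtype.ext (by simp) }

theorem Setting.card_r_one :
    (Finset.univ.filter fun h : hS.H => hS.r h = 1).card = Nat.card (Subgroup.center G) := by
  have h := hS.card_r_eq (τ := 1)
  rwa [map_one] at h

/-- The sum of a product of linear characters outside the centre. -/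
theorem Setting.sum_linear (μ ν : hS.H →* ℂˣ)
    (hz : ∀ z : Subgroup.center G, μ ⟨z, hS.center_le z.2⟩ = ν ⟨z, hS.center_le z.2⟩) :
    ∑ h ∈ Finset.univ.filter (fun h : hS.H => hS.r h ≠ 1), (μ h : ℂ) * conj (ν h : ℂ) =
      (Nat.card hS.H : ℂ) * (if ν = μ then 1 else 0) - Nat.card (Subgroup.center G) := by
  have h1 : ∑ h : hS.H, (μ h : ℂ) * conj (ν h : ℂ) =
      (Nat.card hS.H : ℂ) * (if ν = μ then 1 else 0) := by
    have h := classInner_irr (isIrrCharacter_linear μ) (isIrrCharacter_linear ν)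
    simp only [classInner] at h
    rw [inv_mul_eq_iff_eq_mul₀ (Nat.cast_ne_zero.2 Nat.card_pos.ne')] at h
    rw [h]
    congr 1
    refine if_congr ⟨fun e => MonoidHom.ext fun x => Units.ext (congrFun e x).symm, fun e => ?_⟩ rfl rfl
    rw [e]
  have h2 : ∑ h ∈ Finset.univ.filter (fun h : hS.H => hS.r h = 1),
      (μ h : ℂ) * conj (ν h : ℂ) = Nat.card (Subgroup.center G) := by
    rw [Finset.sum_congr rfl (g := fun _ => 1) fun h hh => ?_, Finset.sum_const, nsmul_eq_mul,
      mul_one, hS.card_r_one]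
    have e := hz ⟨h, (hS.r_ker h).1 (Finset.mem_filter.1 hh).2⟩
    rw [Subtype.coe_eta] at e
    rw [e, hom_mul_conj]
  have h3 := Finset.sum_filter_add_sum_filter_not Finset.univ (fun h : hS.H => hS.r h = 1)
    (fun h => (μ h : ℂ) * conj (ν h : ℂ))
  linear_combination h3 + h1 - h2

variable (hd1 : charDegree (L1.ψ 1 : G → ℂ) + Nat.card hS.E = p)
  (hd2 : charDegree (L2.ψ 1 : G → ℂ) + Nat.card hS.E = p)
  {μ1 μ2 : hS.H →* ℂˣ} {t : ℕ} (ht : p = Nat.card hS.E * t + 1)

include hd1 hd2 ht in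
/-- The weight of a product. -/
theorem Fam.weight_prod (hμ1 : ∀ z : Subgroup.center G, μ1 ⟨z, hS.center_le z.2⟩ = lam1 z)
    (hμ2 : ∀ z : Subgroup.center G, μ2 ⟨z, hS.center_le z.2⟩ = lam2 z)
    (h1 : ∀ u (h : hS.H), hS.r h ≠ 1 → (L1.ψ u : G → ℂ) h = (μ1 h : ℂ))
    (h2 : ∀ u (h : hS.H), hS.r h ≠ 1 → (L2.ψ u : G → ℂ) h = (μ2 h : ℂ))
    (a b : (ZMod p)ˣ) (ν : hS.H →* ℂˣ)
    (hν : ∀ z : Subgroup.center G, ν ⟨z, hS.center_le z.2⟩ = (lam1 * lam2) z) :
    classInner (hS.fixPart (L1.prod L2 a b)) (fun h => (ν h : ℂ)) =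
      (((t : ℤ) - 2 + opp hS.E a b + if ν = μ1 * μ2 then 1 else 0 : ℤ) : ℂ) := by
  have hp : (p : ℂ) ≠ 0 := Nat.cast_ne_zero.2 (Fact.out : p.Prime).ne_zero
  have he : (Nat.card hS.E : ℂ) ≠ 0 := Nat.cast_ne_zero.2 Nat.card_pos.ne'
  have hm : (Nat.card (Subgroup.center G) : ℂ) ≠ 0 := Nat.cast_ne_zero.2 Nat.card_pos.ne'
  rw [hS.classInner_fixPart (L1.isCharacter_prod L2 a b).isClassFunction
    (L1.prod_central L2 a b) ν hν, hS.fixPart_one,
    Finset.sum_congr rfl fun y hy => L1.prod_P L2 a b (Finset.ne_of_mem_erase hy),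
    hS.sum_P_erase (fun x => eta hS.E a x * eta hS.E b x), sum_eta_mul,
    Finset.sum_congr rfl (g := fun h => ((μ1 * μ2) h : ℂ) * conj (ν h : ℂ)) fun h hh => ?_,
    hS.sum_linear (μ1 * μ2) ν fun z => ?_]
  · have e1 : (charDegree (L1.ψ 1 : G → ℂ) : ℂ) = p - Nat.card hS.E := by
      rw [eq_sub_iff_add_eq]; exact_mod_cast hd1
    have e2 : (charDegree (L2.ψ 1 : G → ℂ) : ℂ) = p - Nat.card hS.E := by
      rw [eq_sub_iff_add_eq]; exact_mod_cast hd2
    have e3 : (p : ℂ) = Nat.card hS.E * t + 1 := by exact_mod_cast ht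
    have eH : (Nat.card hS.H : ℂ) = Nat.card hS.E * Nat.card (Subgroup.center G) := by
      exact_mod_cast hS.card_E.symm
    rw [show L1.prod L2 a b 1 = (L1.ψ a : G → ℂ) 1 * (L2.ψ b : G → ℂ) 1 from rfl, L1.apply_one,
      L2.apply_one, e1, e2, eH]
    push_cast
    field_simp
    linear_combination (p : ℂ) * e3
  · rw [MonoidHom.mul_apply, hμ1, hμ2, hν, MonoidHom.mul_apply]
  · rw [show L1.prod L2 a b h = (L1.ψ a : G → ℂ) h * (L2.ψ b : G → ℂ) h from rfl,
      h1 a h (Finset.mem_filter.1 hh).2, h2 b h (Finset.mem_filter.1 hh).2, MonoidHom.mul_apply,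
      Units.val_mul]

include hd1 ht in
/-- The weights of the symmetric and exterior squares. -/
theorem Fam.weight_square (hp2 : p ≠ 2)
    (hμ1 : ∀ z : Subgroup.center G, μ1 ⟨z, hS.center_le z.2⟩ = lam1 z)
    (h1 : ∀ u (h : hS.H), hS.r h ≠ 1 → (L1.ψ u : G → ℂ) h = (μ1 h : ℂ))
    {τ : hS.H} (hτ : hS.r τ = -1) (q : ℤ) (ν : hS.H →* ℂˣ)
    (hν : ∀ z : Subgroup.center G, ν ⟨z, hS.center_le z.2⟩ = (lam1 * lam1) z) :
    classInner (hS.fixPart fun g => ((L1.ψ 1 : G → ℂ) g * (L1.ψ 1 : G → ℂ) g +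
        (q : ℂ) * (L1.ψ 1 : G → ℂ) (g * g)) / 2) (fun h => (ν h : ℂ)) =
      (1 + (q : ℂ)) / 2 * (if ν = μ1 * μ1 then 1 else 0) +
        ((t : ℂ) - 1) / 2 * (1 + (q : ℂ) * ((μ1 τ : ℂ) * μ1 τ * conj (ν τ : ℂ))) := by
  have hp : (p : ℂ) ≠ 0 := Nat.cast_ne_zero.2 (Fact.out : p.Prime).ne_zero
  have he : (Nat.card hS.E : ℂ) ≠ 0 := Nat.cast_ne_zero.2 Nat.card_pos.ne'
  have hm : (Nat.card (Subgroup.center G) : ℂ) ≠ 0 := Nat.cast_ne_zero.2 Nat.card_pos.ne'
  set f : G → ℂ := fun g => ((L1.ψ 1 : G → ℂ) g * (L1.ψ 1 : G → ℂ) g +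
    (q : ℂ) * (L1.ψ 1 : G → ℂ) (g * g)) / 2 with hf
  have hcl : IsClassFunction G f := fun g h => by
    simp only [hf]
    rw [show h * g * h⁻¹ * (h * g * h⁻¹) = h * (g * g) * h⁻¹ by group,
      (L1.ψ 1).2.isClassFunction g h, (L1.ψ 1).2.isClassFunction (g * g) h]
  have hcz : ∀ (z : Subgroup.center G) (g : G),
      f ((z : G) * g) = ((lam1 * lam1) z : ℂ) * f g := fun z g => by
    simp only [hf]
    rw [show (z : G) * g * ((z : G) * g) = ((z * z : Subgroup.center G) : G) * (g * g) by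
      rw [Subgroup.coe_mul]
      calc (z : G) * g * ((z : G) * g) = (z : G) * (g * (z : G)) * g := by group
        _ = (z : G) * ((z : G) * g) * g := by rw [Subgroup.mem_center_iff.1 z.2 g]
        _ = (z : G) * (z : G) * (g * g) := by group,
      L1.central, L1.central, map_mul, MonoidHom.mul_apply, Units.val_mul]
    ring
  have e1 : (charDegree (L1.ψ 1 : G → ℂ) : ℂ) = p - Nat.card hS.E := by
    rw [eq_sub_iff_add_eq]; exact_mod_cast hd1
  have e3 : (p : ℂ) = Nat.card hS.E * t + 1 := by exact_mod_cast ht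
  have eH : (Nat.card hS.H : ℂ) = Nat.card hS.E * Nat.card (Subgroup.center G) := by
    exact_mod_cast hS.card_E.symm
  have hneg : -1 ∈ hS.E := ⟨τ, hτ⟩
  have h21 : (-1 : (ZMod p)ˣ) ≠ 1 := fun h => by
    have h2 : ((2 : ℕ) : ZMod p) = 0 := by
      have := congrArg Units.val h
      push_cast [Units.val_neg, Units.val_one] at this ⊢
      linear_combination -this
    rw [ZMod.natCast_eq_zero_iff] at h2
    exact hp2 ((Nat.prime_dvd_prime_iff_eq Fact.out Nat.prime_two).1 h2)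
  -- the value at one
  have hone : hS.fixPart f 1 = ((p : ℂ) - Nat.card hS.E + q) / 2 := by
    have hval : ∀ y ∈ Finset.univ.erase (1 : hS.P), f y =
        (eta hS.E (1 : (ZMod p)ˣ) (hS.k y) * eta hS.E (1 : (ZMod p)ˣ) (hS.k y) -
          (q : ℂ) * eta hS.E (1 : (ZMod p)ˣ) (2 * hS.k y)) / 2 := fun y hy => by
      have hy := Finset.ne_of_mem_erase hy
      have hy2 : y * y ≠ 1 := fun h => by
        have h' := hS.k_add y y
        rw [h, hS.k_one, ← two_mul, eq_comm, mul_eq_zero] at h'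
        rcases h' with h' | h'
        · rw [show (2 : ZMod p) = ((2 : ℕ) : ZMod p) by norm_num, ZMod.natCast_eq_zero_iff] at h'
          exact hp2 ((Nat.prime_dvd_prime_iff_eq Fact.out Nat.prime_two).1 h')
        · exact hS.k_ne hy h'
      simp only [hf]
      rw [← Subgroup.coe_mul, L1.val_P _ hy, L1.val_P _ hy2, hS.k_add, ← two_mul]
      push_cast
      ring
    have hs : ∑ x ∈ Finset.univ.erase (0 : ZMod p),
        eta hS.E (1 : (ZMod p)ˣ) (2 * x) = -(Nat.card hS.E : ℂ) := by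
      have h2 : (2 : ZMod p) ≠ 0 := by
        intro h
        rw [show (2 : ZMod p) = ((2 : ℕ) : ZMod p) by norm_num, ZMod.natCast_eq_zero_iff] at h
        exact hp2 ((Nat.prime_dvd_prime_iff_eq Fact.out Nat.prime_two).1 h)
      simp only [eta_mul_arg, Units.val_one, one_mul]
      exact sum_eta hS.E (Units.mk0 2 h2)
    have h11 : opp hS.E 1 1 = 1 := if_pos ⟨⟨-1, hneg⟩, by simp [val₀]⟩
    rw [hS.fixPart_one, Finset.sum_congr rfl hval,
      hS.sum_P_erase (fun x => (eta hS.E (1 : (ZMod p)ˣ) x * eta hS.E (1 : (ZMod p)ˣ) x -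
        (q : ℂ) * eta hS.E (1 : (ZMod p)ˣ) (2 * x)) / 2),
      ← Finset.sum_div, Finset.sum_sub_distrib, ← Finset.mul_sum, sum_eta_mul, hs, h11]
    simp only [hf, mul_one, L1.apply_one, e1, Nat.cast_one]
    field_simp
    ring
  -- the values outside the centre
  have hval : ∀ h : hS.H, hS.r h ≠ 1 → f h * conj (ν h : ℂ) =
      (1 + (q : ℂ)) / 2 * ((μ1 h : ℂ) * μ1 h * conj (ν h : ℂ)) +
        if hS.r h = hS.r τ then (q : ℂ) * ((p : ℂ) - Nat.card hS.E - 1) / 2 *
          ((μ1 τ : ℂ) * μ1 τ * conj (ν τ : ℂ)) else 0 := fun h hh => by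
    simp only [hf]
    rw [h1 1 h hh]
    split_ifs with hτh
    · have hz : ((h * h : hS.H) : G) ∈ Subgroup.center G :=
        (hS.r_ker _).1 (by rw [map_mul, hτh, hτ, neg_mul_neg, one_mul])
      have e : (L1.ψ 1 : G → ℂ) ((h : G) * h) = (μ1 h : ℂ) * μ1 h * ((p : ℂ) - Nat.card hS.E) := by
        have h' := L1.central 1 ⟨_, hz⟩ 1
        rw [mul_one, L1.apply_one, e1, ← hμ1] at h'
        rw [← Units.val_mul, ← map_mul]
        exact h'
      have hd : τ⁻¹ * h = ⟨((τ⁻¹ * h : hS.H) : G), (τ⁻¹ * h).2⟩ := rfl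
      have hzc : ((τ⁻¹ * h : hS.H) : G) ∈ Subgroup.center G :=
        (hS.r_ker _).1 (by rw [map_mul, map_inv, hτh, inv_mul_cancel])
      set z : Subgroup.center G := ⟨_, hzc⟩ with hzd
      have hh' : h = τ * ⟨z, hS.center_le z.2⟩ := (mul_inv_cancel_left τ h).symm
      have hs : (μ1 h : ℂ) * μ1 h * conj (ν h : ℂ) = (μ1 τ : ℂ) * μ1 τ * conj (ν τ : ℂ) := by
        rw [hh', map_mul μ1, map_mul ν, hμ1, hν, MonoidHom.mul_apply]
        simp only [Units.val_mul, map_mul]
        linear_combination (μ1 τ : ℂ) * μ1 τ * conj (ν τ : ℂ) * conj (lam1 z : ℂ) * lam1 z *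
          hom_mul_conj lam1 z + (μ1 τ : ℂ) * μ1 τ * conj (ν τ : ℂ) * hom_mul_conj lam1 z
      rw [e, ← hs]
      ring
    · have hh2 : hS.r (h * h) ≠ 1 := fun e => by
        have e' := congrArg Units.val e
        rw [map_mul, Units.val_mul, Units.val_one, mul_self_eq_one_iff] at e'
        rcases e' with e' | e'
        · exact hh (Units.ext e')
        · exact hτh (Units.ext (by rw [hτ, e', Units.val_neg, Units.val_one]))
      rw [← Subgroup.coe_mul, h1 1 (h * h) hh2, map_mul, Units.val_mul]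
      ring
  have hfilt : (Finset.univ.filter fun h : hS.H => hS.r h ≠ 1).filter
      (fun h => hS.r h = hS.r τ) = Finset.univ.filter fun h : hS.H => hS.r h = hS.r τ := by
    ext h
    simp only [Finset.mem_filter, Finset.mem_univ, true_and, and_iff_right_iff_imp]
    intro e e'
    exact h21 (hτ ▸ e ▸ e')
  have hsum := hS.sum_linear (μ1 * μ1) ν fun z => by
    rw [MonoidHom.mul_apply, hμ1, hν, MonoidHom.mul_apply]
  simp only [MonoidHom.mul_apply, Units.val_mul] at hsum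
  rw [hS.classInner_fixPart hcl hcz ν hν, hone,
    Finset.sum_congr rfl fun h hh => hval h (Finset.mem_filter.1 hh).2, Finset.sum_add_distrib,
    ← Finset.mul_sum, hsum, ← Finset.sum_filter, hfilt, Finset.sum_const, nsmul_eq_mul,
    hS.card_r_eq, eH]
  field_simp
  linear_combination (1 + (q : ℂ) * ((μ1 τ : ℂ) * μ1 τ * conj (ν τ : ℂ))) * e3

end Cfsg.Lib.Feit
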