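import Cfsg.Agent.Lib.Feit.Periods
import Cfsg.Agent.Lib.Feit.Local
import Cfsg.Agent.Lib.Feit.Products
import Cfsg.Agent.Lib.HalfDeg.Low
import Cfsg.Agent.Lib.HalfDeg.Reduction
import Cfsg.Agent.Lib.Char.Formulas

/-!
# Class functions of a family on integral representations

On eigenvectors of a Sylow element for the same root of unity the operator of a combination of a
family is congruent modulo `p` to an explicit scalar.
-/

set_option autoImplicit false
set_option linter.unusedSectionVars false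
set_option linter.style.haveILetI false
set_option maxHeartbeats 1000000

namespace Cfsg.Lib.Feit

open Cfsg Cfsg.Lib.Char
open scoped ComplexConjugate Classical

universe u

noncomputable local instance (priority := high) fintypeSubgroupFeitPairing {A : Type u}
    [Group A] [Fintype A] (K : Subgroup A) : Fintype K := Fintype.ofFinite K

local notation "ψc" => (ZMod.stdAddChar : AddChar (ZMod _) ℂ)

variable {p : ℕ} [hp : Fact p.Prime] {G : Type u} [Group G] [Fintype G]

/-- An irreducible character is afforded by integral matrices on which class functions act as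
scalars. -/
theorem exists_integral_rep (V : ValuationSubring ℂ) {χ : G → ℂ} (hχ : IsIrrCharacter G χ) :
    ∃ (n : ℕ) (R : G →* Matrix (Fin n) (Fin n) ℂ), χ 1 = (n : ℂ) ∧
      (∀ g i j, V.valuation (R g i j) ≤ 1) ∧ (∀ g, (R g).trace = χ g) ∧
      ∀ A : G → ℂ, IsClassFunction G A → ∃ ω : ℂ, ∑ g, A g • R g = ω • 1 := by
  obtain ⟨n, σ, hσ, hσχ⟩ := hχ
  subst hσχ
  haveI := hσ
  let s : Finset (Fin n → ℂ) := Finset.univ.image fun x : G × Fin n => σ x.1 (Pi.single x.2 1)
  have hs : Submodule.span ℂ (s : Set (Fin n → ℂ)) = ⊤ := by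
    rw [eq_top_iff, ← (Pi.basisFun ℂ (Fin n)).span_eq, Submodule.span_le]
    rintro _ ⟨i, rfl⟩
    refine Submodule.subset_span (Finset.mem_image.2 ⟨(1, i), Finset.mem_univ _, ?_⟩)
    simp
  obtain ⟨b', hb'L, hb'V⟩ := Cfsg.Lib.HalfDeg.exists_lattice_basis V s hs
  let b := b'.reindex (finCongr (by simp : Module.finrank ℂ (Fin n → ℂ) = n))
  have hLinv : ∀ g, ∀ w ∈ Submodule.span V (s : Set (Fin n → ℂ)),
      σ g w ∈ Submodule.span V (s : Set (Fin n → ℂ)) := by
    intro g w hw
    induction hw using Submodule.span_induction with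
    | mem x hx =>
      obtain ⟨⟨h, i⟩, -, rfl⟩ := Finset.mem_image.1 hx
      refine Submodule.subset_span (Finset.mem_image.2 ⟨(g * h, i), Finset.mem_univ _, ?_⟩)
      rw [map_mul]; rfl
    | zero => simp
    | add x y _ _ hx hy => rw [map_add]; exact add_mem hx hy
    | smul c x _ hx =>
      rw [show c • x = (c : ℂ) • x from rfl, map_smul]
      exact Submodule.smul_mem _ c hx
  let R : G →* Matrix (Fin n) (Fin n) ℂ :=
    ((LinearMap.toMatrixAlgEquiv b) : Module.End ℂ (Fin n → ℂ) ≃ₐ[ℂ] _).toMonoidHom.comp σ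
  have hR : ∀ g, R g = LinearMap.toMatrixAlgEquiv b (σ g) := fun g => rfl
  refine ⟨n, R, by rw [Representation.char_one, Module.finrank_fin_fun], fun g i j => ?_,
    fun g => ?_, fun A hA => ?_⟩
  · rw [hR, V.valuation_le_one_iff, LinearMap.toMatrixAlgEquiv_apply,
      Module.Basis.repr_reindex_apply, Module.Basis.reindex_apply]
    exact hb'V _ (hLinv g _ (hb'L _)) _
  · show (LinearMap.toMatrix b b (σ g)).trace = LinearMap.trace ℂ _ (σ g)
    rw [← LinearMap.trace_eq_matrix_trace]
  · refine ⟨(∑ g, A g * σ.character g) / (Module.finrank ℂ (Fin n → ℂ) : ℂ), ?_⟩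
    have h := congrArg (LinearMap.toMatrixAlgEquiv b) (averageOp_irreducible σ hA)
    simp only [averageOp, map_sum, map_smul] at h
    rw [show LinearMap.toMatrixAlgEquiv b (LinearMap.id : Module.End ℂ (Fin n → ℂ)) = 1 from
      map_one (LinearMap.toMatrixAlgEquiv b)] at h
    exact h

/-- An irreducible character without multiplicity annihilates a representation. -/
theorem proj_eq_zero {ι : Type*} [Fintype ι] [DecidableEq ι] (R : G →* Matrix ι ι ℂ)
    (χ : IrrCharacter G) (h0 : classInner (fun g => (R g).trace) (χ : G → ℂ) = 0) :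
    ∑ g, conj ((χ : G → ℂ) g) • R g = 0 := by
  set a : ℂ := (χ : G → ℂ) 1 / (Nat.card G : ℂ) with ha
  have hG : (Nat.card G : ℂ) ≠ 0 := Nat.cast_ne_zero.2 Nat.card_pos.ne'
  have hd : ∃ m : ℕ, (χ : G → ℂ) 1 = (m : ℂ) ∧ (m : ℂ) ≠ 0 := by
    obtain ⟨m, σ, hσ, hσχ⟩ := id χ.2
    haveI := hσ
    refine ⟨m, ?_, ?_⟩
    · rw [← hσχ, Representation.char_one, Module.finrank_fin_fun]
    · rw [← Module.finrank_fin_fun ℂ (n := m)]
      exact Nat.cast_ne_zero.2 (irreducible_finrank_pos σ).ne'
  obtain ⟨m, hm, hm0⟩ := hd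
  have hconv : ∀ k, ∑ g, conj ((χ : G → ℂ) g) * conj ((χ : G → ℂ) (g⁻¹ * k)) =
      a⁻¹ * conj ((χ : G → ℂ) k) := fun k => by
    have h := congrArg conj (sum_char_mul_char_inv χ.2 k)
    simp only [map_sum, map_mul, map_div₀, Complex.conj_natCast, hm] at h
    rw [h, ha, hm, inv_div]
    ring
  set Q := a • ∑ g, conj ((χ : G → ℂ) g) • R g with hQ
  have hidem : IsIdempotentElem Q := by
    have hQQ : (∑ g, conj ((χ : G → ℂ) g) • R g) * (∑ g, conj ((χ : G → ℂ) g) • R g) =
        a⁻¹ • ∑ g, conj ((χ : G → ℂ) g) • R g := by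
      rw [Finset.smul_sum, Finset.sum_mul]
      simp only [Finset.mul_sum, smul_mul_smul_comm, ← map_mul R]
      rw [Finset.sum_congr rfl fun g _ => (Fintype.sum_equiv (Equiv.mulLeft g)
        (fun h => (conj ((χ : G → ℂ) g) * conj ((χ : G → ℂ) h)) • R (g * h))
        (fun k => (conj ((χ : G → ℂ) g) * conj ((χ : G → ℂ) (g⁻¹ * k))) • R k)
        fun h => by simp), Finset.sum_comm]
      refine Finset.sum_congr rfl fun k _ => ?_
      rw [← Finset.sum_smul, hconv k, smul_smul]
    show Q * Q = Q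
    rw [hQ, smul_mul_smul_comm, hQQ, smul_smul]
    congr 1
    have : a ≠ 0 := div_ne_zero (hm ▸ hm0) hG
    field_simp
  have htr : Q.trace = 0 := by
    rw [hQ, Matrix.trace_smul, Matrix.trace_sum]
    simp only [Matrix.trace_smul, smul_eq_mul]
    rw [classInner] at h0
    have h1 := (mul_eq_zero.1 h0).resolve_left (inv_ne_zero hG)
    rw [Finset.sum_congr rfl fun g _ => mul_comm _ _, h1, mul_zero]
  have hzero : Q = 0 := by
    refine Matrix.toLinAlgEquiv'.injective ?_
    rw [map_zero]
    refine LinearMap.IsIdempotentElem.eq_zero_of_trace_eq_zero (hidem.map _) ?_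
    rw [← htr]
    exact Matrix.trace_toLin'_eq Q
  exact (smul_eq_zero.1 hzero).resolve_left (div_ne_zero (hm ▸ hm0) hG)

variable {hS : Setting p G} {δ : ℤ} {lam : Subgroup.center G →* ℂˣ} (F : Fam hS δ lam)
  {V : ValuationSubring ℂ}

/-- The generator of the Sylow subgroup. -/
noncomputable def Setting.y₁ (hS : Setting p G) : hS.P := hS.k.symm 1

theorem Setting.pow_y₁ (hS : Setting p G) (y : hS.P) : hS.y₁ ^ (hS.k y).val = y :=
  hS.k.injective (by
    rw [hS.fixes_exp, Setting.y₁, Equiv.apply_symm_apply, mul_one, ZMod.natCast_zmod_val])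

include F in
/-- The congruence on eigenvectors. -/
theorem Fam.pairing {ι : Type*} [Fintype ι] [DecidableEq ι]
    (R : G →* Matrix ι ι ℂ) (hR : ∀ g i j, V.valuation (R g i j) ≤ 1)
    (hz : ∀ z : Subgroup.center G, R z = (lam z : ℂ) • 1)
    (L M : Matrix ι ι ℂ) (hL : ∀ i j, V.valuation (L i j) ≤ 1)
    (hM : ∀ i j, V.valuation (M i j) ≤ 1) (w : ZMod p)
    (hLy : L * R (hS.y₁ : G) = ψc w • L) (hMy : R (hS.y₁ : G) * M = ψc w • M)
    (c : (ZMod p)ˣ → ℂ) (hc : ∑ u, c u = 0)
    (ha : ∀ x : ZMod p, x ≠ 0 → V.valuation (∑ u, c u * eta hS.E (-(u : ZMod p)) x) ≤ 1)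
    (i j : ι) :
    V.valuation ((L * (∑ g, (∑ u, c u * conj ((F.ψ u : G → ℂ) g)) • R g) * M) i j -
      (Nat.card (Subgroup.center G) : ℂ) * (δ : ℂ) * (p : ℂ) *
        (∑ u : (ZMod p)ˣ, if ∃ x : hS.E, (u : ZMod p) * val₀ hS.E x = w then c u else 0) *
        (L * M) i j) ≤ gam (p := p) V ^ (p - 1) := by
  set A : G → ℂ := fun g => ∑ u, c u * conj ((F.ψ u : G → ℂ) g) with hA
  set y₁ : G := (hS.y₁ : G) with hy₁
  have hA0 : ∀ g, ¬ p ∣ orderOf g → A g = 0 := fun g hg => by
    simp only [hA]
    rw [Finset.sum_congr rfl fun u _ => by rw [F.reg u 1 g hg], ← Finset.sum_mul, hc, zero_mul]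
  have hAyz : ∀ (y : hS.P), y ≠ 1 → ∀ z : Subgroup.center G, A ((y : G) * z) =
      conj (lam z : ℂ) * ((δ : ℂ) * ∑ u, c u * eta hS.E (-(u : ZMod p)) (hS.k y)) := fun y hy z => by
    simp only [hA, F.val _ y hy z, map_mul, map_intCast, conj_eta, Finset.mul_sum]
    exact Finset.sum_congr rfl fun u _ => by ring
  have hAc : IsClassFunction G A := fun g h => by
    simp only [hA]
    exact Finset.sum_congr rfl fun u _ => by rw [(F.ψ u).2.isClassFunction g h]
  have hAV : ∀ g, V.valuation (A g) ≤ 1 := fun g => by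
    by_cases hg : p ∣ orderOf g
    · obtain ⟨x₀, hx₀⟩ := hS.exists_conj_cent hg
      obtain ⟨y, hy, z, hz', hyz⟩ := hS.mem_cent_iff.1 hx₀
      have hgc : g = x₀ * (y * z) * x₀⁻¹ := by rw [hyz]; group
      rw [hgc, hAc _ x₀]
      by_cases hy1 : y = 1
      · subst hy1
        rw [one_mul, hA0 z fun h => hS.not_dvd_center
          (h.trans (Subgroup.orderOf_dvd_natCard _ hz')), map_zero]
        exact zero_le
      · have hy1' : (⟨y, hy⟩ : hS.P) ≠ 1 := fun e => hy1 (congrArg Subtype.val e)
        rw [show y * z = ((⟨y, hy⟩ : hS.P) : G) * ((⟨z, hz'⟩ : Subgroup.center G) : G) from rfl,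
          hAyz _ hy1', map_mul, map_mul]
        refine mul_le_one' (le_of_eq ?_)
          (mul_le_one' (val_intCast_le V δ) (ha _ (hS.k_ne hy1')))
        refine (pow_eq_one_iff.1 (?_ : V.valuation (conj (lam ⟨z, hz'⟩ : ℂ)) ^
          orderOf (⟨z, hz'⟩ : Subgroup.center G) = 1)).resolve_right
          (orderOf_pos _).ne'
        rw [← map_pow, ← map_pow, ← Units.val_pow_eq_pow_val, ← map_pow lam, pow_orderOf_eq_one,
          map_one, Units.val_one, map_one, map_one]
    · rw [hA0 g hg, map_zero]; exact zero_le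
  set f : G → ℂ := fun g => A g * (L * R g * M) i j with hf
  have hfV : ∀ g, V.valuation (f g) ≤ 1 := fun g => by
    simp only [hf, map_mul]
    refine mul_le_one' (hAV g) ?_
    simp only [Matrix.mul_apply, Finset.sum_mul]
    exact Valuation.map_sum_le _ fun x _ => Valuation.map_sum_le _ fun x' _ => by
      rw [map_mul, map_mul]
      exact mul_le_one' (mul_le_one' (hL _ _) (hR _ _ _)) (hM _ _)
  have hfinv : ∀ g, f (y₁ * g * y₁⁻¹) = f g := fun g => by
    have hR1 : R y₁⁻¹ * M = (ψc w)⁻¹ • M := by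
      have h := congrArg (R y₁⁻¹ * ·) hMy
      simp only [← Matrix.mul_assoc, ← map_mul, inv_mul_cancel, map_one, Matrix.one_mul,
        Matrix.mul_smul] at h
      refine ((inv_smul_eq_iff₀ ?_).2 h).symm
      exact fun h0 => by
        have h' := val_std V w
        rw [h0, map_zero] at h'
        exact zero_ne_one h'
    simp only [hf]
    rw [hAc g y₁, map_mul R, map_mul R]
    congr 1
    rw [show L * (R y₁ * R g * R y₁⁻¹) * M = (L * R y₁) * R g * (R y₁⁻¹ * M) by
      simp only [Matrix.mul_assoc], hLy, hR1]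
    simp only [Matrix.smul_mul, Matrix.mul_smul, smul_smul]
    rw [inv_mul_cancel₀ (fun h0 => by
      have h' := val_std V w
      rw [h0, map_zero] at h'
      exact zero_ne_one h'), one_smul]
  have hy₁mem : y₁ ∈ hS.P := hS.y₁.2
  have hy₁1 : y₁ ≠ 1 := fun h => by
    have h' : hS.k hS.y₁ = 1 := Equiv.apply_symm_apply _ _
    rw [show hS.y₁ = 1 from Subtype.ext h, hS.k_one] at h'
    exact zero_ne_one h'
  set Cs : Finset G := Finset.univ.filter fun g => g ∈ Subgroup.centralizer ({y₁} : Set G) with hCs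
  have houter : V.valuation (∑ g ∈ Csᶜ, f g) ≤ gam (p := p) V ^ (p - 1) := by
    refine Cfsg.Lib.HalfDeg.sum_induction_orbits p (MulAut.conj y₁ : G ≃* G).toEquiv ?_ Csᶜ
      (fun q => ?_) (fun q hq hfix => ?_) f (fun b => V.valuation b ≤ gam (p := p) V ^ (p - 1))
      (by simp) (fun a b ha hb => Valuation.map_add_le _ ha hb) fun q => ?_
    · refine Equiv.ext fun g => ?_
      have hpow : ∀ n : ℕ, (((MulAut.conj y₁ : G ≃* G).toEquiv) ^ n : Equiv.Perm G) g =
          y₁ ^ n * g * (y₁ ^ n)⁻¹ := fun n => by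
        induction n with
        | zero => simp
        | succ l ih =>
          rw [pow_succ', Equiv.Perm.mul_apply, ih, pow_succ']
          show y₁ * _ * y₁⁻¹ = _
          group
      rw [hpow p, Equiv.Perm.one_apply, ← hS.orderOf_mem hy₁mem hy₁1, pow_orderOf_eq_one]
      simp
    · simp only [hCs, Finset.mem_compl, Finset.mem_filter, Finset.mem_univ, true_and,
        Subgroup.mem_centralizer_singleton_iff]
      show ¬ q * y₁ = y₁ * q ↔ ¬ y₁ * q * y₁⁻¹ * y₁ = y₁ * (y₁ * q * y₁⁻¹)
      refine not_congr ⟨fun h => ?_, fun h => ?_⟩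
      · rw [← h, mul_inv_cancel_right, h]
      · rw [inv_mul_cancel_right, mul_assoc y₁ q] at h
        have := mul_left_cancel h
        conv_lhs => rw [this]
        group
    · simp only [hCs, Finset.mem_compl, Finset.mem_filter, Finset.mem_univ, true_and,
        Subgroup.mem_centralizer_singleton_iff] at hq
      refine hq ?_
      have h : y₁ * q * y₁⁻¹ = q := hfix
      rw [mul_inv_eq_iff_eq_mul] at h
      exact h.symm
    · have hconst : ∀ n : ℕ,
          f ((((MulAut.conj y₁ : G ≃* G).toEquiv) ^ n : Equiv.Perm G) q) = f q := fun n => by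
        induction n with
        | zero => rfl
        | succ l ih =>
          rw [pow_succ', Equiv.Perm.mul_apply]
          exact (hfinv _).trans ih
      rw [Finset.sum_congr rfl fun n _ => hconst n, Finset.sum_const, Finset.card_range,
        nsmul_eq_mul, map_mul, val_natCast_p]
      exact mul_le_of_le_one_right' (hfV q)
  -- the centralizer
  have heig : ∀ y : hS.P, L * R (y : G) * M = ψc (w * hS.k y) • (L * M) := fun y => by
    have hn : ∀ n : ℕ, L * R (y₁ ^ n) = ψc (n • w) • L := fun n => by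
      induction n with
      | zero => rw [pow_zero, map_one, Matrix.mul_one, zero_smul, AddChar.map_zero_eq_one, one_smul]
      | succ l ih =>
        rw [pow_succ, map_mul, ← Matrix.mul_assoc, ih, Matrix.smul_mul, hLy, smul_smul,
          ← AddChar.map_add_eq_mul, succ_nsmul]
    conv_lhs => rw [← hS.pow_y₁ y, SubmonoidClass.coe_pow, hn, Matrix.smul_mul]
    rw [nsmul_eq_mul, ZMod.natCast_zmod_val, mul_comm]
  have hin : ∑ g ∈ Cs, f g = (Nat.card (Subgroup.center G) : ℂ) * (δ : ℂ) * (p : ℂ) *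
      (∑ u : (ZMod p)ˣ, if ∃ x : hS.E, (u : ZMod p) * val₀ hS.E x = w then c u else 0) *
      (L * M) i j := by
    have hmem : ∀ g, g ∈ Cs ↔ g ∈ Subgroup.centralizer (hS.P : Set G) := fun g => by
      simp only [hCs, Finset.mem_filter, Finset.mem_univ, true_and]
      rw [hS.centralizer_singleton hy₁mem hy₁1]
    rw [Finset.sum_subtype Cs hmem, ← (Equiv.ofBijective _ hS.bijective_prod).sum_comp,
      Fintype.sum_prod_type, ← Finset.add_sum_erase _ _ (Finset.mem_univ (1 : hS.P))]
    simp only [Equiv.ofBijective_apply]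
    rw [Finset.sum_eq_zero fun z _ => ?_, zero_add]
    swap
    · simp only [hf, OneMemClass.coe_one, one_mul]
      rw [hA0 _ fun h => hS.not_dvd_center (h.trans (Subgroup.orderOf_dvd_natCard _ z.2)), zero_mul]
    have hterm : ∀ y ∈ Finset.univ.erase (1 : hS.P), (∑ z : Subgroup.center G, f ((y : G) * z)) =
        (Nat.card (Subgroup.center G) : ℂ) * (δ : ℂ) *
          ((∑ u, c u * eta hS.E (-(u : ZMod p)) (hS.k y)) * ψc (w * hS.k y)) * (L * M) i j := by
      intro y hy
      have hone : ∀ z : Subgroup.center G, f ((y : G) * z) = (δ : ℂ) *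
          ((∑ u, c u * eta hS.E (-(u : ZMod p)) (hS.k y)) * ψc (w * hS.k y)) * (L * M) i j :=
        fun z => by
          simp only [hf]
          rw [hAyz y (Finset.ne_of_mem_erase hy), map_mul R, hz, Matrix.mul_smul, Matrix.mul_one,
            Matrix.mul_smul, Matrix.smul_mul, heig, Matrix.smul_apply, Matrix.smul_apply,
            smul_eq_mul, smul_eq_mul]
          linear_combination ((δ : ℂ) * (∑ u, c u * eta hS.E (-(u : ZMod p)) (hS.k y)) *
            ψc (w * hS.k y) * (L * M) i j) * hom_mul_conj lam z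
      rw [Finset.sum_congr rfl fun z _ => hone z, Finset.sum_const, Finset.card_univ,
        nsmul_eq_mul, ← Nat.card_eq_fintype_card]
      ring
    rw [Finset.sum_congr rfl hterm, ← Finset.sum_mul, ← Finset.mul_sum,
      hS.sum_P_erase (fun x => (∑ u, c u * eta hS.E (-(u : ZMod p)) x) * ψc (w * x))]
    congr 1
    rw [mul_assoc _ (p : ℂ)]
    congr 1
    rw [Finset.sum_erase_eq_sub (Finset.mem_univ _),
      show (∑ u, c u * eta hS.E (-(u : ZMod p)) 0) = 0 by
        simp only [eta_zero, ← Finset.sum_mul, hc, zero_mul], zero_mul, sub_zero, Finset.mul_sum]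
    simp only [Finset.sum_mul]
    rw [Finset.sum_comm]
    refine Finset.sum_congr rfl fun u _ => ?_
    simp only [mul_assoc, ← Finset.mul_sum]
    simp only [eta, Finset.sum_mul, ← AddChar.map_add_eq_mul]
    rw [Finset.sum_comm, Finset.sum_congr rfl fun x _ => by
      rw [Finset.sum_congr rfl fun y _ => by
        rw [show -(u : ZMod p) * val₀ hS.E x * y + w * y = (w - (u : ZMod p) * val₀ hS.E x) * y by
          ring], sum_std]]
    simp only [sub_eq_zero, eq_comm (a := w)]
    by_cases hw : ∃ x : hS.E, (u : ZMod p) * val₀ hS.E x = w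
    · obtain ⟨x, hx⟩ := hw
      rw [if_pos ⟨x, hx⟩, Finset.sum_eq_single x, if_pos hx, mul_comm]
      · intro x' _ hne
        exact if_neg fun h => hne (Subtype.ext (Units.ext
          (mul_left_cancel₀ u.ne_zero (h.trans hx.symm))))
      · simp
    · rw [if_neg hw, mul_zero, Finset.sum_eq_zero fun x _ => if_neg fun h => hw ⟨x, h⟩, mul_zero]
  have htot : (L * (∑ g, A g • R g) * M) i j = ∑ g, f g := by
    simp only [Matrix.mul_sum, Finset.sum_mul, Matrix.sum_apply, Matrix.mul_smul, Matrix.smul_mul,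
      Matrix.smul_apply, smul_eq_mul, hf]
  rw [htot, ← Finset.sum_add_sum_compl Cs f, hin, add_sub_cancel_left]
  exact houter

end Cfsg.Lib.Feit
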