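import Cfsg.Agent.Lib.Feit.Cyclo

/-!
# Periods at a place over `p`

Valuations of differences of roots of unity of order `p`, the two leading terms of a period, and the
integrality of divided differences.
-/

set_option autoImplicit false
set_option linter.unusedSectionVars false
set_option maxHeartbeats 1000000

namespace Cfsg.Lib.Feit

open Finset
open scoped Polynomial

variable {p : ℕ} [hp : Fact p.Prime] (V : ValuationSubring ℂ)

local notation "ψc" => (ZMod.stdAddChar : AddChar (ZMod p) ℂ)

/-- The value of `ζ - 1`. -/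
noncomputable def gam : V.ValueGroup := V.valuation (ψc 1 - 1)

theorem std_pow (a : ZMod p) : ψc a = ψc 1 ^ a.val := by
  rw [← AddChar.map_nsmul_eq_pow, nsmul_one, ZMod.natCast_zmod_val]

theorem std_inj {a b : ZMod p} (h : ψc a = ψc b) : a = b := ZMod.injective_stdAddChar h

theorem val_std (a : ZMod p) : V.valuation (ψc a) = 1 := by
  refine (pow_eq_one_iff.1 (?_ : V.valuation (ψc a) ^ p = 1)).resolve_right hp.out.ne_zero
  rw [← map_pow, ← AddChar.map_nsmul_eq_pow, ← Nat.cast_smul_eq_nsmul (ZMod p), ZMod.natCast_self,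
    zero_smul, AddChar.map_zero_eq_one, map_one]

theorem std_mem (a : ZMod p) : ψc a ∈ V :=
  (V.valuation_le_one_iff _).1 (val_std V a).le

theorem val_std_sub_one_le (a : ZMod p) : V.valuation (ψc a - 1) ≤ gam (p := p) V := by
  rw [std_pow a, ← geom_sum_mul, map_mul]
  exact mul_le_of_le_one_left' ((V.valuation_le_one_iff _).2
    (sum_mem fun i _ => pow_mem (std_mem V 1) i))

theorem val_std_sub_one {a : ZMod p} (ha : a ≠ 0) : V.valuation (ψc a - 1) = gam (p := p) V := by
  refine le_antisymm (val_std_sub_one_le V a) ?_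
  have h : ψc 1 = ψc a ^ (a⁻¹).val := by
    rw [← AddChar.map_nsmul_eq_pow, nsmul_eq_mul, ZMod.natCast_zmod_val, inv_mul_cancel₀ ha]
  rw [gam, h, ← geom_sum_mul, map_mul]
  exact mul_le_of_le_one_left' ((V.valuation_le_one_iff _).2
    (sum_mem fun i _ => pow_mem (std_mem V a) i))

theorem val_std_sub {a b : ZMod p} (h : a ≠ b) :
    V.valuation (ψc a - ψc b) = gam (p := p) V := by
  rw [show ψc a - ψc b = ψc b * (ψc (a - b) - 1) by
    rw [mul_sub, mul_one, ← AddChar.map_add_eq_mul, add_sub_cancel], map_mul, val_std, one_mul,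
    val_std_sub_one V (sub_ne_zero.2 h)]

theorem prod_one_sub_std : ∏ a ∈ univ.erase (0 : ZMod p), (1 - ψc a) = (p : ℂ) := by
  have h1 : ψc 1 ≠ 1 := fun h => one_ne_zero (std_inj (h.trans (AddChar.map_zero_eq_one _).symm))
  have hprim : IsPrimitiveRoot (ψc 1) p := by
    have hord : orderOf (ψc 1) = p := orderOf_eq_prime (by
      rw [← AddChar.map_nsmul_eq_pow, nsmul_one, ZMod.natCast_self, AddChar.map_zero_eq_one]) h1
    have h := IsPrimitiveRoot.orderOf (ψc 1)
    rwa [hord] at h
  have himg : primitiveRoots p ℂ = (univ.erase (0 : ZMod p)).image ψc := by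
    ext μ
    rw [mem_primitiveRoots hp.out.pos]
    constructor
    · intro hμ
      obtain ⟨i, -, rfl⟩ := hprim.eq_pow_of_pow_eq_one hμ.pow_eq_one
      refine mem_image.2 ⟨(i : ZMod p), mem_erase.2 ⟨fun h => ?_, mem_univ _⟩, ?_⟩
      · refine hμ.ne_one hp.out.one_lt ?_
        rw [← AddChar.map_nsmul_eq_pow, nsmul_one, h, AddChar.map_zero_eq_one]
      · rw [← AddChar.map_nsmul_eq_pow, nsmul_one]
    · intro hμ
      obtain ⟨a, ha, rfl⟩ := mem_image.1 hμ
      rw [std_pow a]
      refine hprim.pow_of_coprime _ (hp.out.coprime_iff_not_dvd.2 fun hd => ?_).symm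
      exact (mem_erase.1 ha).1 ((ZMod.val_eq_zero a).1
        (Nat.eq_zero_of_dvd_of_lt hd (ZMod.val_lt a)))
  have hev := congrArg (Polynomial.eval (1 : ℂ)) (Polynomial.cyclotomic_eq_prod_X_sub_primitiveRoots
    (K := ℂ) hprim)
  rw [Polynomial.eval_one_cyclotomic_prime, Polynomial.eval_prod, himg,
    prod_image fun a _ b _ h => std_inj h] at hev
  simp only [Polynomial.eval_sub, Polynomial.eval_X, Polynomial.eval_C] at hev
  exact hev.symm

theorem val_natCast_p : V.valuation (p : ℂ) = gam (p := p) V ^ (p - 1) := by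
  rw [← prod_one_sub_std, map_prod, prod_congr rfl fun a ha => by
    rw [Valuation.map_sub_swap, val_std_sub_one V (mem_erase.1 ha).1], prod_const,
    card_erase_of_mem (mem_univ _), card_univ, ZMod.card]

theorem gam_ne_zero : gam (p := p) V ≠ 0 := by
  rw [gam, Valuation.ne_zero_iff, sub_ne_zero]
  exact fun h => one_ne_zero (std_inj (h.trans (AddChar.map_zero_eq_one _).symm))

variable (hV : (p : ℂ) ∈ V.nonunits)

include hV in
theorem val_p_lt : V.valuation (p : ℂ) < 1 := (V.mem_nonunits_iff).1 hV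

include hV in
theorem gam_lt_one : gam (p := p) V < 1 := by
  by_contra h
  have h2 := val_p_lt V hV
  rw [val_natCast_p] at h2
  exact absurd h2 (not_lt.2 (one_le_pow₀ (not_lt.1 h)))

theorem val_natCast_le (n : ℕ) : V.valuation (n : ℂ) ≤ 1 :=
  (V.valuation_le_one_iff _).2 (natCast_mem V n)

theorem val_intCast_le (n : ℤ) : V.valuation (n : ℂ) ≤ 1 :=
  (V.valuation_le_one_iff _).2 (intCast_mem V n)

include hV in
theorem val_intCast {n : ℤ} (h : (n : ZMod p) ≠ 0) : V.valuation (n : ℂ) = 1 := by
  refine le_antisymm (val_intCast_le V n) ?_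
  have hc : IsCoprime n (p : ℤ) := by
    refine ((Nat.prime_iff_prime_int.1 hp.out).coprime_iff_not_dvd.2 fun hd => h ?_).symm
    exact (ZMod.intCast_zmod_eq_zero_iff_dvd n p).2 hd
  obtain ⟨a, b, hab⟩ := hc
  by_contra hlt
  have h1 : V.valuation ((a * n + b * p : ℤ) : ℂ) < 1 := by
    push_cast
    refine Valuation.map_add_lt _ ?_ ?_
    · rw [map_mul]
      exact mul_lt_one_of_nonneg_of_lt_one_right (val_intCast_le V a) zero_le (not_le.1 hlt)
    · rw [map_mul]
      exact mul_lt_one_of_nonneg_of_lt_one_right (val_intCast_le V b) zero_le (val_p_lt V hV)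
  rw [hab, Int.cast_one, map_one] at h1
  exact lt_irrefl _ h1

include hV in
theorem val_natCast {n : ℕ} (h : (n : ZMod p) ≠ 0) : V.valuation (n : ℂ) = 1 := by
  simpa using val_intCast V hV (n := (n : ℤ)) (by rwa [Int.cast_natCast])

theorem val_of_dvd {n : ℤ} (h : (n : ZMod p) = 0) :
    V.valuation (n : ℂ) ≤ gam (p := p) V ^ (p - 1) := by
  obtain ⟨m, rfl⟩ := (ZMod.intCast_zmod_eq_zero_iff_dvd n p).1 h
  rw [Int.cast_mul, map_mul, Int.cast_natCast, val_natCast_p]
  exact mul_le_of_le_one_right' (val_intCast_le V m)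

/-! ## The leading terms of a period -/

variable (E : Subgroup (ZMod p)ˣ)

noncomputable local instance fintypePeriods : Fintype E := Fintype.ofFinite E

theorem sum_pow_subgroup {i : ℕ} (hi0 : 0 < i) (hi : i < 2 * Nat.card E) :
    ∑ x : E, val₀ E x ^ i = if i = Nat.card E then (Nat.card E : ZMod p) else 0 := by
  classical
  let f : E →* ZMod p :=
    (powMonoidHom i : ZMod p →* ZMod p).comp ((Units.coeHom (ZMod p)).comp E.subtype)
  have h := sum_hom_units f
  rw [show ∑ x : E, val₀ E x ^ i = ∑ x : E, f x from rfl, h]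
  by_cases hie : i = Nat.card E
  · rw [if_pos hie, if_pos, Nat.card_eq_fintype_card]
    ext x
    show val₀ E x ^ i = 1
    have hx : x ^ i = 1 := by rw [hie]; exact pow_card_eq_one'
    have := congrArg (fun w : E => val₀ E w) hx
    simpa [val₀] using this
  · rw [if_neg hie, if_neg, Nat.cast_zero]
    intro hf
    obtain ⟨g, hg⟩ := IsCyclic.exists_generator (α := E)
    have hd : orderOf g ∣ i := by
      refine orderOf_dvd_of_pow_eq_one (Subtype.ext (Units.ext ?_))
      have : f g = 1 := by rw [hf]; rfl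
      simpa [f, val₀] using this
    rw [orderOf_eq_card_of_forall_mem_zpowers hg] at hd
    obtain ⟨c, rfl⟩ := hd
    rcases Nat.lt_or_ge c 2 with hc | hc
    · interval_cases c
      · omega
      · exact hie (mul_one _)
    · have := Nat.mul_le_mul_left (Nat.card E) hc
      omega

include hV in
/-- A period is a constant and a multiple of the `e`-th power, modulo `(ζ - 1) ^ (2 e)`. -/
theorem exists_eta_expansion (he : 2 * Nat.card E < p) :
    ∃ C : ℂ, V.valuation C = gam (p := p) V ^ Nat.card E ∧ ∀ a y : ZMod p, ∃ r : ℂ,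
      V.valuation r ≤ gam (p := p) V ^ (2 * Nat.card E) ∧
      eta E a y = (Nat.card E : ℂ) + C * (((a * y) ^ Nat.card E).val : ℂ) + r := by
  classical
  set e := Nat.card E with hedef
  have he0 : 0 < e := Nat.card_pos
  set π : ℂ := ψc 1 - 1 with hπ
  have hπv : V.valuation π = gam (p := p) V := rfl
  set γ := gam (p := p) V
  have hγ1 : γ ≤ 1 := (gam_lt_one V hV).le
  let P : ℕ → Polynomial (ZMod p) := fun l =>
    Polynomial.C ((l.factorial : ZMod p)⁻¹) * descPochhammer (ZMod p) l
  have hfac : ∀ l, l < p → (l.factorial : ZMod p) ≠ 0 := fun l hl h =>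
    absurd ((hp.out.dvd_factorial).1 ((ZMod.natCast_eq_zero_iff _ _).1 h)) (not_le.2 hl)
  have hch : ∀ l, l < p → ∀ n : ℕ, (Nat.choose n l : ZMod p) = (P l).eval (n : ZMod p) :=
    fun l hl n => by
      rw [Polynomial.eval_mul, Polynomial.eval_C, descPochhammer_eval_eq_descFactorial,
        Nat.descFactorial_eq_factorial_mul_choose, Nat.cast_mul, ← mul_assoc,
        inv_mul_cancel₀ (hfac l hl), one_mul]
  have hdeg : ∀ l, (P l).natDegree ≤ l := fun l =>
    (Polynomial.natDegree_C_mul_le _ _).trans (descPochhammer_natDegree (ZMod p) l).le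
  let c : ℕ → ZMod p := fun l => (e : ZMod p) * (P l).coeff e
  have hsum : ∀ l, 0 < l → l < 2 * e → ∀ z : ZMod p,
      ∑ x : E, (Nat.choose (z * val₀ E x).val l : ZMod p) = c l * z ^ e := by
    intro l hl0 hl z
    simp only [hch l (by omega), ZMod.natCast_zmod_val]
    simp only [Polynomial.eval_eq_sum_range' (n := 2 * e) (lt_of_le_of_lt (hdeg l) hl)]
    rw [Finset.sum_comm, Finset.sum_eq_single e]
    · simp only [mul_pow, ← Finset.mul_sum, sum_pow_subgroup E he0 (by omega : e < 2 * Nat.card E),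
        ← hedef, if_true, c]
      ring
    · intro i hi hne
      rw [mem_range] at hi
      rcases Nat.eq_zero_or_pos i with rfl | hi0
      · have h0 : (P l).coeff 0 = 0 := by
          rw [Polynomial.coeff_zero_eq_eval_zero, Polynomial.eval_mul, descPochhammer_eval_zero,
            if_neg hl0.ne', mul_zero]
        simp [h0]
      · simp only [mul_pow, ← Finset.mul_sum]
        rw [sum_pow_subgroup E hi0 (by omega : i < 2 * Nat.card E), if_neg hne, mul_zero, mul_zero]
    · intro h
      exact absurd (mem_range.2 (by omega)) h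
  set C : ℂ := ∑ l ∈ Ico 1 (2 * e), ((c l).val : ℂ) * π ^ l with hC
  refine ⟨C, ?_, fun a y => ?_⟩
  · have hzero : ∀ l ∈ Ico 1 (2 * e), l < e → ((c l).val : ℂ) * π ^ l = 0 := fun l _ hl => by
      have : (P l).coeff e = 0 :=
        Polynomial.coeff_eq_zero_of_natDegree_lt (lt_of_le_of_lt (hdeg l) hl)
      simp [c, this]
    have hce : c e ≠ 0 := by
      refine mul_ne_zero (fun h => ?_) ?_
      · have := Nat.le_of_dvd he0 ((ZMod.natCast_eq_zero_iff _ _).1 h)
        omega
      · rw [Polynomial.coeff_C_mul,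
          show (descPochhammer (ZMod p) e).coeff e = 1 by
            have h := (monic_descPochhammer (ZMod p) e).coeff_natDegree
            rwa [descPochhammer_natDegree] at h, mul_one]
        exact inv_ne_zero (hfac e (by omega))
    rw [hC, ← Finset.add_sum_erase _ _ (mem_Ico.2 ⟨he0, by omega⟩ : e ∈ Ico 1 (2 * e))]
    have hlead : V.valuation (((c e).val : ℂ) * π ^ e) = γ ^ e := by
      rw [map_mul, map_pow, hπv, val_natCast V hV (by rw [ZMod.natCast_zmod_val]; exact hce), one_mul]
    rw [Valuation.map_add_eq_of_lt_left, hlead]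
    rw [hlead]
    refine lt_of_le_of_lt (Valuation.map_sum_le _ (g := γ ^ (e + 1)) fun l hl => ?_)
      (pow_lt_pow_right_of_lt_one₀ (zero_lt_iff.2 (gam_ne_zero V)) (gam_lt_one V hV) (by omega))
    obtain ⟨hne, hl'⟩ := mem_erase.1 hl
    rcases lt_or_gt_of_ne hne with h | h
    · rw [hzero l hl' h, map_zero]; exact zero_le
    · rw [map_mul, map_pow, hπv]
      exact (mul_le_of_le_one_left' (val_natCast_le V _)).trans
        (pow_le_pow_right_of_le_one' hγ1 (by omega))
  · set z := a * y with hz
    have hexp : eta E a y = ∑ l ∈ range p,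
        ((∑ x : E, Nat.choose (z * val₀ E x).val l : ℕ) : ℂ) * π ^ l := by
      simp only [Nat.cast_sum, Finset.sum_mul]
      rw [Finset.sum_comm, eta]
      refine Finset.sum_congr rfl fun x _ => ?_
      rw [show a * val₀ E x * y = z * val₀ E x by rw [hz]; ring, std_pow,
        show ψc 1 = π + 1 by rw [hπ]; ring, add_pow]
      refine (Finset.sum_subset (by
        intro l hl
        rw [mem_range] at hl ⊢
        have := ZMod.val_lt (z * val₀ E x)
        omega) fun l _ hl => ?_).trans (Finset.sum_congr rfl fun l _ => by ring)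
      rw [mem_range] at hl
      rw [Nat.choose_eq_zero_of_lt (by omega)]
      simp
    refine ⟨eta E a y - (e : ℂ) - C * ((z ^ e).val : ℂ), ?_, by ring⟩
    have hsplit : range p = insert 0 (Ico 1 (2 * e)) ∪ Ico (2 * e) p := by
      ext l
      simp only [mem_range, mem_union, mem_insert, mem_Ico]
      omega
    rw [hexp, hsplit, Finset.sum_union (by
      rw [Finset.disjoint_left]
      intro l hl hl'
      simp only [mem_insert, mem_Ico] at hl hl'
      omega), Finset.sum_insert (by simp)]
    have h0 : ((∑ x : E, Nat.choose (z * val₀ E x).val 0 : ℕ) : ℂ) * π ^ 0 = (e : ℂ) := by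
      simp [hedef, Nat.card_eq_fintype_card]
    rw [h0, hC, Finset.sum_mul,
      show ∀ A B D : ℂ, (e : ℂ) + A + B - e - D = (A - D) + B from fun A B D => by ring,
      ← Finset.sum_sub_distrib]
    refine Valuation.map_add_le _ (Valuation.map_sum_le _ fun l hl => ?_)
      (Valuation.map_sum_le _ fun l hl => ?_)
    · rw [mem_Ico] at hl
      rw [show ((∑ x : E, Nat.choose (z * val₀ E x).val l : ℕ) : ℂ) * π ^ l -
          ((c l).val : ℂ) * π ^ l * ((z ^ e).val : ℂ) =
          (((∑ x : E, Nat.choose (z * val₀ E x).val l : ℕ) : ℤ) -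
            ((c l).val : ℤ) * ((z ^ e).val : ℤ) : ℤ) * π ^ l by push_cast; ring, map_mul]
      refine (mul_le_of_le_one_right' ?_).trans ((val_of_dvd V ?_).trans
        (pow_le_pow_right_of_le_one' hγ1 (by omega)))
      · rw [map_pow, hπv]; exact pow_le_one' hγ1 l
      · push_cast
        rw [hsum l (by omega) (by omega)]
        simp
    · rw [mem_Ico] at hl
      rw [map_mul, map_pow, hπv]
      exact (mul_le_of_le_one_left' (val_natCast_le V _)).trans
        (pow_le_pow_right_of_le_one' hγ1 hl.1)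

/-! ## Divided differences -/

/-- A function of the roots of unity given by a polynomial with integral coefficients. -/
def IsIntPoly (f : ZMod p → ℂ) : Prop :=
  ∃ P : Polynomial V, ∀ a, f a = (P.map V.subtype).eval (ψc a)

variable {V} {f g : ZMod p → ℂ}

theorem IsIntPoly.const {c : ℂ} (h : c ∈ V) : IsIntPoly (p := p) V fun _ => c :=
  ⟨Polynomial.C ⟨c, h⟩, fun a => by simp⟩

theorem IsIntPoly.std : IsIntPoly (p := p) V fun a => ψc a := ⟨Polynomial.X, fun a => by simp⟩

theorem IsIntPoly.add (hf : IsIntPoly V f) (hg : IsIntPoly V g) :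
    IsIntPoly V fun a => f a + g a := by
  obtain ⟨P, hP⟩ := hf
  obtain ⟨Q, hQ⟩ := hg
  exact ⟨P + Q, fun a => by simp [hP, hQ]⟩

theorem IsIntPoly.mul (hf : IsIntPoly V f) (hg : IsIntPoly V g) :
    IsIntPoly V fun a => f a * g a := by
  obtain ⟨P, hP⟩ := hf
  obtain ⟨Q, hQ⟩ := hg
  exact ⟨P * Q, fun a => by simp [hP, hQ]⟩

theorem IsIntPoly.sum {ι : Type*} (s : Finset ι) {F : ι → ZMod p → ℂ}
    (h : ∀ i ∈ s, IsIntPoly V (F i)) : IsIntPoly V fun a => ∑ i ∈ s, F i a := by
  induction s using Finset.cons_induction with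
  | empty => simpa using IsIntPoly.const (p := p) (V.zero_mem)
  | cons i s hi ih =>
    simp only [Finset.sum_cons]
    exact (h i (mem_cons_self i s)).add (ih fun j hj => h j (mem_cons_of_mem hj))

theorem IsIntPoly.prod {ι : Type*} (s : Finset ι) {F : ι → ZMod p → ℂ}
    (h : ∀ i ∈ s, IsIntPoly V (F i)) : IsIntPoly V fun a => ∏ i ∈ s, F i a := by
  induction s using Finset.cons_induction with
  | empty => simpa using IsIntPoly.const (p := p) (V.one_mem)
  | cons i s hi ih =>
    simp only [Finset.prod_cons]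
    exact (h i (mem_cons_self i s)).mul (ih fun j hj => h j (mem_cons_of_mem hj))

theorem IsIntPoly.pow (hf : IsIntPoly V f) (n : ℕ) : IsIntPoly V fun a => f a ^ n := by
  obtain ⟨P, hP⟩ := hf
  exact ⟨P ^ n, fun a => by simp [hP]⟩

theorem IsIntPoly.std_sub (b : ZMod p) : IsIntPoly (p := p) V fun a => ψc a - ψc b := by
  simpa [sub_eq_add_neg] using IsIntPoly.std.add
    (IsIntPoly.const (p := p) (V.neg_mem _ (std_mem V b)))

theorem IsIntPoly.comp_sub (hf : IsIntPoly V f) (w : ZMod p) :
    IsIntPoly V fun a => f (w - a) := by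
  obtain ⟨P, hP⟩ := hf
  refine ⟨P.comp (Polynomial.C ⟨ψc w, std_mem V w⟩ * Polynomial.X ^ (p - 1)), fun a => ?_⟩
  show f (w - a) = _
  rw [hP, Polynomial.map_comp, Polynomial.eval_comp]
  congr 1
  simp only [Polynomial.map_mul, Polynomial.map_C, Polynomial.map_pow, Polynomial.map_X,
    Polynomial.eval_mul, Polynomial.eval_C, Polynomial.eval_pow, Polynomial.eval_X]
  show ψc (w - a) = ψc w * ψc a ^ (p - 1)
  rw [← AddChar.map_nsmul_eq_pow, ← AddChar.map_add_eq_mul, nsmul_eq_mul,
    Nat.cast_sub hp.out.one_le, ZMod.natCast_self]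
  congr 1
  ring

theorem IsIntPoly.val_le (hf : IsIntPoly V f) (a : ZMod p) : V.valuation (f a) ≤ 1 := by
  obtain ⟨P, hP⟩ := hf
  rw [hP, V.valuation_le_one_iff, ← show V.subtype ⟨ψc a, std_mem V a⟩ = ψc a from rfl,
    Polynomial.eval_map_apply]
  exact (P.eval _).2

theorem IsIntPoly.val_sub_le (hf : IsIntPoly V f) (a b : ZMod p) :
    V.valuation (f a - f b) ≤ gam (p := p) V := by
  obtain ⟨P, hP⟩ := hf
  rw [hP, hP, ← show V.subtype ⟨ψc a, std_mem V a⟩ = ψc a from rfl,
    ← show V.subtype ⟨ψc b, std_mem V b⟩ = ψc b from rfl, Polynomial.eval_map_apply,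
    Polynomial.eval_map_apply, ← map_sub]
  obtain ⟨c, hc⟩ := Polynomial.sub_dvd_eval_sub (⟨ψc a, std_mem V a⟩ : V) ⟨ψc b, std_mem V b⟩ P
  rw [hc, map_mul, map_mul]
  refine (mul_le_of_le_one_right' ((V.valuation_le_one_iff _).2 c.2)).trans ?_
  show V.valuation (ψc a - ψc b) ≤ _
  rcases eq_or_ne a b with rfl | h
  · rw [sub_self, map_zero]; exact zero_le
  · exact (val_std_sub V h).le

/-- Divided differences are integral. -/
theorem IsIntPoly.val_divided_le (hf : IsIntPoly V f) (T : Finset (ZMod p)) :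
    V.valuation (∑ a ∈ T, f a / ∏ b ∈ T.erase a, (ψc a - ψc b)) ≤ 1 := by
  obtain ⟨P, hP⟩ := hf
  rcases T.eq_empty_or_nonempty with rfl | hT
  · simp
  let xV : ZMod p → V := fun a => ⟨ψc a, std_mem V a⟩
  set N : Polynomial V := ∏ b ∈ T, (Polynomial.X - Polynomial.C (xV b)) with hN
  have hNm : N.Monic := Polynomial.monic_prod_of_monic _ _ fun b _ => Polynomial.monic_X_sub_C _
  have hNdeg : N.natDegree = T.card := by
    rw [hN, Polynomial.natDegree_prod_of_monic _ _ fun b _ => Polynomial.monic_X_sub_C _]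
    simp
  set R := P %ₘ N with hR
  have hRdeg : (R.map V.subtype).degree < (T.card : ℕ) := by
    refine lt_of_le_of_lt Polynomial.degree_map_le ?_
    refine lt_of_lt_of_le (Polynomial.degree_modByMonic_lt P hNm) ?_
    rw [← hNdeg]
    exact Polynomial.degree_le_natDegree
  have heval : ∀ a ∈ T, (R.map V.subtype).eval (ψc a) = f a := fun a ha => by
    rw [hP, show ψc a = V.subtype (xV a) from rfl, Polynomial.eval_map_apply,
      Polynomial.eval_map_apply]
    congr 1
    have h := congrArg (Polynomial.eval (xV a)) (Polynomial.modByMonic_add_div (p := P) N)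
    rw [Polynomial.eval_add, Polynomial.eval_mul, show N.eval (xV a) = 0 by
      rw [hN, Polynomial.eval_prod]
      exact Finset.prod_eq_zero ha (by simp), zero_mul, add_zero] at h
    exact h
  rw [Finset.sum_congr rfl (g := fun a => (R.map V.subtype).eval (ψc a) /
      ∏ b ∈ T.erase a, (ψc a - ψc b)) fun a ha => by rw [heval a ha],
    ← Lagrange.coeff_eq_sum (fun a _ b _ h => std_inj h) hRdeg, Polynomial.coeff_map,
    V.valuation_le_one_iff]
  exact (R.coeff _).2

include hV in
/-- The sum over all roots is divisible by `p`. -/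
theorem IsIntPoly.val_sum_le (hf : IsIntPoly V f) :
    V.valuation (∑ a, f a) ≤ gam (p := p) V ^ (p - 1) := by
  obtain ⟨P, hP⟩ := hf
  simp only [hP, Polynomial.eval_map, Polynomial.eval₂_eq_sum_range]
  rw [Finset.sum_comm]
  refine Valuation.map_sum_le _ fun i _ => ?_
  rw [← Finset.mul_sum, map_mul]
  refine (mul_le_of_le_one_left' ((V.valuation_le_one_iff _).2 (P.coeff i).2)).trans ?_
  simp only [← AddChar.map_nsmul_eq_pow, nsmul_eq_mul]
  rw [sum_std]
  split_ifs
  · exact (val_natCast_p V).le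
  · rw [map_zero]; exact zero_le

end Cfsg.Lib.Feit
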