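import Cfsg.Agent.Lib.Feit.Cyclo
import Cfsg.Agent.Lib.Block.CentralDefect
import Cfsg.Agent.Lib.Block.CyclicPrimeLocal
import Cfsg.Agent.Lib.Char.AbelianInertia
import Cfsg.Agent.Lib.Char.Orthogonality
import Cfsg.Agent.Lib.Char.Induced

/-!
# Groups whose centralizer of a Sylow subgroup of order `p` is `P × Z`

The inner products of class functions are split into the contributions of the `p`-singular
elements, which are computed in `P`, and the multiplicities in the fixed points of `P` are read off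
a complement in the normalizer.
-/

set_option autoImplicit false
set_option linter.unusedSectionVars false
set_option linter.style.haveILetI false
set_option maxHeartbeats 1000000

namespace Cfsg.Lib.Feit

open Cfsg Cfsg.Lib.Char
open scoped ComplexConjugate Classical

universe u

noncomputable local instance (priority := high) fintypeSubgroupFeit {A : Type u}
    [Group A] [Fintype A] (K : Subgroup A) : Fintype K := Fintype.ofFinite K

local notation "C[" P "]" => Subgroup.centralizer (SetLike.coe P)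

variable {p : ℕ} [Fact p.Prime] {G : Type u} [Group G] [Fintype G]

/-- The data of a Sylow subgroup of order `p` with centralizer `P × Z`. -/
structure Setting (p : ℕ) [Fact p.Prime] (G : Type u) [Group G] [Fintype G] where
  P : Subgroup G
  H : Subgroup G
  k : P ≃ ZMod p
  r : H →* (ZMod p)ˣ
  card : Nat.card P = p
  fac : (Nat.card G).factorization p = 1
  cent : Subgroup.centralizer (P : Set G) = P ⊔ Subgroup.center G
  inf : P ⊓ Subgroup.center G = ⊥
  k_add : ∀ y z : P, k (y * z) = k y + k z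
  H_le : H ≤ Subgroup.normalizer (P : Set G)
  compl : ∀ g ∈ Subgroup.normalizer (P : Set G), ∃ y ∈ P, ∃ h ∈ H, g = y * h
  H_inf : P ⊓ H = ⊥
  center_le : Subgroup.center G ≤ H
  act : ∀ (h : H) (y y' : P), (y' : G) = h * y * (h : G)⁻¹ → k y' = (r h : ZMod p) * k y
  r_ker : ∀ h : H, r h = 1 ↔ (h : G) ∈ Subgroup.center G

variable (hS : Setting p G)

/-- The image of the action of the normalizer. -/
abbrev Setting.E : Subgroup (ZMod p)ˣ := hS.r.range

theorem Setting.k_one : hS.k 1 = 0 := by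
  have h := hS.k_add 1 1
  rw [one_mul] at h
  exact left_eq_add.1 h

theorem Setting.k_ne {y : hS.P} (hy : y ≠ 1) : hS.k y ≠ 0 := fun h =>
  hy (hS.k.injective (h.trans hS.k_one.symm))

theorem Setting.orderOf_mem {y : G} (hy : y ∈ hS.P) (h1 : y ≠ 1) : orderOf y = p :=
  ((Nat.dvd_prime (Fact.out : p.Prime)).1
    (hS.card ▸ Subgroup.orderOf_dvd_natCard hS.P hy)).resolve_left
    fun h => h1 (orderOf_eq_one_iff.1 h)

include hS in
theorem Setting.not_dvd_center : ¬ p ∣ Nat.card (Subgroup.center G) := by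
  have hpp : p.Prime := Fact.out
  intro h
  obtain ⟨⟨z, hz⟩, hzo⟩ := exists_prime_orderOf_dvd_card' p h
  rw [Subgroup.orderOf_mk] at hzo
  have hdisj : Disjoint hS.P (Subgroup.zpowers z) :=
    (disjoint_iff.2 hS.inf).mono_right (Subgroup.zpowers_le.2 hz)
  have hle : p * p ∣ Nat.card G := by
    have hcard : Nat.card (hS.P ⊔ Subgroup.zpowers z : Subgroup G) = p * p := by
      let f : hS.P × Subgroup.zpowers z → (hS.P ⊔ Subgroup.zpowers z : Subgroup G) := fun q =>
        ⟨(q.1 : G) * q.2, Subgroup.mul_mem_sup q.1.2 q.2.2⟩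
      have hf : Function.Bijective f := by
        refine ⟨fun q q' h => Subgroup.mul_injective_of_disjoint hdisj (congrArg Subtype.val h), ?_⟩
        rintro ⟨g, hg⟩
        have hnorm : ∀ y ∈ hS.P, y ∈ Subgroup.normalizer (Subgroup.zpowers z : Set G) := fun y _ => by
          refine Subgroup.mem_normalizer_iff.2 fun w => ?_
          constructor
          · intro hw
            have hwc : w ∈ Subgroup.center G := Subgroup.zpowers_le.2 hz hw
            rwa [Subgroup.mem_center_iff.1 hwc y, mul_inv_cancel_right]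
          · intro hw
            have hwc : y * w * y⁻¹ ∈ Subgroup.center G := Subgroup.zpowers_le.2 hz hw
            have e := Subgroup.mem_center_iff.1 hwc y⁻¹
            simp only [← mul_assoc, inv_mul_cancel, one_mul] at e
            rwa [show y * w * y⁻¹ = w from (mul_right_cancel (e.trans (by group))).symm] at hw
        rw [← SetLike.mem_coe, Subgroup.coe_mul_of_left_le_normalizer_right hS.P (Subgroup.zpowers z)
          fun y hy => hnorm y hy] at hg
        obtain ⟨a, ha, b, hb, rfl⟩ := hg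
        exact ⟨(⟨a, ha⟩, ⟨b, hb⟩), rfl⟩
      rw [← Nat.card_congr (Equiv.ofBijective f hf), Nat.card_prod, hS.card, Nat.card_zpowers, hzo]
    exact hcard ▸ Subgroup.card_subgroup_dvd_card _
  rw [← pow_two] at hle
  have := (Nat.Prime.pow_dvd_iff_le_factorization hpp Nat.card_pos.ne').1 hle
  rw [hS.fac] at this
  omega

theorem Setting.centralizer_singleton {y : G} (hy : y ∈ hS.P) (h1 : y ≠ 1) :
    Subgroup.centralizer ({y} : Set G) = C[hS.P] := by
  rw [← Cfsg.Lib.Block.zpowers_eq_of_mem hS.card hy h1]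
  refine le_antisymm (fun g hg => Subgroup.mem_centralizer_iff.2 fun u hu => ?_) fun g hg =>
    Subgroup.mem_centralizer_singleton_iff.2
      (Subgroup.mem_centralizer_iff.1 hg y (Subgroup.mem_zpowers y)).symm
  obtain ⟨j, rfl⟩ := Subgroup.mem_zpowers_iff.1 hu
  exact ((Commute.zpow_right (Subgroup.mem_centralizer_singleton_iff.1 hg : Commute g y) j).eq).symm

theorem Setting.mem_cent_iff {c : G} :
    c ∈ C[hS.P] ↔ ∃ y ∈ hS.P, ∃ z ∈ Subgroup.center G, y * z = c := by
  rw [hS.cent, Subgroup.mem_sup_of_normal_right]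

theorem Setting.singular_mul {y : hS.P} (hy : y ≠ 1) (z : Subgroup.center G) :
    p ∣ orderOf ((y : G) * z) := by
  have hy1 : (y : G) ≠ 1 := fun h => hy (Subtype.ext h)
  by_contra h
  set o := orderOf ((y : G) * z)
  have hcomm : Commute (y : G) z := Subgroup.mem_center_iff.1 z.2 y
  have h1 : (y : G) ^ o * (z : G) ^ o = 1 := by rw [← hcomm.mul_pow, pow_orderOf_eq_one]
  have h2 : (y : G) ^ o ∈ hS.P ⊓ Subgroup.center G := Subgroup.mem_inf.2
    ⟨pow_mem y.2 o, by rw [eq_inv_of_mul_eq_one_left h1]; exact inv_mem (pow_mem z.2 o)⟩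
  rw [hS.inf, Subgroup.mem_bot, ← orderOf_dvd_iff_pow_eq_one, hS.orderOf_mem y.2 hy1] at h2
  exact h h2

/-- The bijection between `P × Z` and the centralizer. -/
theorem Setting.bijective_prod : Function.Bijective (fun x : hS.P × Subgroup.center G =>
    (⟨(x.1 : G) * x.2, hS.mem_cent_iff.2 ⟨x.1, x.1.2, x.2, x.2.2, rfl⟩⟩ : C[hS.P])) := by
  constructor
  · intro a b h
    exact Subgroup.mul_injective_of_disjoint (disjoint_iff.2 hS.inf) (congrArg Subtype.val h)
  · rintro ⟨c, hc⟩
    obtain ⟨y, hy, z, hz, rfl⟩ := hS.mem_cent_iff.1 hc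
    exact ⟨(⟨y, hy⟩, ⟨z, hz⟩), rfl⟩

theorem Setting.mem_P_of_pow {c : G} (hc : c ∈ C[hS.P]) (h : c ^ p = 1) : c ∈ hS.P := by
  obtain ⟨y, hy, z, hz, rfl⟩ := hS.mem_cent_iff.1 hc
  have hyp : y ^ p = 1 := by
    have := congrArg Subtype.val (pow_card_eq_one' (x := (⟨y, hy⟩ : hS.P)))
    rwa [hS.card, SubmonoidClass.coe_pow] at this
  have hcm : Commute y z := Subgroup.mem_center_iff.1 hz y
  rw [hcm.mul_pow, hyp, one_mul] at h
  rcases (Nat.dvd_prime (Fact.out : p.Prime)).1 (orderOf_dvd_of_pow_eq_one h) with h2 | h2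
  · rw [orderOf_eq_one_iff.1 h2, mul_one]; exact hy
  · exact absurd (h2 ▸ Subgroup.orderOf_dvd_natCard _ hz) hS.not_dvd_center

theorem Setting.conj_cent {c x : G} (hc : c ∈ C[hS.P]) (hs : p ∣ orderOf c)
    (hx : x⁻¹ * c * x ∈ C[hS.P]) : x ∈ Subgroup.normalizer (hS.P : Set G) := by
  obtain ⟨y, hy, z, hz, rfl⟩ := hS.mem_cent_iff.1 hc
  have hy1 : y ≠ 1 := by
    rintro rfl
    rw [one_mul] at hs
    exact hS.not_dvd_center (hs.trans (Subgroup.orderOf_dvd_natCard _ hz))
  set m := Nat.card (Subgroup.center G)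
  have hzm : z ^ m = 1 := orderOf_dvd_iff_pow_eq_one.1 (Subgroup.orderOf_dvd_natCard _ hz)
  have hym : (y * z) ^ m = y ^ m := by
    have hcm : Commute y z := Subgroup.mem_center_iff.1 hz y
    rw [hcm.mul_pow, hzm, mul_one]
  have hym1 : y ^ m ≠ 1 := by
    rw [Ne, ← orderOf_dvd_iff_pow_eq_one, hS.orderOf_mem hy hy1]
    exact hS.not_dvd_center
  have hmem : x⁻¹ * y ^ m * x ∈ hS.P := by
    have h' : x⁻¹ * y ^ m * x = (x⁻¹ * (y * z) * x) ^ m := by
      have := conj_pow (a := x⁻¹) (b := y * z) (i := m)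
      rw [inv_inv, hym] at this
      exact this.symm
    refine hS.mem_P_of_pow (h' ▸ pow_mem hx m) ?_
    have := conj_pow (a := x⁻¹) (b := y ^ m) (i := p)
    rw [inv_inv] at this
    rw [this, ← pow_mul, mul_comm m p, pow_mul, ← hS.orderOf_mem hy hy1, pow_orderOf_eq_one,
      one_pow, mul_one, inv_mul_cancel]
  have hgen : Subgroup.zpowers (y ^ m) = hS.P :=
    Cfsg.Lib.Block.zpowers_eq_of_mem hS.card (pow_mem hy m) hym1
  have hle : hS.P.map (MulAut.conj x⁻¹).toMonoidHom ≤ hS.P := by
    conv_lhs => rw [← hgen]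
    rw [MonoidHom.map_zpowers, Subgroup.zpowers_le]
    simpa using hmem
  have heq : hS.P.map (MulAut.conj x⁻¹).toMonoidHom = hS.P :=
    Subgroup.eq_of_le_of_card_ge hle
      (Nat.card_congr (hS.P.equivMapOfInjective _ (MulAut.conj x⁻¹).injective).toEquiv).le
  rw [← inv_mem_iff (G := G), Subgroup.mem_normalizer_iff]
  intro u
  constructor
  · intro hu
    rw [← heq]
    exact ⟨u, hu, by simp⟩
  · intro hu
    rw [← heq] at hu
    obtain ⟨v, hv, hvu⟩ := hu
    have : v = u := by simpa using hvu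
    exact this ▸ hv

theorem Setting.exists_conj_cent {g : G} (hg : p ∣ orderOf g) :
    ∃ x : G, x⁻¹ * g * x ∈ C[hS.P] := by
  set y₀ := g ^ (orderOf g / p) with hy₀
  have ho : orderOf y₀ = p := orderOf_pow_orderOf_div (orderOf_pos g).ne' hg
  obtain ⟨R, hR⟩ := IsPGroup.exists_le_sylow (p := p) (G := G)
    (IsPGroup.of_card (n := 1) (by rw [Nat.card_zpowers, ho, pow_one]) :
      IsPGroup p (Subgroup.zpowers y₀))
  let S : Sylow p G := Sylow.ofCard hS.P (by rw [hS.fac, hS.card, pow_one])
  obtain ⟨x, hx⟩ := MulAction.exists_smul_eq G R S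
  refine ⟨x⁻¹, ?_⟩
  have hyP : x * y₀ * x⁻¹ ∈ hS.P := by
    show x * y₀ * x⁻¹ ∈ (S : Subgroup G)
    rw [← hx, Sylow.coe_subgroup_smul, Subgroup.mem_pointwise_smul_iff_inv_smul_mem]
    simpa [mul_assoc] using hR (Subgroup.mem_zpowers y₀)
  have hne : x * y₀ * x⁻¹ ≠ 1 := fun h => by
    rw [conj_eq_one_iff] at h
    rw [h, orderOf_one] at ho
    exact (Fact.out : p.Prime).ne_one ho.symm
  rw [← hS.centralizer_singleton hyP hne, Subgroup.mem_centralizer_singleton_iff, inv_inv]
  have hcomm : g * y₀ = y₀ * g := by rw [hy₀]; exact (Commute.self_pow g _).eq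
  calc x * g * x⁻¹ * (x * y₀ * x⁻¹) = x * (g * y₀) * x⁻¹ := by group
    _ = x * (y₀ * g) * x⁻¹ := by rw [hcomm]
    _ = x * y₀ * x⁻¹ * (x * g * x⁻¹) := by group

/-- The product map onto the normalizer. -/
theorem Setting.bijective_normalizer : Function.Bijective (fun x : hS.P × hS.H =>
    (⟨(x.1 : G) * x.2, mul_mem (Subgroup.le_normalizer x.1.2) (hS.H_le x.2.2)⟩ :
      Subgroup.normalizer (hS.P : Set G))) := by
  constructor
  · intro a b h
    exact Subgroup.mul_injective_of_disjoint (disjoint_iff.2 hS.H_inf) (congrArg Subtype.val h)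
  · rintro ⟨g, hg⟩
    obtain ⟨y, hy, h, hh, rfl⟩ := hS.compl g hg
    exact ⟨(⟨y, hy⟩, ⟨h, hh⟩), rfl⟩

theorem Setting.card_E : Nat.card hS.E * Nat.card (Subgroup.center G) = Nat.card hS.H := by
  have hker : hS.r.ker = (Subgroup.center G).subgroupOf hS.H := by
    ext h
    rw [MonoidHom.mem_ker, Subgroup.mem_subgroupOf]
    exact hS.r_ker h
  rw [← Subgroup.card_mul_index hS.r.ker, Subgroup.index_ker, hker,
    Nat.card_congr (Subgroup.subgroupOfEquivOfLe hS.center_le).toEquiv, mul_comm]

theorem Setting.card_normalizer : Nat.card (Subgroup.normalizer (hS.P : Set G)) =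
    Nat.card hS.E * Nat.card C[hS.P] := by
  rw [← Nat.card_congr (Equiv.ofBijective _ hS.bijective_normalizer), Nat.card_prod,
    ← Nat.card_congr (Equiv.ofBijective _ hS.bijective_prod), Nat.card_prod, ← hS.card_E]
  ring

/-- Class functions supported on singular elements are multiples of inductions from the
centralizer. -/
theorem Setting.indFun_singular {F : G → ℂ} (hF : IsClassFunction G F)
    (h0 : ∀ g, ¬ p ∣ orderOf g → F g = 0) :
    indFun C[hS.P] (fun c : C[hS.P] => F c) = (Nat.card hS.E : ℂ) • F := by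
  funext g
  rw [Pi.smul_apply, smul_eq_mul]
  have hord : ∀ x g : G, orderOf (x⁻¹ * g * x) = orderOf g := fun x g => by
    rw [show x⁻¹ * g * x = MulAut.conj x⁻¹ g by simp, MulEquiv.orderOf_eq]
  by_cases hg : p ∣ orderOf g
  · obtain ⟨x₀, hx₀⟩ := hS.exists_conj_cent hg
    set c := x₀⁻¹ * g * x₀ with hc
    have hgc : g = x₀ * c * x₀⁻¹ := by rw [hc]; group
    have hFc : F g = F c := by rw [hgc]; exact hF c x₀
    have hIc : indFun C[hS.P] (fun c : C[hS.P] => F c) g =
        indFun C[hS.P] (fun c : C[hS.P] => F c) c := by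
      rw [hgc]; exact isClassFunction_indFun (H := C[hS.P]) _ c x₀
    rw [hIc, hFc]
    have hcs : p ∣ orderOf c := by rw [hc, hord]; exact hg
    set N := Subgroup.normalizer (hS.P : Set G) with hNdef
    have hterm : ∀ x : G, extendByZero C[hS.P] (fun c : C[hS.P] => F c) (x⁻¹ * c * x) =
        extendByZero N (fun _ => F c) x := by
      intro x
      by_cases hxN : x ∈ N
      · have hxc : x⁻¹ * c * x ∈ C[hS.P] := by
          refine Subgroup.mem_centralizer_iff.2 fun u hu => ?_
          have hu' : x * u * x⁻¹ ∈ hS.P := (Subgroup.mem_normalizer_iff.1 hxN u).1 hu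
          have e := Subgroup.mem_centralizer_iff.1 hx₀ _ hu'
          calc u * (x⁻¹ * c * x) = x⁻¹ * (x * u * x⁻¹ * c) * x := by group
            _ = x⁻¹ * (c * (x * u * x⁻¹)) * x := by rw [e]
            _ = x⁻¹ * c * x * u := by group
        rw [extendByZero_of_mem _ _ hxN, extendByZero_of_mem _ _ hxc]
        simpa using hF c x⁻¹
      · rw [extendByZero_of_notMem _ _ hxN, extendByZero_of_notMem]
        exact fun hxc => hxN (hS.conj_cent hx₀ hcs hxc)
    simp only [indFun, hterm]
    have s1 := sum_extendByZero N (fun _ => F c) (fun _ => (1 : ℂ))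
    simp only [mul_one, Finset.sum_const, Finset.card_univ, nsmul_eq_mul,
      ← Nat.card_eq_fintype_card] at s1
    rw [s1, hNdef, hS.card_normalizer, Nat.cast_mul]
    have hC0 : (Nat.card C[hS.P] : ℂ) ≠ 0 := Nat.cast_ne_zero.2 Nat.card_pos.ne'
    field_simp
  · rw [h0 g hg, mul_zero]
    simp only [indFun]
    rw [Finset.sum_eq_zero, mul_zero]
    intro x _
    by_cases hx : x⁻¹ * g * x ∈ C[hS.P]
    · rw [extendByZero_of_mem _ _ hx]
      exact h0 _ (by rw [hord]; exact hg)
    · exact extendByZero_of_notMem _ _ hx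

/-- The average of a class function supported on singular elements is computed in `P`. -/
theorem Setting.sum_singular {F : G → ℂ} (hF : IsClassFunction G F)
    (h0 : ∀ g, ¬ p ∣ orderOf g → F g = 0)
    (hz : ∀ (y : hS.P) (z : Subgroup.center G), F ((y : G) * z) = F y) :
    (Nat.card G : ℂ)⁻¹ * ∑ g, F g = ((Nat.card hS.E : ℂ) * p)⁻¹ * ∑ y : hS.P, F y := by
  have h := classInner_indFun C[hS.P] (fun c : C[hS.P] => F c)
    (χ := fun _ => (1 : ℂ)) (fun _ _ => rfl)
  rw [hS.indFun_singular hF h0, classInner_smul_left] at h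
  simp only [classInner, map_one, mul_one] at h
  have hC : Nat.card C[hS.P] = p * Nat.card (Subgroup.center G) := by
    rw [← Nat.card_congr (Equiv.ofBijective _ hS.bijective_prod), Nat.card_prod, hS.card]
  have hsum : ∑ c : C[hS.P], F c = (Nat.card (Subgroup.center G) : ℂ) * ∑ y : hS.P, F y := by
    rw [← (Equiv.ofBijective _ hS.bijective_prod).sum_comp, Fintype.sum_prod_type, Finset.mul_sum]
    refine Finset.sum_congr rfl fun y _ => ?_
    simp only [Equiv.ofBijective_apply]
    rw [Finset.sum_congr rfl fun z _ => hz y z, Finset.sum_const, Finset.card_univ, nsmul_eq_mul,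
      ← Nat.card_eq_fintype_card]
  rw [hsum, hC] at h
  have hm0 : (Nat.card (Subgroup.center G) : ℂ) ≠ 0 := Nat.cast_ne_zero.2 Nat.card_pos.ne'
  have hp0 : (p : ℂ) ≠ 0 := Nat.cast_ne_zero.2 (Fact.out : p.Prime).ne_zero
  have he0 : (Nat.card hS.E : ℂ) ≠ 0 := Nat.cast_ne_zero.2 Nat.card_pos.ne'
  push_cast at h
  generalize (Nat.card G : ℂ)⁻¹ * ∑ g, F g = X at h ⊢
  field_simp at h ⊢
  linear_combination h

theorem Setting.sum_P (f : ZMod p → ℂ) : ∑ y : hS.P, f (hS.k y) = ∑ x : ZMod p, f x :=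
  Fintype.sum_equiv hS.k _ _ fun _ => rfl

theorem Setting.sum_P_erase (f : ZMod p → ℂ) :
    ∑ y ∈ Finset.univ.erase (1 : hS.P), f (hS.k y) =
      ∑ x ∈ Finset.univ.erase (0 : ZMod p), f x := by
  rw [Finset.sum_erase_eq_sub (Finset.mem_univ _), Finset.sum_erase_eq_sub (Finset.mem_univ _),
    hS.k_one, hS.sum_P]

/-- An element of the complement outside the centre is conjugate to all elements of its coset. -/
theorem Setting.apply_coset {f : G → ℂ} (hf : IsClassFunction G f) (y : hS.P) {h : hS.H}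
    (hh : hS.r h ≠ 1) : f ((y : G) * h) = f h := by
  set c : ZMod p := (hS.r h : ZMod p)
  have hc : (1 : ZMod p) - c ≠ 0 := fun e => hh (Units.ext (sub_eq_zero.1 e).symm)
  set w : hS.P := hS.k.symm (hS.k y / (1 - c))
  let w' : hS.P := ⟨(h : G) * w * (h : G)⁻¹,
    (Subgroup.mem_normalizer_iff.1 (hS.H_le h.2) (w : G)).1 w.2⟩
  have hw' : hS.k w' = c * hS.k w := hS.act h w w' rfl
  have hw : hS.k w = hS.k y / (1 - c) := Equiv.apply_symm_apply _ _
  have hy : w = y * w' := by
    refine hS.k.injective ?_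
    rw [hS.k_add, hw', hw]
    field_simp
    ring
  have hy' : (w : G) = y * ((h : G) * w * (h : G)⁻¹) := congrArg Subtype.val hy
  have e : (y : G) * h = (w : G) * h * (w : G)⁻¹ := by
    conv_rhs => enter [1, 1]; rw [hy']
    group
  rw [e]
  exact hf _ _

theorem Setting.comm_H (a b : hS.H) : a * b = b * a := by
  refine (MonoidHom.isMulCommutative_of_isCyclic_of_ker_le_center hS.r.rangeRestrict fun h hh => ?_).is_comm.comm a b
  rw [MonoidHom.ker_rangeRestrict, MonoidHom.mem_ker, hS.r_ker] at hh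
  exact Subgroup.mem_center_iff.2 fun x => Subtype.ext (Subgroup.mem_center_iff.1 hh x)

/-! ## Multiplicities in the fixed points of `P` -/

/-- The trace on the fixed points of `P`, as a function on the complement. -/
noncomputable def Setting.fixPart (f : G → ℂ) (h : hS.H) : ℂ :=
  (p : ℂ)⁻¹ * ∑ y : hS.P, f ((y : G) * h)

theorem Setting.fixPart_of_ne {f : G → ℂ} (hf : IsClassFunction G f) {h : hS.H}
    (hh : hS.r h ≠ 1) : hS.fixPart f h = f h := by
  rw [fixPart, Finset.sum_congr rfl fun y _ => hS.apply_coset hf y hh, Finset.sum_const,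
    Finset.card_univ, nsmul_eq_mul, ← Nat.card_eq_fintype_card, hS.card, ← mul_assoc,
    inv_mul_cancel₀ (Nat.cast_ne_zero.2 (Fact.out : p.Prime).ne_zero), one_mul]

theorem Setting.fixPart_one (f : G → ℂ) :
    hS.fixPart f 1 = (p : ℂ)⁻¹ * (f 1 + ∑ y ∈ Finset.univ.erase (1 : hS.P), f y) := by
  rw [fixPart]
  simp only [OneMemClass.coe_one, mul_one]
  rw [← Finset.add_sum_erase _ _ (Finset.mem_univ (1 : hS.P)), OneMemClass.coe_one]

theorem Setting.fixPart_isClassFunction (f : G → ℂ) : IsClassFunction hS.H (hS.fixPart f) :=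
  fun x y => by rw [hS.comm_H y x, mul_inv_cancel_right]

/-- The multiplicities in the fixed points are natural numbers. -/
theorem Setting.exists_nat_fix {f : G → ℂ} (hf : IsCharacter G f) (χ : IrrCharacter hS.H) :
    ∃ n : ℕ, classInner (hS.fixPart f) (χ : hS.H → ℂ) = (n : ℂ) := by
  set N := Subgroup.normalizer (hS.P : Set G)
  let e := Equiv.ofBijective _ hS.bijective_normalizer
  have hsplit : ∀ n : N, (n : G) = ((e.symm n).1 : G) * ((e.symm n).2 : G) := fun n => by
    conv_lhs => rw [← e.apply_symm_apply n]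
    rfl
  let π : N →* hS.H := MonoidHom.mk' (fun n => (e.symm n).2) fun n m => by
    have hc : ((e.symm n).2 : G) * (e.symm m).1 * ((e.symm n).2 : G)⁻¹ ∈ hS.P :=
      (Subgroup.mem_normalizer_iff.1 (hS.H_le (e.symm n).2.2) _).1 (e.symm m).1.2
    have : e.symm (n * m) = ((e.symm n).1 * ⟨_, hc⟩, (e.symm n).2 * (e.symm m).2) := by
      rw [Equiv.symm_apply_eq]
      refine Subtype.ext ?_
      show ((n * m : N) : G) = ((e.symm n).1 : G) *
        (((e.symm n).2 : G) * (e.symm m).1 * ((e.symm n).2 : G)⁻¹) *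
        (((e.symm n).2 : G) * ((e.symm m).2 : G))
      rw [Subgroup.coe_mul, hsplit n, hsplit m]
      group
    rw [this]
  obtain ⟨n, hn⟩ := (hf.comp N.subtype).exists_nat_classInner (χ.2.isCharacter.comp π)
  refine ⟨n, ?_⟩
  rw [← hn]
  simp only [classInner, Setting.fixPart]
  rw [← e.sum_comp, Fintype.sum_prod_type, Finset.sum_comm, ← Nat.card_congr e, Nat.card_prod,
    hS.card, Nat.cast_mul, mul_inv, Finset.mul_sum, Finset.mul_sum]
  refine Finset.sum_congr rfl fun h _ => ?_
  have hval : ∀ y : hS.P, π (e (y, h)) = h := fun y => congrArg Prod.snd (e.symm_apply_apply (y, h))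
  have hcoe : ∀ y : hS.P, ((e (y, h) : N) : G) = (y : G) * h := fun y => rfl
  simp only [Subgroup.coe_subtype, hval, hcoe]
  rw [← Finset.sum_mul]
  ring

/-- The sum over the central elements of the fixed part. -/
theorem Setting.classInner_fixPart {f : G → ℂ} (hf : IsClassFunction G f) {lam : Subgroup.center G →* ℂˣ}
    (hfz : ∀ (z : Subgroup.center G) (g : G), f ((z : G) * g) = (lam z : ℂ) * f g)
    (ν : hS.H →* ℂˣ) (hν : ∀ z : Subgroup.center G, ν ⟨z, hS.center_le z.2⟩ = lam z) :
    classInner (hS.fixPart f) (fun h => (ν h : ℂ)) = (Nat.card hS.H : ℂ)⁻¹ *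
      ((Nat.card (Subgroup.center G) : ℂ) * hS.fixPart f 1 +
        ∑ h ∈ Finset.univ.filter (fun h : hS.H => hS.r h ≠ 1), f h * conj (ν h : ℂ)) := by
  classical
  simp only [classInner]
  congr 1
  rw [← Finset.sum_filter_add_sum_filter_not Finset.univ (fun h : hS.H => hS.r h = 1)]
  congr 1
  · rw [Finset.sum_congr rfl (g := fun _ => hS.fixPart f 1) fun h hh => ?_, Finset.sum_const,
      nsmul_eq_mul]
    · congr 2
      rw [← Fintype.card_subtype, ← Nat.card_eq_fintype_card]
      exact Nat.card_congr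
        { toFun := fun h => ⟨h.1, (hS.r_ker h.1).1 h.2⟩
          invFun := fun z => ⟨⟨z, hS.center_le z.2⟩, (hS.r_ker _).2 z.2⟩
          left_inv := fun _ => rfl
          right_inv := fun _ => rfl }
    · have hc := (hS.r_ker h).1 (Finset.mem_filter.1 hh).2
      have hn : ‖(ν h : ℂ)‖ = 1 := Complex.norm_eq_one_of_pow_eq_one (n := orderOf h)
        (by rw [← Units.val_pow_eq_pow_val, ← map_pow, pow_orderOf_eq_one, map_one, Units.val_one])
        (orderOf_pos h).ne'
      have e1 : hS.fixPart f h = (lam ⟨h, hc⟩ : ℂ) * hS.fixPart f 1 := by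
        simp only [Setting.fixPart, OneMemClass.coe_one, mul_one, Finset.mul_sum]
        refine Finset.sum_congr rfl fun y _ => ?_
        rw [Subgroup.mem_center_iff.1 hc, hfz ⟨h, hc⟩ y]
        ring
      have e2 : (lam ⟨h, hc⟩ : ℂ) = (ν h : ℂ) := congrArg Units.val (hν ⟨h, hc⟩).symm
      rw [e1, e2, mul_comm (ν h : ℂ), mul_assoc, Complex.mul_conj, Complex.normSq_eq_norm_sq, hn]
      simp
  · exact Finset.sum_congr rfl fun h hh => by
      rw [hS.fixPart_of_ne hf (Finset.mem_filter.1 hh).2]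

end Cfsg.Lib.Feit
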