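import Cfsg.Agent.Lib.Feit.Eigen
import Cfsg.Agent.Lib.Feit.OddPlus

/-!
# The square of an exceptional character of degree `p - e`

Three members of a family that are absent from the square cannot be such that one of their indices
is a sum of two elements of `E`. For an odd `e` this gives `e ≤ t - 3`.
-/

set_option autoImplicit false
set_option linter.unusedSectionVars false
set_option linter.style.haveILetI false
set_option maxHeartbeats 1000000

namespace Cfsg.Lib.Feit

open Cfsg Cfsg.Lib.Char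
open scoped ComplexConjugate Classical Kronecker Polynomial

universe u

noncomputable local instance (priority := high) fintypeSubgroupFeitSquare {A : Type u}
    [Group A] [Fintype A] (K : Subgroup A) : Fintype K := Fintype.ofFinite K

local notation "ψc" => (ZMod.stdAddChar : AddChar (ZMod _) ℂ)

variable {p : ℕ} [hp : Fact p.Prime]

theorem prod_std_sub_erase (a : ZMod p) :
    ∏ b ∈ Finset.univ.erase a, (ψc a - ψc b) = (p : ℂ) * ψc (-a) := by
  rw [Finset.prod_bij (s := Finset.univ.erase a) (t := Finset.univ.erase (0 : ZMod p))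
    (g := fun c => ψc a * (1 - ψc c)) (fun b _ => b - a)
    (fun b hb => Finset.mem_erase.2 ⟨sub_ne_zero.2 (Finset.ne_of_mem_erase hb), Finset.mem_univ _⟩)
    (fun b _ b' _ h => sub_left_injective h)
    (fun c hc => ⟨c + a, Finset.mem_erase.2 ⟨fun h => Finset.ne_of_mem_erase hc (add_eq_right.1 h),
      Finset.mem_univ _⟩, add_sub_cancel_right c a⟩)
    (fun b _ => by rw [mul_sub, mul_one, ← AddChar.map_add_eq_mul, add_sub_cancel]),
    Finset.prod_mul_distrib, prod_one_sub_std, Finset.prod_const,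
    Finset.card_erase_of_mem (Finset.mem_univ _), Finset.card_univ, ZMod.card, mul_comm,
    ← AddChar.map_nsmul_eq_pow, nsmul_eq_mul, Nat.cast_sub hp.out.one_le, ZMod.natCast_self]
  congr 2
  ring

theorem pow_card_ne {E : Subgroup (ZMod p)ˣ} {u v : (ZMod p)ˣ}
    (h : ¬ ∃ x : E, (u : ZMod p) * val₀ E x = v) :
    (u : ZMod p) ^ Nat.card E ≠ (v : ZMod p) ^ Nat.card E := by
  intro heq
  refine h ?_
  suffices hmem : u⁻¹ * v ∈ E by
    exact ⟨⟨_, hmem⟩, by
                          show (u : ZMod p) * ((u⁻¹ * v : (ZMod p)ˣ) : ZMod p) = v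
                          rw [← Units.val_mul, mul_inv_cancel_left]⟩
  have he : 0 < Nat.card E := Nat.card_pos
  have hsub : (Finset.univ.filter fun w : (ZMod p)ˣ => w ∈ E) ⊆
      Finset.univ.filter fun w : (ZMod p)ˣ => w ^ Nat.card E = 1 := fun w hw => by
    rw [Finset.mem_filter] at hw ⊢
    refine ⟨Finset.mem_univ _, ?_⟩
    have : (⟨w, hw.2⟩ : E) ^ Nat.card E = 1 := pow_card_eq_one'
    exact congrArg Subtype.val this
  have hle : (Finset.univ.filter fun w : (ZMod p)ˣ => w ^ Nat.card E = 1).card ≤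
      (Finset.univ.filter fun w : (ZMod p)ˣ => w ∈ E).card := by
    rw [← Fintype.card_subtype (fun w => w ∈ E), ← Nat.card_eq_fintype_card]
    exact IsCyclic.card_pow_eq_one_le he
  have hm : u⁻¹ * v ∈ Finset.univ.filter fun w : (ZMod p)ˣ => w ^ Nat.card E = 1 := by
    refine Finset.mem_filter.2 ⟨Finset.mem_univ _, ?_⟩
    rw [mul_pow, inv_pow, inv_mul_eq_one]
    exact Units.ext (by simpa using heq)
  rw [← Finset.eq_of_subset_of_card_le hsub hle] at hm
  exact (Finset.mem_filter.1 hm).2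

variable {G : Type u} [Group G] [Fintype G] {hS : Setting p G} {δ : ℤ}
  {lam : Subgroup.center G →* ℂˣ} (L : Fam hS (-1) lam) (F : Fam hS δ (lam * lam)) {t : ℕ}
  (ht : p = Nat.card hS.E * t + 1)

include ht in
/-- Three absent members are not in the support of the counts. -/
theorem Fam.not_absent (h3 : 3 ≤ t) (hd : charDegree (L.ψ 1 : G → ℂ) + Nat.card hS.E = p)
    (u1 u2 u3 : (ZMod p)ˣ) (h12 : ¬ ∃ x : hS.E, (u1 : ZMod p) * val₀ hS.E x = u2)
    (h13 : ¬ ∃ x : hS.E, (u1 : ZMod p) * val₀ hS.E x = u3)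
    (h23 : ¬ ∃ x : hS.E, (u2 : ZMod p) * val₀ hS.E x = u3)
    (hsum : ∃ x z : hS.E, val₀ hS.E x + val₀ hS.E z = u1)
    (h1 : classInner (L.prod L 1 1) (F.ψ u1 : G → ℂ) = 0)
    (h2 : classInner (L.prod L 1 1) (F.ψ u2 : G → ℂ) = 0)
    (h3' : classInner (L.prod L 1 1) (F.ψ u3 : G → ℂ) = 0) : False := by
  obtain ⟨V, hV⟩ := Cfsg.Lib.Block.exists_valuationSubring_natCast p
  obtain ⟨n, R, i, j, hR, htr, hz, hY0, hunit⟩ := L.exists_eigen_unit ht V hV h3 hd
  set E := hS.E with hE
  set e := Nat.card E with he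
  have he0 : 0 < e := Nat.card_pos
  have h3e : e * 3 ≤ e * t := Nat.mul_le_mul_left e h3
  set γ := gam (p := p) V with hγ
  have hγ0 : γ ≠ 0 := gam_ne_zero V
  have hγ1 : γ < 1 := gam_lt_one V hV
  set S := outSet E with hSdef
  set H := eigMat S (R (hS.y₁ : G)) with hH
  have hHint : ∀ a b, IsIntPoly (p := p) V fun c => H c a b :=
    eigMat_intPoly fun a b => hR _ a b
  have h0S : (0 : ZMod p) ∈ S := mem_outSet.2 fun ⟨x, hx⟩ => val₀_ne E x hx
  have hq : ∀ a, V.valuation (H a i j) = 1 := fun a => by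
    rw [show H a i j = H 0 i j + (H a i j - H 0 i j) by ring,
      Valuation.map_add_eq_of_lt_left, hunit 0 h0S]
    rw [hunit 0 h0S]
    exact lt_of_le_of_lt ((hHint i j).val_sub_le a 0) hγ1
  -- the sets of exponents
  set w : ZMod p := (u1 : ZMod p) with hw
  set T := S.filter fun a => w - a ∈ S with hT
  set W := Sᶜ.image fun b => w - b with hW
  set C := Sᶜ ∩ W with hC
  have hmemW : ∀ b, b ∈ W ↔ w - b ∈ Sᶜ := fun b => by
    rw [hW, Finset.mem_image]
    constructor
    · rintro ⟨c, hc, rfl⟩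
      rwa [sub_sub_cancel]
    · intro hb
      exact ⟨w - b, hb, sub_sub_cancel w b⟩
  have hTc : Tᶜ = Sᶜ ∪ W := by
    ext b
    rw [Finset.mem_union, hmemW]
    simp only [hT, Finset.mem_compl, Finset.mem_filter]
    tauto
  have hCsub : C ⊆ Tᶜ := hTc ▸ fun b hb => Finset.mem_union_left _ (Finset.mem_inter.1 hb).1
  have hcardU : Tᶜ.card ≤ 2 * e := by
    rw [hTc]
    refine (Finset.card_union_le _ _).trans ?_
    have hc : Sᶜ.card = e := card_outSet_compl E
    have : W.card ≤ Sᶜ.card := Finset.card_image_le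
    omega
  obtain ⟨x₀, z₀, hxz⟩ := hsum
  set c0 : ZMod p := val₀ E x₀ with hc0
  have hc0C : c0 ∈ C := by
    refine Finset.mem_inter.2 ⟨?_, (hmemW _).2 ?_⟩
    · rw [Finset.mem_compl, hSdef, mem_outSet, not_not]; exact ⟨x₀, rfl⟩
    · rw [Finset.mem_compl, hSdef, mem_outSet, not_not, ← hxz]
      exact ⟨z₀, by rw [hc0, add_sub_cancel_left]⟩
  -- the two eigen-matrices of the tensor square
  let R2 : G →* Matrix (Fin n × Fin n) (Fin n × Fin n) ℂ :=
    { toFun := fun g => R g ⊗ₖ R g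
      map_one' := by rw [map_one, Matrix.one_kronecker_one]
      map_mul' := fun g h => by rw [map_mul, Matrix.mul_kronecker_mul] }
  have hR2 : ∀ g, R2 g = R g ⊗ₖ R g := fun g => rfl
  set den : ZMod p → ℂ := fun a => ∏ b ∈ T.erase a, (ψc a - ψc b) with hden
  set ξ : ZMod p → ℂ := fun a => ∏ b ∈ C.erase c0, (ψc a - ψc b) with hξ
  have hξint : IsIntPoly V ξ := IsIntPoly.prod _ fun b _ => IsIntPoly.std_sub b
  set M := ∑ a ∈ T, (den a)⁻¹ • (H a ⊗ₖ H (w - a)) with hM
  set M' := ∑ a ∈ T, (ξ a * (den a)⁻¹) • (H a ⊗ₖ H (w - a)) with hM'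
  have hMV : ∀ k l, V.valuation (M k l) ≤ 1 := fun k l => by
    have h := ((hHint k.1 l.1).mul ((hHint k.2 l.2).comp_sub w)).val_divided_le T
    simp only [hM, hden, Matrix.sum_apply, Matrix.smul_apply, smul_eq_mul,
      inv_mul_eq_div]
    exact h
  have hM'V : ∀ k l, V.valuation (M' k l) ≤ 1 := fun k l => by
    have h := (hξint.mul ((hHint k.1 l.1).mul ((hHint k.2 l.2).comp_sub w))).val_divided_le T
    simp only [hM', hden, Matrix.sum_apply, Matrix.smul_apply, smul_eq_mul]
    refine le_of_eq_of_le (congrArg _ (Finset.sum_congr rfl fun a _ => ?_)) h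
    simp only [Matrix.kroneckerMap_apply, div_eq_mul_inv]
    ring
  have hTS : ∀ a ∈ T, a ∈ S ∧ w - a ∈ S := fun a ha => Finset.mem_filter.1 ha
  have hMy : R2 (hS.y₁ : G) * M = ψc w • M := by
    simp only [hM, Matrix.mul_sum, Finset.smul_sum, Matrix.mul_smul]
    refine Finset.sum_congr rfl fun a ha => ?_
    rw [hR2, ← Matrix.mul_kronecker_mul, hH, (eigMat_eigen hY0 (hTS a ha).1).1,
      (eigMat_eigen hY0 (hTS a ha).2).1, Matrix.smul_kronecker, Matrix.kronecker_smul, smul_smul,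
      smul_smul, smul_smul, show ψc w = ψc a * ψc (w - a) by
        rw [← AddChar.map_add_eq_mul, add_sub_cancel]]
    congr 1
    ring
  have hM'y : M' * R2 (hS.y₁ : G) = ψc w • M' := by
    simp only [hM', Finset.sum_mul, Finset.smul_sum, Matrix.smul_mul]
    refine Finset.sum_congr rfl fun a ha => ?_
    rw [hR2, ← Matrix.mul_kronecker_mul, hH, (eigMat_eigen hY0 (hTS a ha).1).2,
      (eigMat_eigen hY0 (hTS a ha).2).2, Matrix.smul_kronecker, Matrix.kronecker_smul, smul_smul,
      smul_smul, smul_smul, show ψc w = ψc a * ψc (w - a) by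
        rw [← AddChar.map_add_eq_mul, add_sub_cancel]]
    congr 1
    ring
  set P : ZMod p → ℂ := fun a => ∏ b ∈ S.erase a, (ψc a - ψc b) with hP
  have hprod : (M' * M) (i, i) (j, j) =
      ∑ a ∈ T, ξ a * (den a)⁻¹ * (den a)⁻¹ * (P a * P (w - a)) * (H a i j * H (w - a) i j) := by
    simp only [hM, hM', Finset.sum_mul, Matrix.mul_sum, Matrix.sum_apply, Matrix.smul_mul,
      Matrix.mul_smul, Matrix.smul_apply, ← Matrix.mul_kronecker_mul, Matrix.kronecker_apply,
      smul_eq_mul]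
    refine Finset.sum_congr rfl fun a ha => ?_
    rw [Finset.sum_eq_single a]
    · rw [hH, eigMat_mul hY0 (hTS a ha).1 (hTS a ha).1, eigMat_mul hY0 (hTS a ha).2 (hTS a ha).2,
        Matrix.smul_apply, Matrix.smul_apply, smul_eq_mul, smul_eq_mul]
      simp only [hP]
      ring
    · intro b hb hne
      rw [hH, eigMat_mul hY0 (hTS a ha).1 (hTS b hb).1,
        show ∏ c ∈ S.erase a, (ψc b - ψc c) = 0 from
          Finset.prod_eq_zero (Finset.mem_erase.2 ⟨hne, (hTS b hb).1⟩) (sub_self _), zero_smul]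
      simp
    · exact fun h => absurd ha h
  -- the value
  set Q : ZMod p → ℂ := fun a => ∏ b ∈ Tᶜ \ C, (ψc a - ψc b) with hQ
  set ρ : ZMod p → ℂ := fun a => ψc a * ψc a * ψc (-w) * ∏ b ∈ W, (-ψc (b - w) * ψc a) with hρ
  have hratio : ∀ a ∈ T, P a * P (w - a) = den a * den a * (ρ a * Q a) := by
    intro a ha
    obtain ⟨haS, haS'⟩ := hTS a ha
    set GE := ∏ b ∈ Sᶜ, (ψc a - ψc b) with hGE
    set GW := ∏ b ∈ W, (ψc a - ψc b) with hGW
    set GC := ∏ b ∈ C, (ψc a - ψc b) with hGC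
    set GU := ∏ b ∈ Tᶜ, (ψc a - ψc b) with hGU
    set W' := ∏ b ∈ W, (-ψc (w - a - b)) with hW'
    have hsplit : ∀ (A : Finset (ZMod p)) (c : ZMod p), c ∈ A →
        (∏ b ∈ A.erase c, (ψc c - ψc b)) * ∏ b ∈ Aᶜ, (ψc c - ψc b) = (p : ℂ) * ψc (-c) := by
      intro A c hc
      have hdis : Disjoint (A.erase c) Aᶜ := Finset.disjoint_left.2 fun x hx hx' =>
        Finset.mem_compl.1 hx' (Finset.mem_of_mem_erase hx)
      rw [← prod_std_sub_erase c, ← Finset.prod_union hdis]
      refine Finset.prod_congr ?_ fun _ _ => rfl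
      ext x
      simp only [Finset.mem_union, Finset.mem_erase, Finset.mem_compl, Finset.mem_univ, and_true]
      refine ⟨?_, fun h => (Classical.em (x ∈ A)).imp (fun hx => ⟨h, hx⟩) id⟩
      rintro (⟨hne, -⟩ | hx) rfl
      · exact hne rfl
      · exact hx hc
    have e1 : P a * GE = (p : ℂ) * ψc (-a) := hsplit S a haS
    have e2 : P (w - a) * (W' * GW) = (p : ℂ) * ψc (-(w - a)) := by
      rw [← hsplit S (w - a) haS']
      congr 1
      rw [hW', hGW, ← Finset.prod_mul_distrib, hW,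
        Finset.prod_image fun x _ y _ h => sub_right_injective h]
      refine Finset.prod_congr rfl fun b _ => ?_
      rw [show w - a - (w - b) = b - a by ring, neg_mul, mul_sub, ← AddChar.map_add_eq_mul,
        ← AddChar.map_add_eq_mul, sub_add_cancel, show b - a + (w - b) = w - a by ring, neg_sub]
    have e3 : den a * GU = (p : ℂ) * ψc (-a) := hsplit T a ha
    have e4 : GU * GC = GE * GW := by
      rw [hGU, hTc, hGC, hC, Finset.prod_union_inter]
    have e5 : Q a * GC = GU := Finset.prod_sdiff hCsub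
    have e6 : (∏ b ∈ W, (-ψc (b - w) * ψc a)) * W' = 1 := by
      rw [hW', ← Finset.prod_mul_distrib]
      refine Finset.prod_eq_one fun b _ => ?_
      rw [neg_mul, neg_mul_neg, ← AddChar.map_add_eq_mul, ← AddChar.map_add_eq_mul,
        show b - w + a + (w - a - b) = 0 by ring, AddChar.map_zero_eq_one]
    have e7 : ψc (-(w - a)) = ψc (-a) * (ψc a * ψc a * ψc (-w)) := by
      rw [← AddChar.map_add_eq_mul, ← AddChar.map_add_eq_mul, ← AddChar.map_add_eq_mul]
      congr 1
      ring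
    have hne : GE * (W' * GW) ≠ 0 := by
      have hp0 : (p : ℂ) ≠ 0 := Nat.cast_ne_zero.2 hp.out.ne_zero
      have hψ : ∀ c : ZMod p, ψc c ≠ 0 := fun c h => by
        have h' := val_std V c
        rw [h, map_zero] at h'
        exact zero_ne_one h'
      intro h
      rcases mul_eq_zero.1 h with h | h
      · rw [h, mul_zero, eq_comm] at e1
        exact mul_ne_zero hp0 (hψ _) e1
      · rw [h, mul_zero, eq_comm] at e2
        exact mul_ne_zero hp0 (hψ _) e2
    refine mul_right_cancel₀ hne ?_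
    calc P a * P (w - a) * (GE * (W' * GW))
        = (P a * GE) * (P (w - a) * (W' * GW)) := by ring
      _ = ((p : ℂ) * ψc (-a)) * ((p : ℂ) * ψc (-(w - a))) := by rw [e1, e2]
      _ = (den a * GU) * (den a * GU) * (ψc a * ψc a * ψc (-w)) := by rw [e3, e7]; ring
      _ = den a * den a * (ψc a * ψc a * ψc (-w)) * (GU * (Q a * GC)) := by rw [e5]; ring
      _ = den a * den a * (ψc a * ψc a * ψc (-w)) * Q a * (GE * GW) *
          ((∏ b ∈ W, (-ψc (b - w) * ψc a)) * W') := by rw [e6, ← e4]; ring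
      _ = _ := by simp only [hρ]; ring
  set f : ZMod p → ℂ := fun a => ξ a * (ρ a * Q a) * (H a i j * H (w - a) i j) with hf
  have hfint : IsIntPoly V f := by
    refine (hξint.mul (IsIntPoly.mul ?_ (IsIntPoly.prod _ fun b _ => IsIntPoly.std_sub b))).mul
      ((hHint i j).mul ((hHint i j).comp_sub w))
    exact ((IsIntPoly.std.mul IsIntPoly.std).mul (IsIntPoly.const (std_mem V _))).mul
      (IsIntPoly.prod _ fun b _ => (IsIntPoly.const (V.neg_mem _ (std_mem V _))).mul IsIntPoly.std)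
  have hden0 : ∀ a, den a ≠ 0 := fun a h => by
    obtain ⟨b, hb, hb0⟩ := Finset.prod_eq_zero_iff.1 h
    exact Finset.ne_of_mem_erase hb (std_inj (sub_eq_zero.1 hb0)).symm
  have hval : (M' * M) (i, i) (j, j) = (∑ a, f a) - f c0 := by
    have hU : ∑ a ∈ Tᶜ, f a = f c0 := by
      refine Finset.sum_eq_single_of_mem c0 (hCsub hc0C) fun b hb hne => ?_
      by_cases hbC : b ∈ C
      · simp only [hf, hξ]
        rw [show ∏ c ∈ C.erase c0, (ψc b - ψc c) = 0 from
          Finset.prod_eq_zero (Finset.mem_erase.2 ⟨hne, hbC⟩) (sub_self _), zero_mul, zero_mul]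
      · simp only [hf, hQ]
        rw [show ∏ c ∈ Tᶜ \ C, (ψc b - ψc c) = 0 from
          Finset.prod_eq_zero (Finset.mem_sdiff.2 ⟨hb, hbC⟩) (sub_self _)]
        ring
    rw [← Finset.sum_add_sum_compl T f, hU, add_sub_cancel_right, hprod]
    refine Finset.sum_congr rfl fun a ha => ?_
    rw [hratio a ha]
    simp only [hf]
    have := hden0 a
    field_simp
  set N := (C.erase c0).card + (Tᶜ \ C).card with hN
  have hN2 : N < 2 * e := by
    have h := Finset.card_sdiff_add_card_eq_card hCsub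
    have h' : 0 < C.card := Finset.card_pos.2 ⟨c0, hc0C⟩
    rw [hN, Finset.card_erase_of_mem hc0C]
    omega
  have hNp : N < p - 1 := by omega
  have hfc0 : V.valuation (f c0) = γ ^ N := by
    simp only [hf, hξ, hρ, hQ, map_mul, map_prod, val_std, Valuation.map_neg, hq, one_mul, mul_one,
      Finset.prod_const_one]
    rw [Finset.prod_congr rfl fun b hb => val_std_sub V (Finset.ne_of_mem_erase hb).symm,
      Finset.prod_congr rfl fun b hb => val_std_sub V (a := c0) (b := b) fun h => ?_,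
      Finset.prod_const, Finset.prod_const, ← pow_add]
    exact (Finset.mem_sdiff.1 hb).2 (h ▸ hc0C)
  have hMM : V.valuation ((M' * M) (i, i) (j, j)) = γ ^ N := by
    have hlt : V.valuation (∑ a, f a) < V.valuation (-f c0) := by
      rw [Valuation.map_neg, hfc0]
      exact lt_of_le_of_lt (hfint.val_sum_le hV)
        (pow_lt_pow_right_of_lt_one₀ (zero_lt_iff.2 hγ0) hγ1 hNp)
    rw [hval, sub_eq_add_neg, Valuation.map_add_eq_of_lt_right _ hlt, Valuation.map_neg, hfc0]
  -- the combination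
  obtain ⟨Cη, hCη, hexp⟩ := exists_eta_expansion V hV E (by omega)
  set l1 : ℤ := ((((u2 : ZMod p) ^ e).val : ℤ) - (((u3 : ZMod p) ^ e).val : ℤ)) with hl1
  set l2 : ℤ := ((((u3 : ZMod p) ^ e).val : ℤ) - (((u1 : ZMod p) ^ e).val : ℤ)) with hl2
  set l3 : ℤ := ((((u1 : ZMod p) ^ e).val : ℤ) - (((u2 : ZMod p) ^ e).val : ℤ)) with hl3
  set π : ℂ := ψc (1 : ZMod p) - 1 with hπ
  have hπv : V.valuation π = γ := rfl
  set c : (ZMod p)ˣ → ℂ := fun u => ((if u = u1 then (l1 : ℂ) else 0) +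
    (if u = u2 then (l2 : ℂ) else 0) + (if u = u3 then (l3 : ℂ) else 0)) / π ^ (2 * e) with hc
  have hcsum : ∀ g : (ZMod p)ˣ → ℂ, ∑ u, c u * g u =
      ((l1 : ℂ) * g u1 + (l2 : ℂ) * g u2 + (l3 : ℂ) * g u3) / π ^ (2 * e) := fun g => by
    simp only [hc, div_mul_eq_mul_div, ← Finset.sum_div, add_mul, Finset.sum_add_distrib, ite_mul,
      zero_mul, Finset.sum_ite_eq', Finset.mem_univ, if_true]
  have hl : (l1 : ℂ) + l2 + l3 = 0 := by rw [hl1, hl2, hl3]; push_cast; ring
  have hc0' : ∑ u, c u = 0 := by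
    have h := hcsum fun _ => 1
    simp only [mul_one, hl, zero_div] at h
    exact h
  have hca : ∀ x : ZMod p, x ≠ 0 →
      V.valuation (∑ u, c u * eta hS.E (-(u : ZMod p)) x) ≤ 1 := fun x _ => by
    obtain ⟨r1, hr1, e1⟩ := hexp (-(u1 : ZMod p)) x
    obtain ⟨r2, hr2, e2⟩ := hexp (-(u2 : ZMod p)) x
    obtain ⟨r3, hr3, e3⟩ := hexp (-(u3 : ZMod p)) x
    rw [hcsum fun u => eta hS.E (-(u : ZMod p)) x, map_div₀, map_pow, hπv,
      div_le_one₀ (pow_pos (zero_lt_iff.2 hγ0) _), e1, e2, e3]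
    set n1 := ((-(u1 : ZMod p) * x) ^ e).val
    set n2 := ((-(u2 : ZMod p) * x) ^ e).val
    set n3 := ((-(u3 : ZMod p) * x) ^ e).val
    rw [show (l1 : ℂ) * ((e : ℂ) + Cη * n1 + r1) + l2 * ((e : ℂ) + Cη * n2 + r2) +
        l3 * ((e : ℂ) + Cη * n3 + r3) =
        (Cη * ((l1 * (n1 : ℤ) + l2 * (n2 : ℤ) + l3 * (n3 : ℤ) : ℤ) : ℂ)) +
          ((l1 : ℂ) * r1 + l2 * r2 + l3 * r3) by
      push_cast; linear_combination (e : ℂ) * hl]
    refine Valuation.map_add_le _ ?_ (Valuation.map_add_le _ (Valuation.map_add_le _ ?_ ?_) ?_)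
    · rw [map_mul, hCη]
      refine (mul_le_of_le_one_left' (pow_le_one' hγ1.le e)).trans ((val_of_dvd V ?_).trans
        (pow_le_pow_right_of_le_one' hγ1.le (by omega)))
      simp only [n1, n2, n3, hl1, hl2, hl3]
      push_cast
      simp only [ZMod.natCast_zmod_val, neg_mul_comm, mul_pow]
      ring
    all_goals (rw [map_mul]; exact le_trans (mul_le_of_le_one_left' (val_intCast_le V _)) (by
      assumption))
  have hX : ∑ g, (∑ u, c u * conj ((F.ψ u : G → ℂ) g)) • R2 g = 0 := by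
    have hkill : ∀ u, c u = 0 ∨ ∑ g, conj ((F.ψ u : G → ℂ) g) • R2 g = 0 := fun u => by
      by_cases hu : u = u1 ∨ u = u2 ∨ u = u3
      · refine Or.inr (proj_eq_zero R2 (F.ψ u) ?_)
        have hf : (fun g => (R2 g).trace) = L.prod L 1 1 := funext fun g => by
          rw [hR2, Matrix.trace_kronecker, htr]; rfl
        rw [hf]
        rcases hu with rfl | rfl | rfl <;> assumption
      · push Not at hu
        exact Or.inl (by simp [hc, hu.1, hu.2.1, hu.2.2])
    simp only [Finset.sum_smul]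
    rw [Finset.sum_comm]
    refine Finset.sum_eq_zero fun u _ => ?_
    simp only [mul_smul, ← Finset.smul_sum]
    rcases hkill u with h | h <;> simp [h]
  have hpair := F.pairing R2 (fun g k l => by
      rw [hR2, Matrix.kronecker_apply, map_mul]
      exact mul_le_one' (hR _ _ _) (hR _ _ _))
    (fun z => by
      rw [hR2, hz, Matrix.smul_kronecker, Matrix.kronecker_smul, Matrix.one_kronecker_one,
        smul_smul, MonoidHom.mul_apply, Units.val_mul])
    M' M hM'V hMV w hM'y hMy c hc0' hca (i, i) (j, j)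
  rw [hX, Matrix.mul_zero, Matrix.zero_mul, Matrix.zero_apply, zero_sub, Valuation.map_neg] at hpair
  have hK : (∑ u : (ZMod p)ˣ, if ∃ x : hS.E, (u : ZMod p) * val₀ hS.E x = w then c u else 0) =
      (l1 : ℂ) / π ^ (2 * e) := by
    have h := hcsum fun u => if ∃ x : hS.E, (u : ZMod p) * val₀ hS.E x = w then 1 else 0
    simp only [mul_ite, mul_one, mul_zero] at h
    have hsymm : ∀ v : (ZMod p)ˣ, (∃ x : hS.E, (v : ZMod p) * val₀ hS.E x = u1) →
        ∃ x : hS.E, (u1 : ZMod p) * val₀ hS.E x = v := fun v ⟨x, hx⟩ => ⟨x⁻¹, by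
      rw [← hx, mul_assoc, val₀, val₀, ← Units.val_mul, ← Subgroup.coe_mul, mul_inv_cancel]
      simp⟩
    have hself : ∃ x : hS.E, (u1 : ZMod p) * val₀ hS.E x = u1 := ⟨1, by simp [val₀]⟩
    rw [h, hw, if_pos hself, if_neg fun hh => h12 (hsymm u2 hh),
      if_neg fun hh => h13 (hsymm u3 hh), add_zero, add_zero]
  have hl1v : V.valuation (l1 : ℂ) = 1 := by
    refine val_intCast V hV ?_
    rw [hl1]
    push_cast
    rw [ZMod.natCast_zmod_val, ZMod.natCast_zmod_val, sub_ne_zero]
    exact pow_card_ne h23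
  have hδv : V.valuation (δ : ℂ) = 1 := by
    rcases F.sign with h | h <;> simp [h]
  have hmv : V.valuation (Nat.card (Subgroup.center G) : ℂ) = 1 :=
    val_natCast V hV fun h => hS.not_dvd_center ((ZMod.natCast_eq_zero_iff _ _).1 h)
  rw [hK, map_mul, map_mul, map_mul, map_mul, map_div₀, map_pow, hπv, hmv, hδv, hl1v, hMM,
    val_natCast_p, one_mul, one_mul, mul_assoc, one_div] at hpair
  have h' : (γ ^ (2 * e))⁻¹ * γ ^ N ≤ 1 := by
    refine le_of_mul_le_mul_left ?_ (pow_pos (zero_lt_iff.2 hγ0) (p - 1))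
    rw [mul_one]
    exact hpair
  rw [inv_mul_le_iff₀ (pow_pos (zero_lt_iff.2 hγ0) _), mul_one] at h'
  exact absurd h' (not_le.2 (pow_lt_pow_right_of_lt_one₀ (zero_lt_iff.2 hγ0) hγ1 hN2))

include ht in
/-- An odd order of the inertial quotient is at most `t - 3`. -/
theorem Fam.card_E_le {L : Fam hS (-1) lam} (F : Fam hS 1 (lam * lam)) (hp2 : p ≠ 2)
    (h3 : 3 ≤ t) (heo : Odd (Nat.card hS.E))
    (hd : charDegree (L.ψ 1 : G → ℂ) + Nat.card hS.E = p)
    (hw : (charDegree (F.ψ 1 : G → ℂ) : ℤ) ≠ 1 * Nat.card hS.E) :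
    Nat.card hS.E + 3 ≤ t := by
  obtain ⟨A, hA, hA0, hM0, hM⟩ := L.odd_plus_bound ht hp2 h3 heo hd F hw
  by_contra hlt
  have hAneg : A < 0 := by
    by_contra hA'
    push Not at hA'
    have : (0 : ℤ) ≤ (t : ℤ) * A := mul_nonneg (Int.natCast_nonneg _) hA'
    omega
  set f : (ZMod p)ˣ → ℤ := fun u => A + cnt hS.E 1 1 u with hf
  have hrow : ∑ u, f u = (Nat.card hS.E : ℤ) * ((t : ℤ) * A + Nat.card hS.E) := by
    have h := row_total hS.E ht A 1 1
    simp only [one_mul, opp_self_zero hp2 heo, Nat.cast_zero, sub_zero] at h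
    exact h
  set Z := Finset.univ.filter fun u => f u = 0 with hZ
  have hcard : (Nat.card hS.E : ℤ) * 3 ≤ Z.card := by
    have h1 : ((Finset.univ.filter fun u => ¬ f u = 0).card : ℤ) ≤ ∑ u, f u := by
      calc ((Finset.univ.filter fun u => ¬ f u = 0).card : ℤ)
          = ∑ u ∈ Finset.univ.filter (fun u => ¬ f u = 0), (1 : ℤ) := by simp
        _ ≤ ∑ u ∈ Finset.univ.filter (fun u => ¬ f u = 0), f u := Finset.sum_le_sum fun u hu => by
            have := hA0 1 u
            have := (Finset.mem_filter.1 hu).2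
            simp only [hf] at *
            omega
        _ ≤ ∑ u, f u := Finset.sum_le_sum_of_subset_of_nonneg (Finset.subset_univ _)
            fun u _ _ => hA0 1 u
    rw [hrow] at h1
    have h2 := Finset.card_filter_add_card_filter_not (s := (Finset.univ : Finset (ZMod p)ˣ))
      (fun u => f u = 0)
    rw [Finset.card_univ] at h2
    have h3' := card_units_eq hS.E ht
    have h2' : (Z.card : ℤ) + ((Finset.univ.filter fun u => ¬ f u = 0).card : ℤ) =
        (Nat.card hS.E : ℤ) * t := by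
      rw [hZ, ← h3']; exact_mod_cast h2
    have := mul_le_mul_of_nonneg_left hM (Int.natCast_nonneg (Nat.card hS.E))
    nlinarith
  have hpick : ∀ u : (ZMod p)ˣ,
      (Finset.univ.filter fun v : (ZMod p)ˣ => ∃ x : hS.E, (u : ZMod p) * val₀ hS.E x = v).card ≤
        Nat.card hS.E := fun u => by
    rw [Nat.card_eq_fintype_card, ← Finset.card_univ]
    refine Finset.card_le_card_of_surjOn (fun x : hS.E => u * (x : (ZMod p)ˣ)) fun v hv => ?_
    obtain ⟨x, hx⟩ := (Finset.mem_filter.1 (Finset.mem_coe.1 hv)).2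
    exact ⟨x, Finset.mem_coe.2 (Finset.mem_univ _), Units.ext hx⟩
  set K := fun u : (ZMod p)ˣ =>
    Finset.univ.filter fun v : (ZMod p)ˣ => ∃ x : hS.E, (u : ZMod p) * val₀ hS.E x = v with hK
  have he : 0 < Nat.card hS.E := Nat.card_pos
  have hcard' : Nat.card hS.E * 3 ≤ Z.card := by exact_mod_cast hcard
  obtain ⟨u1, hu1⟩ := Finset.card_pos.1 (show 0 < Z.card by omega)
  obtain ⟨u2, hu2, hu2'⟩ := Finset.exists_mem_notMem_of_card_lt_card
    (s := K u1) (t := Z) (by have := hpick u1; simp only [hK]; omega)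
  obtain ⟨u3, hu3, hu3'⟩ := Finset.exists_mem_notMem_of_card_lt_card
    (s := K u1 ∪ K u2) (t := Z) (by
      have := hpick u1
      have := hpick u2
      have := Finset.card_union_le (K u1) (K u2)
      simp only [hK] at *
      omega)
  have habs : ∀ u ∈ Z, classInner (L.prod L 1 1) (F.ψ u : G → ℂ) = 0 := fun u hu => by
    rw [hA u, show A + (cnt hS.E 1 1 u : ℤ) = 0 from (Finset.mem_filter.1 hu).2, Int.cast_zero]
  have hc : 0 < cnt hS.E 1 1 u1 := by
    have := (Finset.mem_filter.1 hu1).2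
    simp only [hf] at this
    omega
  obtain ⟨⟨x, z⟩, hq⟩ := Finset.card_pos.1 hc
  have hxz : val₀ hS.E x + val₀ hS.E z = u1 := by
    have h := (Finset.mem_filter.1 hq).2
    simpa using h
  simp only [hK, Finset.mem_union, Finset.mem_filter, Finset.mem_univ, true_and, not_or] at hu2' hu3'
  exact L.not_absent F ht h3 hd u1 u2 u3 hu2' hu3'.1 hu3'.2 ⟨x, z, hxz⟩ (habs u1 hu1)
    (habs u2 hu2) (habs u3 hu3)

end Cfsg.Lib.Feit
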